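import Cfsg.Agent.OrthFix.Sign
import Cfsg.Agent.Lib.Forms.Witt
import Cfsg.Prelude.Def_GeometricClasses

/-!
Non-degenerate subspaces and their signs.
-/

set_option autoImplicit false
set_option linter.unusedSectionVars false

namespace Cfsg.Agent.OrthFix

open Finset QuadraticMap
open Cfsg.Agent.UnitaryOrthogonal (PolarND orth polar_self_eq form_add hypSum binForm)

universe u v

variable {F : Type u} [Field F] [Fintype F] {V : Type v} [AddCommGroup V] [Module F V]
variable [FiniteDimensional F V] (Q : QuadraticForm F V)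

/-- The polar form is non-degenerate on `U`. -/
def NDOn (U : Submodule F V) : Prop := PolarND (Q.comp U.subtype)

/-- The sign of the restriction to `U`. -/
def SigOn (U : Submodule F V) (ε : ℤ) : Prop := Sig (Q.comp U.subtype) ε

/-- The vectors orthogonal to `U`. -/
def perp (U : Submodule F V) : Submodule F V := LinearMap.BilinForm.orthogonal (polarBilin Q) U

variable {Q} {U U' M W : Submodule F V} {ε ε' : ℤ}

theorem mem_perp {x : V} : x ∈ perp Q U ↔ ∀ u ∈ U, polar Q u x = 0 := Iff.rfl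

theorem polar_comp_subtype (u v : U) : polar (Q.comp U.subtype) u v = polar Q (u : V) v := rfl

theorem ndOn_iff : NDOn Q U ↔ ∀ u ∈ U, (∀ v ∈ U, polar Q u v = 0) → u = 0 :=
  ⟨fun h u hu huv => congrArg Subtype.val (h ⟨u, hu⟩ fun v => huv v v.2),
    fun h u hu => Subtype.ext (h u u.2 fun v hv => hu ⟨v, hv⟩)⟩

theorem ndOn_bot : NDOn Q (⊥ : Submodule F V) :=
  ndOn_iff.2 fun _ hu _ => (Submodule.mem_bot F).1 hu

theorem ndOn_top (h : PolarND Q) : NDOn Q (⊤ : Submodule F V) :=
  ndOn_iff.2 fun u _ huv => h u fun v => huv v trivial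

theorem sigOn_top (h : Sig Q ε) : SigOn Q (⊤ : Submodule F V) ε :=
  h.congr { Submodule.topEquiv.symm with map_app' := fun _ => rfl }

theorem sig_of_sigOn_top (h : SigOn Q (⊤ : Submodule F V) ε) : Sig Q ε :=
  Sig.congr h { Submodule.topEquiv with map_app' := fun _ => rfl }

theorem SigOn.unique (h : SigOn Q U ε) (h' : SigOn Q U ε') : ε = ε' := Sig.unique h h'

theorem NDOn.valid (hU : NDOn Q U) (h : SigOn Q U ε) : Valid F (Module.finrank F U) ε :=
  Sig.valid hU h

theorem sigOn_bot : SigOn Q (⊥ : Submodule F V) 1 := by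
  obtain ⟨ε, h⟩ := exists_sig (ndOn_bot (Q := Q))
  rwa [← (Sig.valid (ndOn_bot (Q := Q)) h).zero (finrank_bot F V)]

theorem NDOn.disjoint (hU : NDOn Q U) : Disjoint U (perp Q U) :=
  Submodule.disjoint_def.2 fun x hx hx' =>
    ndOn_iff.1 hU x hx fun v hv => (polar_comm Q x v).trans (mem_perp.1 hx' v hv)

theorem NDOn.isCompl (hU : NDOn Q U) : IsCompl U (perp Q U) := by
  refine ⟨hU.disjoint, codisjoint_iff.2 (eq_top_iff.2 fun x _ => ?_)⟩
  let B : U →ₗ[F] Module.Dual F U := polarBilin (Q.comp U.subtype)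
  have hB : Function.Surjective B := (LinearMap.injective_iff_surjective_of_finrank_eq_finrank
    (Subspace.dual_finrank_eq (K := F) (V := U)).symm).1
    ((injective_iff_map_eq_zero B).2 fun u hu => hU u fun v => LinearMap.congr_fun hu v)
  obtain ⟨u, hu⟩ := hB ((polarBilin Q x).comp U.subtype)
  refine Submodule.mem_sup.2 ⟨u, u.2, x - u, mem_perp.2 fun w hw => ?_, by abel⟩
  have e : polar Q (u : V) w = polar Q x w := LinearMap.congr_fun hu ⟨w, hw⟩
  rw [polar_comm, polar_sub_left, e, sub_self]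

theorem NDOn.isCompl_within (hM : NDOn Q M) (h : M ≤ U) :
    Disjoint M (U ⊓ perp Q M) ∧ M ⊔ (U ⊓ perp Q M) = U :=
  ⟨hM.disjoint.mono_right inf_le_right, by
    rw [inf_comm, ← sup_inf_assoc_of_le _ h, hM.isCompl.sup_eq_top, top_inf_eq]⟩

theorem finrank_sup_of_disjoint (h : Disjoint U U') :
    Module.finrank F ↥(U ⊔ U') = Module.finrank F U + Module.finrank F U' := by
  rw [← Submodule.finrank_sup_add_finrank_inf_eq, h.eq_bot, finrank_bot, add_zero]

/-- Orthogonal sums of non-degenerate subspaces. -/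
theorem NDOn.sup (hU : NDOn Q U) (hU' : NDOn Q U') (ho : U' ≤ perp Q U) :
    Disjoint U U' ∧ NDOn Q (U ⊔ U') ∧
      Module.finrank F ↥(U ⊔ U') = Module.finrank F U + Module.finrank F U' ∧
      ∀ ε ε', SigOn Q U ε → SigOn Q U' ε' →
        SigOn Q (U ⊔ U') (ε * ε' * sig F (Module.finrank F U) (Module.finrank F U')) := by
  have hd : Disjoint U U' := hU.disjoint.mono_right ho
  have hor : ∀ u : U, ∀ v : U', polar Q (u : V) v = 0 := fun u v => mem_perp.1 (ho v.2) u u.2
  let f : U × U' →ₗ[F] V := U.subtype.coprod U'.subtype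
  have hfinj : Function.Injective f := by
    rw [injective_iff_map_eq_zero]
    rintro ⟨u, v⟩ huv
    have hu : (u : V) = -(v : V) := eq_neg_of_add_eq_zero_left huv
    have h0 : (u : V) = 0 :=
      Submodule.disjoint_def.1 hd _ u.2 (by rw [hu]; exact U'.neg_mem v.2)
    rw [h0] at hu
    exact Prod.ext (Subtype.ext h0) (Subtype.ext (neg_eq_zero.1 hu.symm))
  have hrange : LinearMap.range f = U ⊔ U' := by
    rw [LinearMap.range_coprod, Submodule.range_subtype, Submodule.range_subtype]
  let e : (U × U') ≃ₗ[F] ↥(U ⊔ U') :=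
    (LinearEquiv.ofInjective f hfinj).trans (LinearEquiv.ofEq _ _ hrange)
  let i : ((Q.comp U.subtype).prod (Q.comp U'.subtype)).IsometryEquiv (Q.comp (U ⊔ U').subtype) :=
    { e with map_app' := fun p =>
        (form_add (p.1 : V) (p.2 : V)).trans ((congrArg (_ + ·) (hor p.1 p.2)).trans (add_zero _)) }
  have hnd : PolarND ((Q.comp U.subtype).prod (Q.comp U'.subtype)) := by
    intro p hp
    refine Prod.ext (hU p.1 fun x => ?_) (hU' p.2 fun x => ?_)
    · simpa [polar] using hp (x, 0)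
    · simpa [polar] using hp (0, x)
  refine ⟨hd, hnd.congr i, finrank_sup_of_disjoint hd, fun ε ε' h h' => ?_⟩
  haveI := Module.finite_of_finite (R := F) (M := V)
  exact (Sig.prod h h' (two_ne_zero_of_odd hU) (two_ne_zero_of_odd hU')).congr i

/-- The orthogonal complement inside a non-degenerate subspace. -/
theorem NDOn.inf_perp (hU : NDOn Q U) (hM : NDOn Q M) (h : M ≤ U) :
    NDOn Q (U ⊓ perp Q M) ∧
      Module.finrank F M + Module.finrank F ↥(U ⊓ perp Q M) = Module.finrank F U ∧
      ∀ εU εM, SigOn Q U εU → SigOn Q M εM → SigOn Q (U ⊓ perp Q M)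
        (εU * εM * sig F (Module.finrank F M) (Module.finrank F ↥(U ⊓ perp Q M))) := by
  obtain ⟨hd, hs⟩ := hM.isCompl_within h
  have hn : NDOn Q (U ⊓ perp Q M) := ndOn_iff.2 fun u hu huv => ndOn_iff.1 hU u hu.1 fun v hv => by
    rw [← hs] at hv
    obtain ⟨a, ha, b, hb, rfl⟩ := Submodule.mem_sup.1 hv
    rw [polar_add_right, huv b hb, polar_comm Q u a, mem_perp.1 hu.2 a ha, add_zero]
  obtain ⟨-, -, hdim, hsig⟩ := hM.sup hn inf_le_right
  rw [hs] at hdim hsig
  refine ⟨hn, hdim.symm, fun εU εM hεU hεM => ?_⟩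
  obtain ⟨ε₂, h₂⟩ := exists_sig hn
  have := hεU.unique (hsig εM ε₂ hεM h₂)
  have e : εU * εM * sig F (Module.finrank F M) (Module.finrank F ↥(U ⊓ perp Q M)) = ε₂ := by
    rw [this]
    linear_combination (ε₂ * sig F (Module.finrank F M) (Module.finrank F ↥(U ⊓ perp Q M)) ^ 2) *
      hεM.mul_self + ε₂ * sig_mul_self (F := F) (Module.finrank F M)
        (Module.finrank F ↥(U ⊓ perp Q M))
  rw [e]
  exact h₂

/-- A subspace isometric to a given form, carried along. -/
theorem exists_sub_aux {A : Type u} [AddCommGroup A] [Module F A] [FiniteDimensional F A]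
    {QA : QuadraticForm F A} (hA : PolarND QA) (hsA : Sig QA ε) (f : A →ₗ[F] V)
    (hf : Function.Injective f) (hQ : ∀ a, Q (f a) = QA a) :
    NDOn Q (LinearMap.range f) ∧ SigOn Q (LinearMap.range f) ε ∧
      Module.finrank F (LinearMap.range f) = Module.finrank F A := by
  let i : QA.IsometryEquiv (Q.comp (LinearMap.range f).subtype) :=
    { LinearEquiv.ofInjective f hf with map_app' := hQ }
  exact ⟨hA.congr i, hsA.congr i, LinearMap.finrank_range_of_inj hf⟩

/-- Which signs occur among the `m`-dimensional subspaces of an `(n, εU)`-space. -/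
structure CanSplit (F : Type*) [Field F] (n : ℕ) (εU : ℤ) (m : ℕ) (ε : ℤ) : Prop where
  le : m ≤ n
  unit : ε = 1 ∨ ε = -1
  zero : m = 0 → ε = 1
  full : m = n → ε = εU
  parity : (2 : F) = 0 → Even m

theorem exists_sub {εU : ℤ} {m : ℕ} (hU : NDOn Q U) (hs : SigOn Q U εU)
    (h : CanSplit F (Module.finrank F U) εU m ε) :
    ∃ W, W ≤ U ∧ Module.finrank F W = m ∧ NDOn Q W ∧ SigOn Q W ε := by
  have hv := hU.valid hs
  set n := Module.finrank F U with hn
  have hm2 : Odd m → (2 : F) ≠ 0 := fun ho h0 => Nat.not_even_iff_odd.2 ho (h.parity h0)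
  have hσ : sig F m (n - m) = 1 ∨ sig F m (n - m) = -1 := mul_self_eq_one_iff.1 (sig_mul_self _ _)
  have hεmul : ε * ε = 1 := mul_self_eq_one_iff.2 h.unit
  have hε' : Valid F (n - m) (ε * εU * sig F m (n - m)) := by
    refine ⟨?_, fun h0 => ?_, fun ho h2 => ?_⟩
    · rcases h.unit with e₁ | e₁ <;> rcases hv.unit with e₂ | e₂ <;> rcases hσ with e₃ | e₃ <;>
        simp [e₁, e₂, e₃]
    · have e := h.full (by have := h.le; omega)
      rw [h0, sig_even_right Even.zero, ← e, mul_one, hεmul]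
    · rcases Nat.even_or_odd n with he | ho'
      · exact Nat.not_even_iff_odd.2 ho ((Nat.even_sub h.le).2 (iff_of_true he (h.parity h2)))
      · exact hv.odd ho' h2
  obtain ⟨A, hA, hsA⟩ := exists_form (F := F) (n := m) (ε := ε) ⟨h.unit, h.zero, hm2⟩
  obtain ⟨B, hB, hsB⟩ := exists_form hε'
  have hS : Sig (A.prod B) εU := by
    have hp := hsA.prod hsB (by rwa [Module.finrank_fintype_fun_eq_card, Fintype.card_fin])
      (by rw [Module.finrank_fintype_fun_eq_card, Fintype.card_fin]; exact hε'.odd)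
    rw [Module.finrank_fintype_fun_eq_card, Fintype.card_fin, Module.finrank_fintype_fun_eq_card,
      Fintype.card_fin] at hp
    have e : ε * (ε * εU * sig F m (n - m)) * sig F m (n - m) = εU := by
      linear_combination (εU * sig F m (n - m) ^ 2) * hεmul +
        εU * sig_mul_self (F := F) m (n - m)
    rwa [e] at hp
  have hnd : PolarND (A.prod B) := by
    intro p hp
    refine Prod.ext (hA p.1 fun x => ?_) (hB p.2 fun x => ?_)
    · simpa [polar] using hp (x, 0)
    · simpa [polar] using hp (0, x)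
  obtain ⟨i⟩ := Sig.isometric hnd hU hS hs (by
    rw [Module.finrank_prod, Module.finrank_fintype_fun_eq_card, Module.finrank_fintype_fun_eq_card,
      Fintype.card_fin, Fintype.card_fin]
    have := h.le; omega)
  let f : (Fin m → F) →ₗ[F] V := U.subtype ∘ₗ i.toLinearEquiv.toLinearMap ∘ₗ LinearMap.inl F _ _
  obtain ⟨h₁, h₂, h₃⟩ := exists_sub_aux (Q := Q) hA hsA f
    (U.injective_subtype.comp (i.toLinearEquiv.injective.comp LinearMap.inl_injective))
    (fun a => by
      show (Q.comp U.subtype) (i (a, 0)) = A a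
      rw [i.map_app, QuadraticMap.prod_apply, QuadraticMap.map_zero, add_zero])
  exact ⟨_, by rintro _ ⟨a, rfl⟩; exact Subtype.coe_prop _,
    by rw [h₃, Module.finrank_fintype_fun_eq_card, Fintype.card_fin], h₁, h₂⟩

/-- The constraint is necessary. -/
theorem canSplit_of_le {εU : ℤ} (hs : SigOn Q U εU) (hW : NDOn Q W) (hWs : SigOn Q W ε)
    (h : W ≤ U) : CanSplit F (Module.finrank F U) εU (Module.finrank F W) ε := by
  refine ⟨Submodule.finrank_mono h, hWs.unit, (hW.valid hWs).zero, fun he => ?_,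
    fun h2 => Nat.not_odd_iff_even.1 fun ho => two_ne_zero_of_odd hW ho h2⟩
  obtain rfl := Submodule.eq_of_le_of_finrank_eq h he
  exact hWs.unique hs

/-- Witt: subspaces of equal dimension and sign are in one orbit. -/
theorem exists_orth_map (hQ : PolarND Q) (hW : NDOn Q W) (hU : NDOn Q U) (hs : SigOn Q W ε)
    (hs' : SigOn Q U ε) (hn : Module.finrank F W = Module.finrank F U) :
    ∃ g ∈ orth Q, W.map (g : V ≃ₗ[F] V).toLinearMap = U := by
  obtain ⟨i⟩ := Sig.isometric hW hU hs hs' hn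
  obtain ⟨g, hg, hgW⟩ := Cfsg.Agent.Forms.witt_quadratic Q (nondegenerate_of_polarND hQ) W U
    i.toLinearEquiv (fun x => i.map_app x)
  refine ⟨g, hg, le_antisymm ?_ fun u hu => ?_⟩
  · rintro _ ⟨w, hw, rfl⟩
    rw [LinearEquiv.coe_coe, hgW ⟨w, hw⟩]
    exact Subtype.coe_prop _
  · obtain ⟨w, hw⟩ := i.toLinearEquiv.surjective ⟨u, hu⟩
    exact ⟨w, w.2, (hgW w).trans (congrArg Subtype.val hw)⟩

/-- Plus type means sign one. -/
theorem sigOn_one_iff {h : ℕ} (hW : NDOn Q W) (hdim : Module.finrank F W = 2 * h) :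
    SigOn Q W 1 ↔ ∃ T : Submodule F V, T ≤ W ∧ (∀ t ∈ T, Q t = 0) ∧ Module.finrank F T = h := by
  constructor
  · intro hs
    obtain ⟨A, hA⟩ : ∃ A : Submodule F (Fin h ⊕ Fin h → F),
        Module.finrank F A = h ∧ ∀ a ∈ A, Cfsg.quadFormPlus h F a = 0 :=
      Forms59.exists_totally_singular_plus h
    have hp : PolarND (UnitaryOrthogonal.qPlus h F) :=
      (UnitaryOrthogonal.polarND_zeroForm.hypSum h).congr (UnitaryOrthogonal.qPlusIso h F).symm
    obtain ⟨i⟩ := Sig.isometric hp hW ((sig_zeroForm.hypSum h).congr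
      (UnitaryOrthogonal.qPlusIso h F).symm) hs
      (by rw [Module.finrank_fintype_fun_eq_card, Fintype.card_sum, Fintype.card_fin, hdim, two_mul])
    refine ⟨(A.map i.toLinearEquiv.toLinearMap).map W.subtype, ?_, ?_, ?_⟩
    · rintro _ ⟨w, -, rfl⟩; exact w.2
    · rintro _ ⟨_, ⟨a, ha, rfl⟩, rfl⟩
      show (Q.comp W.subtype) (i a) = 0
      rw [i.map_app, UnitaryOrthogonal.qPlus_apply, hA.2 a ha]
    · rw [Submodule.finrank_map_subtype_eq, LinearEquiv.finrank_map_eq, hA.1]
  · rintro ⟨T, hTW, hT0, hTd⟩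
    obtain ⟨ε, hε⟩ := exists_sig hW
    rcases hε.unit with rfl | rfl
    · exact hε
    · exfalso
      rcases exists_model hW with ⟨k, hk, ⟨e⟩⟩ | ⟨k, hk, -⟩ | ⟨k, hk, ζ, hζ, ⟨e⟩⟩
      · exact absurd (hε.unique ((sig_zeroForm.hypSum k).congr e.symm)) (by decide)
      · omega
      · have hle := Forms59.finrank_le_of_totally_singular_minus k 1 ζ (binAniso_of hζ)
          ((T.comap W.subtype).map (e.toLinearEquiv.trans
            (UnitaryOrthogonal.minusCoord k F).symm).toLinearMap) (by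
            rintro _ ⟨t, ht, rfl⟩
            show Cfsg.quadFormMinus k F 1 ζ ((UnitaryOrthogonal.minusCoord k F).symm (e t)) = 0
            rw [← UnitaryOrthogonal.qMinus_apply]
            show hypSum k (binForm 1 ζ) (UnitaryOrthogonal.minusCoord k F
              ((UnitaryOrthogonal.minusCoord k F).symm (e t))) = 0
            rw [LinearEquiv.apply_symm_apply, e.map_app]
            exact hT0 _ ht)
        rw [LinearEquiv.finrank_map_eq, (Submodule.comapSubtypeEquivOfLe hTW).finrank_eq, hTd]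
          at hle
        omega

/-- Restriction of an isometry to an invariant subspace. -/
noncomputable def restr (g : orth Q) (U : Submodule F V) (hU : ∀ x ∈ U, g.1 x ∈ U) :
    orth (Q.comp U.subtype) :=
  ⟨LinearEquiv.ofInjectiveEndo (g.1.toLinearMap.restrict hU) fun a b hab =>
    Subtype.ext (g.1.injective (congrArg Subtype.val hab)), fun x => g.2 x⟩

@[simp] theorem restr_apply (g : orth Q) (U : Submodule F V) (hU : ∀ x ∈ U, g.1 x ∈ U) (x : U) :
    ((restr g U hU).1 x : V) = g.1 x := rfl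

theorem inv_mem_of_invariant {g : orth Q} (hU : ∀ x ∈ U, g.1 x ∈ U) :
    ∀ x ∈ U, g.1.symm x ∈ U := by
  intro x hx
  obtain ⟨y, hy⟩ := (restr g U hU).1.surjective ⟨x, hx⟩
  have hy' : g.1 (y : V) = x := congrArg Subtype.val hy
  rw [← hy', LinearEquiv.symm_apply_apply]
  exact y.2

theorem perp_invariant {g : orth Q} (hU : ∀ x ∈ U, g.1 x ∈ U) :
    ∀ x ∈ perp Q U, g.1 x ∈ perp Q U := by
  intro x hx
  refine mem_perp.2 fun u hu => ?_
  have e := UnitaryOrthogonal.map_polar g (g.1.symm u) x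
  rw [LinearEquiv.apply_symm_apply] at e
  rw [e]
  exact mem_perp.1 hx _ (inv_mem_of_invariant hU u hu)

end Cfsg.Agent.OrthFix
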