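import Cfsg.Agent.OrthFix.Count
import Cfsg.Agent.Forms59.OmegaTools

/-!
From matrices in `Ω` to isometries, and the arithmetic form of the criterion.
-/

set_option autoImplicit false
set_option linter.unusedSectionVars false
set_option linter.style.haveILetI false

namespace Cfsg.Agent.OrthFix

open Finset QuadraticMap
open Cfsg.Agent.UnitaryOrthogonal (PolarND orth isometryGroupEquiv form_add form_smul)

universe u v

variable {F : Type u} [Field F] [Fintype F] {ι : Type} [Fintype ι] [DecidableEq ι]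
  {Q : QuadraticForm F (ι → F)} {f : (ι → F) → F}

theorem isNondegenerateOn_iff (hf : ⇑Q = f) (W : Submodule F (ι → F)) :
    Geo.IsNondegenerateOn (polar f) W ↔ NDOn Q W := by
  subst hf
  rw [ndOn_iff]
  constructor
  · intro h u hu huv
    by_contra h0
    obtain ⟨x, hx, hx'⟩ := (h u hu h0).2
    exact hx' (huv x hx)
  · intro h w hw h0
    obtain ⟨x, hx, hx'⟩ : ∃ x ∈ W, polar Q w x ≠ 0 := by
      by_contra hcon
      push Not at hcon
      exact h0 (h w hw hcon)
    exact ⟨⟨x, hx, by rwa [polar_comm]⟩, x, hx, hx'⟩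

theorem isPlusTypeOn_iff (hf : ⇑Q = f) {W : Submodule F (ι → F)} (hW : NDOn Q W) {m : ℕ}
    (hm : Even m) (hd : Module.finrank F W = m) :
    Geo.IsPlusTypeOn f W ↔ SigOn Q W 1 := by
  obtain ⟨h, rfl⟩ := hm
  subst hf
  rw [sigOn_one_iff hW (h := h) (by omega)]
  constructor
  · rintro ⟨U, h1, h2, h3⟩
    exact ⟨U, h1, h2, by omega⟩
  · rintro ⟨U, h1, h2, h3⟩
    exact ⟨U, h1, h2, by omega⟩

theorem sigOn_neg_one_iff {V : Type v} [AddCommGroup V] [Module F V] [FiniteDimensional F V]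
    {Q : QuadraticForm F V} {W : Submodule F V} (hW : NDOn Q W) :
    SigOn Q W (-1) ↔ ¬ SigOn Q W 1 := by
  constructor
  · exact fun h h' => absurd (h.unique h') (by decide)
  · intro h
    obtain ⟨ε, hε⟩ := exists_sig hW
    rcases hε.unit with rfl | rfl
    · exact absurd hε h
    · exact hε

/-- A kind of subspace, as the statements phrase it. -/
def IsKind (Q : QuadraticForm F (ι → F)) (m : ℕ) (ε : ℤ) (P : Submodule F (ι → F) → Prop) : Prop :=
  ∀ W, P W ↔ Module.finrank F W = m ∧ NDOn Q W ∧ SigOn Q W ε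

theorem isKind_plus (hf : ⇑Q = f) {m : ℕ} (hm : Even m) :
    IsKind Q m 1 fun W => Module.finrank F W = m ∧ Geo.IsNondegenerateOn (polar f) W ∧
      Geo.IsPlusTypeOn f W := fun W => by
  dsimp only
  rw [isNondegenerateOn_iff hf]
  exact ⟨fun ⟨a, b, c⟩ => ⟨a, b, (isPlusTypeOn_iff hf b hm a).1 c⟩,
    fun ⟨a, b, c⟩ => ⟨a, b, (isPlusTypeOn_iff hf b hm a).2 c⟩⟩

theorem isKind_minus (hf : ⇑Q = f) {m : ℕ} (hm : Even m) :
    IsKind Q m (-1) fun W => Module.finrank F W = m ∧ Geo.IsNondegenerateOn (polar f) W ∧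
      ¬ Geo.IsPlusTypeOn f W := fun W => by
  dsimp only
  rw [isNondegenerateOn_iff hf]
  exact ⟨fun ⟨a, b, c⟩ => ⟨a, b, (sigOn_neg_one_iff b).2 fun h => c ((isPlusTypeOn_iff hf b hm a).2 h)⟩,
    fun ⟨a, b, c⟩ => ⟨a, b, fun h => (sigOn_neg_one_iff b).1 c ((isPlusTypeOn_iff hf b hm a).1 h)⟩⟩

theorem IsKind.card {m : ℕ} {ε : ℤ} {P : Submodule F (ι → F) → Prop} (h : IsKind Q m ε P) :
    Nat.card {W // P W} = numSubs Q ⊤ m ε :=
  Nat.card_congr (Equiv.subtypeEquivRight fun W =>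
    ⟨fun hW => ⟨le_top, (h W).1 hW⟩, fun hW => (h W).2 hW.2⟩)

theorem exists_form_ne_zero {V : Type v} [AddCommGroup V] [Module F V] {Q : QuadraticForm F V}
    (hQ : PolarND Q) {x : V} (hx : x ≠ 0) : ∃ v, Q v ≠ 0 := by
  by_contra hcon
  push Not at hcon
  exact hx (hQ x fun y => by simp [polar, hcon])

/-- The scalar isometry `z` with `z² = 1`. -/
def scalarOrth (Q : QuadraticForm F (ι → F)) (z : F) (hz : z * z = 1) : orth Q :=
  ⟨LinearEquiv.smulOfNeZero F (ι → F) z (fun h => by rw [h, mul_zero] at hz; exact zero_ne_one hz),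
    fun x => by
      show Q (z • x) = Q x
      rw [form_smul, hz, one_mul]⟩

theorem pow_scalarOrth (z : F) (hz : z * z = 1) (n : ℕ) (x : ι → F) :
    ((scalarOrth Q z hz) ^ n).1 x = z ^ n • x := by
  induction n generalizing x with
  | zero => simp
  | succ n ih =>
    rw [pow_succ, UnitaryOrthogonal.coe_mul_apply, ih, pow_succ, mul_smul]
    rfl

theorem toLin'_eq (hf : ⇑Q = f) (h : isometryGroup F f) (x : ι → F) :
    Matrix.toLin' ((h : GL ι F) : Matrix ι ι F) x =
      (isometryGroupEquiv Q (fun v => congrFun hf v) h).1 x := rfl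

theorem invariant_iff (hf : ⇑Q = f) (h : isometryGroup F f) (W : Submodule F (ι → F)) :
    W.map (Matrix.toLin' ((h : GL ι F) : Matrix ι ι F)) ≤ W ↔
      ∀ x ∈ W, (isometryGroupEquiv Q (fun v => congrFun hf v) h).1 x ∈ W :=
  ⟨fun H x hx => H ⟨x, hx, toLin'_eq hf h x⟩, by
    rintro H _ ⟨x, hx, rfl⟩
    rw [toLin'_eq hf h x]
    exact H x hx⟩

theorem exists_omega_of_pow (hf : ⇑Q = f) (hQ : PolarND Q) (hn : Fintype.card ι ≠ 4) {r : ℕ}
    (hr : Odd r) {g : orth Q} (hg : g ^ r = 1) :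
    ∃ h : isometryGroup F f, h ∈ Omega F f ∧ isometryGroupEquiv Q (fun v => congrFun hf v) h = g ∧
      h ^ r = 1 := by
  subst hf
  obtain ⟨h, rfl⟩ := (isometryGroupEquiv Q fun v => rfl).surjective g
  have hh : h ^ r = 1 := (isometryGroupEquiv Q fun v => rfl).injective (by rw [map_pow, hg, map_one])
  refine ⟨h, ?_, rfl, hh⟩
  obtain ⟨k, hk⟩ := hr
  rw [show h = h ^ (k + 1) * h ^ (k + 1) by
    rw [← pow_add, show k + 1 + (k + 1) = r + 1 by omega, pow_succ, hh, one_mul]]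
  exact Forms59.sq_mem_omega (nondegenerate_of_polarND hQ) (Or.inr hn) _

/-- All elements of odd prime order fix a member of a family. -/
theorem forall_orderOf_iff (hf : ⇑Q = f) (hQ : PolarND Q) (hn : Fintype.card ι ≠ 4) {r : ℕ}
    [Fact r.Prime] (hr : Odd r) (P : Submodule F (ι → F) → Prop) :
    (∀ x : GL ι F, x ∈ Geo.omegaGL f → orderOf x = r →
      ∃ W, P W ∧ W.map (Matrix.toLin' (x : Matrix ι ι F)) ≤ W) ↔
    ∀ g : orth Q, g ^ r = 1 → g ≠ 1 → ∃ W, P W ∧ ∀ x ∈ W, g.1 x ∈ W := by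
  constructor
  · intro H g hg hg1
    obtain ⟨h, hh, rfl, hhr⟩ := exists_omega_of_pow hf hQ hn hr hg
    have hord : orderOf (h : GL ι F) = r := by
      rw [Subgroup.orderOf_coe]
      exact orderOf_eq_prime hhr fun h1 => hg1 (by rw [h1, map_one])
    obtain ⟨W, hW, hinv⟩ := H _ ⟨h, hh, rfl⟩ hord
    exact ⟨W, hW, (invariant_iff hf h W).1 hinv⟩
  · rintro H _ ⟨h, -, rfl⟩ hord
    change orderOf (h : GL ι F) = r at hord
    rw [Subgroup.orderOf_coe] at hord
    obtain ⟨W, hW, hinv⟩ := H (isometryGroupEquiv Q (fun v => congrFun hf v) h)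
      (by rw [← map_pow, ← hord, pow_orderOf_eq_one, map_one])
      (fun h1 => by
        rw [(isometryGroupEquiv Q (fun v => congrFun hf v)).injective (h1.trans (map_one _).symm),
          orderOf_one] at hord
        exact (Fact.out : r.Prime).one_lt.ne hord)
    exact ⟨W, hW, (invariant_iff hf h W).2 hinv⟩

/-- The same for elements of `Ω` modulo scalars. -/
theorem forall_scalar_iff (hf : ⇑Q = f) (hQ : PolarND Q) (hn : Fintype.card ι ≠ 4)
    (hne : Nonempty ι) {r : ℕ} [Fact r.Prime] (hr : Odd r) (P : Submodule F (ι → F) → Prop) :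
    (∀ x : GL ι F, x ∈ Geo.omegaGL f →
      (∃ z : F, ((x ^ r : GL ι F) : Matrix ι ι F) = z • (1 : Matrix ι ι F)) →
      (∀ z : F, (x : Matrix ι ι F) ≠ z • (1 : Matrix ι ι F)) →
      ∃ W, P W ∧ W.map (Matrix.toLin' (x : Matrix ι ι F)) ≤ W) ↔
    ∀ g : orth Q, g ^ r = 1 → g ≠ 1 → ∃ W, P W ∧ ∀ x ∈ W, g.1 x ∈ W := by
  obtain ⟨j⟩ := hne
  have he : (Pi.single j (1 : F) : ι → F) ≠ 0 := by simp
  obtain ⟨v, hv⟩ := exists_form_ne_zero hQ he
  have hsq : ∀ (h : isometryGroup F f) (z : F),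
      ((h : GL ι F) : Matrix ι ι F) = z • (1 : Matrix ι ι F) → z * z = 1 := fun h z hz => by
    have h1 := (isometryGroupEquiv Q (fun v => congrFun hf v) h).2 v
    rw [← toLin'_eq hf h v, hz, map_smul, Matrix.toLin'_one, LinearMap.smul_apply, LinearMap.id_apply,
      form_smul] at h1
    exact mul_eq_right₀ hv |>.1 h1
  constructor
  · intro H g hg hg1
    obtain ⟨h, hh, rfl, hhr⟩ := exists_omega_of_pow hf hQ hn hr hg
    obtain ⟨W, hW, hinv⟩ := H (h : GL ι F) ⟨h, hh, rfl⟩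
      ⟨1, by rw [← Subgroup.coe_pow, hhr, one_smul]; rfl⟩ (fun z hz => hg1 (by
        have hz1 := hsq h z hz
        have hz2 : z ^ r = 1 := by
          have e : (((h ^ r : isometryGroup F f) : GL ι F) : Matrix ι ι F) = z ^ r • (1 : Matrix ι ι F) := by
            rw [Subgroup.coe_pow, Units.val_pow_eq_pow_val, hz, smul_pow, one_pow]
          rw [hhr] at e
          simpa using (congrFun (congrFun e j) j).symm
        obtain ⟨k, hk⟩ := hr
        rw [hk, pow_succ, pow_mul, pow_two, hz1, one_pow, one_mul] at hz2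
        subst hz2
        rw [one_smul] at hz
        have h1 : h = 1 := Subtype.ext (Units.ext hz)
        rw [h1, map_one]))
    exact ⟨W, hW, (invariant_iff hf h W).1 hinv⟩
  · rintro H _ ⟨h, -, rfl⟩ ⟨z, hz⟩ hns
    have hz1 : z * z = 1 := hsq (h ^ r) z (by rw [Subgroup.coe_pow]; exact hz)
    set g' := isometryGroupEquiv Q (fun v => congrFun hf v) h with hg'
    have hcomm : Commute (scalarOrth Q z hz1) g' := UnitaryOrthogonal.orth_ext fun x => by
      show z • g'.1 x = g'.1 (z • x)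
      rw [map_smul]
    have hg : (scalarOrth Q z hz1 * g') ^ r = 1 := by
      refine UnitaryOrthogonal.orth_ext fun x => ?_
      rw [hcomm.mul_pow, UnitaryOrthogonal.coe_mul_apply, pow_scalarOrth, ← map_pow, ← toLin'_eq hf,
        Subgroup.coe_pow]
      have hz' : (((h : GL ι F) ^ r : GL ι F) : Matrix ι ι F) = z • (1 : Matrix ι ι F) := hz
      rw [hz', map_smul, Matrix.toLin'_one, LinearMap.smul_apply, LinearMap.id_apply, smul_smul]
      obtain ⟨k, hk⟩ := hr
      rw [hk, pow_succ, pow_mul, pow_two, hz1, one_pow, one_mul, hz1, one_smul]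
      rfl
    have hgx : ∀ x, g'.1 x = z • (scalarOrth Q z hz1 * g').1 x := fun x => by
      show g'.1 x = z • z • g'.1 x
      rw [smul_smul, hz1, one_smul]
    obtain ⟨W, hW, hinv⟩ := H _ hg (fun h1 => hns z (by
      refine Matrix.toLin'.injective (LinearMap.ext fun x => ?_)
      show Matrix.toLin' ((h : GL ι F) : Matrix ι ι F) x = _
      rw [toLin'_eq hf h x, ← hg', hgx, h1, map_smul, Matrix.toLin'_one]
      rfl))
    exact ⟨W, hW, (invariant_iff hf h W).2 fun x hx => by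
      rw [← hg', hgx]; exact W.smul_mem z (hinv x hx)⟩

theorem forall_kind_congr {m : ℕ} {ε : ℤ} {P : Submodule F (ι → F) → Prop} (hk : IsKind Q m ε P)
    (r : ℕ) :
    (∀ g : orth Q, g ^ r = 1 → g ≠ 1 → ∃ W, P W ∧ ∀ x ∈ W, g.1 x ∈ W) ↔
    ∀ g : orth Q, g ^ r = 1 → g ≠ 1 → ∃ W : Submodule F (ι → F),
      (Module.finrank F W = m ∧ NDOn Q W ∧ SigOn Q W ε) ∧ ∀ x ∈ W, g.1 x ∈ W :=
  forall_congr' fun _ => imp_congr_right fun _ => imp_congr_right fun _ =>
    exists_congr fun W => and_congr_left' (hk W)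

end Cfsg.Agent.OrthFix
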