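import Cfsg.Agent.OrthFix.Count

/-!
The criterion in terms of residues.
-/

set_option autoImplicit false
set_option linter.unusedSectionVars false

namespace Cfsg.Agent.OrthFix

open QuadraticMap
open Cfsg.Agent.UnitaryOrthogonal (PolarND orth)

universe u v

variable {F : Type u} [Field F] [Fintype F] {r i c : ℕ} {b : ℤ}
variable {V : Type v} [AddCommGroup V] [Module F V] [FiniteDimensional F V] [Finite V]
  {Q : QuadraticForm F V}

/-- The condition for every element to fix a subspace. -/
def Cond (c : ℕ) (b : ℤ) (n : ℕ) (εV : ℤ) (m : ℕ) (ε : ℤ) : Prop :=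
  (n % c = 0 ∧ (εV = -(b ^ (n / c)) ∨ (m % c = 0 ∧ ε * b ^ (m / c) = 1))) ∨
  (0 < n % c ∧ c ≤ m ∧ m % c ≤ n % c ∧ (m % c = 0 → ε * b ^ (m / c) = 1) ∧
    (m % c = n % c → ε * b ^ (m / c) = εV * b ^ (n / c)))

theorem pow_unit (S : Setup F r i c b) (k : ℕ) : b ^ k = 1 ∨ b ^ k = -1 := by
  rw [← mul_self_eq_one_iff, ← mul_pow, S.mul_self, one_pow]

theorem unit_mul {x y : ℤ} (hx : x = 1 ∨ x = -1) (hy : y = 1 ∨ y = -1) : x * y = 1 ∨ x * y = -1 := by
  rcases hx with rfl | rfl <;> rcases hy with rfl | rfl <;> simp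

theorem exists_feas_iff (S : Setup F r i c b) {T C : ℕ} {εC : ℤ} (hT : TopC c b C εC) {m : ℕ}
    {ε : ℤ} (hm0 : 0 < m) (hm : m < T * c + C) (hε : ε = 1 ∨ ε = -1) (hpar : (2 : F) = 0 → Even m) :
    (∃ j, Feas F c b T C εC m ε j) ↔
      C = c ∨ (m % c ≤ C ∧ (m % c = 0 → ε * b ^ (m / c) = 1) ∧
        (m % c = C → ε * b ^ (m / c) = εC)) := by
  have hc := S.c_pos
  have hdm : m / c * c + m % c = m := Nat.div_add_mod' m c
  have hlt := Nat.mod_lt m hc
  have hCle := hT.le
  have hpar' : ∀ j, j * c ≤ m → (2 : F) = 0 → Even (m - j * c) := fun j hj h2 =>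
    (Nat.even_sub hj).2 (iff_of_true (hpar h2) (S.c_even.mul_left j))
  have hle : ∀ j, j * c ≤ m → j ≤ T := fun j hj => by
    by_contra h
    have : (T + 1) * c ≤ j * c := Nat.mul_le_mul_right c (by omega)
    rw [Nat.succ_mul] at this
    omega
  constructor
  · rintro ⟨j, -, hjm, hC⟩
    rw [or_iff_not_imp_left]
    intro hne
    have := hC.le
    have hj : j = m / c := by
      have h1 : j ≤ m / c := (Nat.le_div_iff_mul_le hc).2 hjm
      by_contra h
      have h2 : (j + 1) * c ≤ m / c * c := Nat.mul_le_mul_right c (by omega)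
      rw [Nat.succ_mul] at h2
      omega
    subst hj
    have e : m - m / c * c = m % c := by omega
    rw [e] at hC
    exact ⟨hC.le, hC.zero, hC.full⟩
  · intro h
    by_cases hC : C = c
    · by_cases h0 : m % c = 0
      · by_cases hs : ε * b ^ (m / c) = 1
        · exact ⟨m / c, hle _ (by omega), by omega, ⟨by omega, Or.inl hs, fun _ => hs,
            fun e => by omega, hpar' _ (by omega)⟩⟩
        · obtain ⟨k, hk⟩ : ∃ k, m / c = k + 1 := ⟨m / c - 1, by
            rcases Nat.eq_zero_or_pos (m / c) with h1 | h1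
            · rw [h1, zero_mul] at hdm; omega
            · omega⟩
          rw [hk, pow_succ] at hs
          rw [hk, Nat.succ_mul] at hdm
          have hu := unit_mul hε (pow_unit S k)
          have e : ε * b ^ k = -b := by
            rcases hu with h1 | h1 <;> rcases S.unit with hb | hb <;>
              simp_all [← mul_assoc]
          exact ⟨k, hle _ (by omega), by omega, ⟨by omega, hu, fun e => by omega,
            fun _ => by rw [e, hT.full hC], hpar' _ (by omega)⟩⟩
      · exact ⟨m / c, hle _ (by omega), by omega, ⟨by omega, unit_mul hε (pow_unit S _),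
          fun e => by omega, fun e => by omega, hpar' _ (by omega)⟩⟩
    · obtain ⟨h1, h2, h3⟩ := h.resolve_left hC
      have e : m - m / c * c = m % c := by omega
      exact ⟨m / c, hle _ (by omega), by omega, ⟨by omega, unit_mul hε (pow_unit S _),
        fun e' => h2 (by omega), fun e' => h3 (by omega), hpar' _ (by omega)⟩⟩

theorem criterion_cond (S : Setup F r i c b) (hQ : PolarND Q) {εV ε : ℤ} (hs : Sig Q εV)
    {n m : ℕ} (hn : Module.finrank F V = n) (hm0 : 0 < m) (hm : m < n) (hε : ε = 1 ∨ ε = -1)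
    (hpar : (2 : F) = 0 → Even m) (hdvd : r ∣ numSubs Q ⊤ m ε) :
    (∀ g : orth Q, g ^ r = 1 → g ≠ 1 → ∃ W : Submodule F V,
        (Module.finrank F W = m ∧ NDOn Q W ∧ SigOn Q W ε) ∧ ∀ x ∈ W, g.1 x ∈ W) ↔
      Cond c b n εV m ε := by
  subst hn
  set n := Module.finrank F V with hn
  have hdn : n / c * c + n % c = n := Nat.div_add_mod' n c
  have hc := S.c_pos
  simp only [and_assoc]
  by_cases hk : n % c = 0
  · by_cases he : εV = b ^ (n / c)
    · have hT : TopC c b 0 1 := ⟨Nat.zero_le _, Or.inl rfl, fun _ => rfl, fun h => by omega⟩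
      obtain ⟨h1, -⟩ := criterion S hQ hs hT (T := n / c) (by omega) (by rw [he, one_mul]) hm0 hm hε hpar hdvd
      rw [h1, exists_feas_iff S hT hm0 (by omega) hε hpar]
      constructor
      · rintro (h | ⟨a, a', -⟩)
        · omega
        · exact Or.inl ⟨hk, Or.inr ⟨by omega, a' (by omega)⟩⟩
      · rintro (⟨-, h | ⟨a, a'⟩⟩ | ⟨h, -⟩)
        · rcases pow_unit S (n / c) with hp | hp <;> rw [he, hp] at h <;> norm_num at h
        · exact Or.inr ⟨by omega, fun _ => a', fun _ => a'⟩
        · omega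
    · have he' : εV = -(b ^ (n / c)) := by
        rcases hs.unit with h1 | h1 <;> rcases pow_unit S (n / c) with hp | hp <;>
          simp_all
      obtain ⟨T, hTn⟩ : ∃ T, n / c = T + 1 := ⟨n / c - 1, by
        rcases Nat.eq_zero_or_pos (n / c) with h1 | h1
        · rw [h1, zero_mul] at hdn; omega
        · omega⟩
      have hT : TopC c b c (-b) := ⟨le_rfl, by rcases S.unit with h | h <;> simp [h],
        fun h => absurd h hc.ne', fun _ => rfl⟩
      rw [hTn, Nat.succ_mul] at hdn
      obtain ⟨h1, -⟩ := criterion S hQ hs hT (T := T) (by omega)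
        (by rw [he', hTn, pow_succ]; ring) hm0 hm hε hpar hdvd
      rw [h1, exists_feas_iff S hT hm0 (by omega) hε hpar]
      exact iff_of_true (Or.inl rfl) (Or.inl ⟨hk, Or.inl he'⟩)
  · have hlt := Nat.mod_lt n hc
    have hT : TopC c b (n % c) (εV * b ^ (n / c)) :=
      ⟨hlt.le, unit_mul hs.unit (pow_unit S _), fun h => absurd h hk, fun h => by omega⟩
    obtain ⟨h1, h2⟩ := criterion S hQ hs hT (T := n / c) (by omega)
      (by rw [mul_assoc, ← mul_pow, S.mul_self, one_pow, mul_one]) hm0 hm hε hpar hdvd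
    rw [h1]
    constructor
    · intro hj
      have hcm : c ≤ m := by
        obtain ⟨j, hj⟩ := hj
        exact le_trans (Nat.le_mul_of_pos_left c (h2 j hj).1) hj.2.1
      rw [exists_feas_iff S hT hm0 (by omega) hε hpar] at hj
      exact Or.inr ⟨by omega, hcm, hj.resolve_left (by omega)⟩
    · rintro (⟨h, -⟩ | ⟨-, -, h⟩)
      · exact absurd h hk
      · exact (exists_feas_iff S hT hm0 (by omega) hε hpar).2 (Or.inr h)

end Cfsg.Agent.OrthFix
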