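import Cfsg.Agent.OrthFix.Core

/-!
Involutions in odd characteristic.
-/

set_option autoImplicit false
set_option linter.unusedSectionVars false

namespace Cfsg.Agent.OrthFix

open QuadraticMap
open Cfsg.Agent.UnitaryOrthogonal (PolarND orth)

universe u v

variable {F : Type u} [Field F] [Fintype F]
variable {V : Type v} [AddCommGroup V] [Module F V] [FiniteDimensional F V] [Finite V]
  {Q : QuadraticForm F V}

theorem apply_mvS_invol {g : orth Q} (hg : g ^ 2 = 1) {y : V} (hy : y ∈ mvS g) : g.1 y = -y := by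
  obtain ⟨x, rfl⟩ := hy
  show g.1 (g.1 x - x) = -(g.1 x - x)
  have h : g.1 (g.1 x) = x := by
    rw [← UnitaryOrthogonal.coe_mul_apply, ← pow_two, hg]; rfl
  rw [map_sub, h, neg_sub]

/-- The two eigenspaces of an involution. -/
theorem eigen_split (hQ : PolarND Q) (h2 : (2 : F) ≠ 0) {g : orth Q} (hg : g ^ 2 = 1) :
    NDOn Q (fixS g) ∧ NDOn Q (mvS g) ∧ mvS g ≤ perp Q (fixS g) ∧ fixS g ⊔ mvS g = ⊤ ∧
      Module.finrank F V = Module.finrank F (fixS g) + Module.finrank F (mvS g) := by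
  obtain ⟨h1, h2', h3, h4⟩ :=
    split_on hg (by exact_mod_cast h2) (ndOn_top hQ) (fun _ _ => trivial)
  rw [top_inf_eq] at h1 h4
  rw [top_inf_eq] at h2' h4
  refine ⟨h1, h2', mvS_le_perp g, h4, ?_⟩
  have := (h1.sup h2' (mvS_le_perp g)).2.2.1
  rw [h4, finrank_top] at this
  exact this

/-- An involution fixes each subspace of an eigenspace, and sums of two. -/
theorem invariant_sup {g : orth Q} (hg : g ^ 2 = 1) {A B : Submodule F V} (hA : A ≤ fixS g)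
    (hB : B ≤ mvS g) : ∀ x ∈ A ⊔ B, g.1 x ∈ A ⊔ B := by
  intro y hy
  obtain ⟨a, ha, x, hx, rfl⟩ := Submodule.mem_sup.1 hy
  rw [map_add, mem_fixS.1 (hA ha), apply_mvS_invol hg (hB hx)]
  exact Submodule.add_mem_sup ha (B.neg_mem hx)

/-- In two orthogonal pieces, the first of dimension at least two, sums of every kind occur. -/
theorem exists_sum (h2 : (2 : F) ≠ 0) {A B : Submodule F V} (hA : NDOn Q A) (hB : NDOn Q B)
    (ho : B ≤ perp Q A) (ha2 : 2 ≤ Module.finrank F A) {m : ℕ} (hm0 : 0 < m)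
    (hmn : m < Module.finrank F A + Module.finrank F B) {ε : ℤ} (hε : ε = 1 ∨ ε = -1) :
    ∃ W₁ W₂ : Submodule F V, W₁ ≤ A ∧ W₂ ≤ B ∧ Module.finrank F ↥(W₁ ⊔ W₂) = m ∧
      NDOn Q (W₁ ⊔ W₂) ∧ SigOn Q (W₁ ⊔ W₂) ε := by
  obtain ⟨εA, hεA⟩ := exists_sig hA
  obtain ⟨εB, hεB⟩ := exists_sig hB
  set a := Module.finrank F A with ha
  set k := Module.finrank F B with hk
  obtain ⟨m₁, h1, h1a, h1m, h1b⟩ : ∃ m₁, 0 < m₁ ∧ m₁ < a ∧ m₁ ≤ m ∧ m - m₁ ≤ k :=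
    ⟨max 1 (m - k), by omega, by omega, by omega, by omega⟩
  obtain ⟨ε₂, hu₂, hz₂, hf₂⟩ : ∃ ε₂ : ℤ, (ε₂ = 1 ∨ ε₂ = -1) ∧ (m - m₁ = 0 → ε₂ = 1) ∧
      (m - m₁ = k → ε₂ = εB) := by
    by_cases h : m - m₁ = k
    · exact ⟨εB, hεB.unit, fun h0 => (hB.valid hεB).zero (by omega), fun _ => rfl⟩
    · exact ⟨1, Or.inl rfl, fun _ => rfl, fun h' => absurd h' h⟩
  obtain ⟨W₂, hW₂B, hW₂d, hW₂, hW₂s⟩ := exists_sub (ε := ε₂) (m := m - m₁) hB hεB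
    ⟨h1b, hu₂, hz₂, hf₂, fun h => absurd h h2⟩
  have hu : ε * ε₂ * sig F m₁ (m - m₁) = 1 ∨ ε * ε₂ * sig F m₁ (m - m₁) = -1 := by
    rw [← mul_self_eq_one_iff, show ε * ε₂ * sig F m₁ (m - m₁) * (ε * ε₂ * sig F m₁ (m - m₁)) =
      (ε * ε) * (ε₂ * ε₂) * (sig F m₁ (m - m₁) * sig F m₁ (m - m₁)) by ring, sig_mul_self,
      mul_self_eq_one_iff.2 hu₂, mul_self_eq_one_iff.2 hε]
    rfl
  obtain ⟨W₁, hW₁A, hW₁d, hW₁, hW₁s⟩ := exists_sub (ε := ε * ε₂ * sig F m₁ (m - m₁)) (m := m₁)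
    hA hεA ⟨h1a.le, hu, fun h => absurd h h1.ne', fun h => absurd h h1a.ne, fun h => absurd h h2⟩
  obtain ⟨-, hn, hd, hs⟩ := hW₁.sup hW₂ fun x hx => mem_perp.2 fun u hu' =>
    mem_perp.1 (ho (hW₂B hx)) u (hW₁A hu')
  have := hs _ _ hW₁s hW₂s
  rw [hW₁d, hW₂d] at this hd
  refine ⟨W₁, W₂, hW₁A, hW₂B, by omega, hn, ?_⟩
  rwa [show ε * ε₂ * sig F m₁ (m - m₁) * ε₂ * sig F m₁ (m - m₁) =
    ε * (ε₂ * ε₂) * (sig F m₁ (m - m₁) * sig F m₁ (m - m₁)) by ring, sig_mul_self,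
    mul_self_eq_one_iff.2 hu₂, mul_one, mul_one] at this

/-- An involution fixes a subspace of every kind. -/
theorem exists_fixed_invol (hQ : PolarND Q) (h2 : (2 : F) ≠ 0) {g : orth Q} (hg : g ^ 2 = 1)
    (hn3 : 3 ≤ Module.finrank F V) {m : ℕ} (hm0 : 0 < m)
    (hmn : m < Module.finrank F V) {ε : ℤ} (hε : ε = 1 ∨ ε = -1) :
    ∃ W : Submodule F V, (Module.finrank F W = m ∧ NDOn Q W ∧ SigOn Q W ε) ∧ ∀ x ∈ W, g.1 x ∈ W := by
  obtain ⟨hA, hB, ho, -, hd⟩ := eigen_split hQ h2 hg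
  by_cases ha : 2 ≤ Module.finrank F (fixS g)
  · obtain ⟨W₁, W₂, h1, h2', h3, h4, h5⟩ := exists_sum h2 hA hB ho ha hm0 (by omega) hε
    exact ⟨_, ⟨h3, h4, h5⟩, invariant_sup hg h1 h2'⟩
  · obtain ⟨W₁, W₂, h1, h2', h3, h4, h5⟩ := exists_sum h2 hB hA
      (fun x hx => mem_perp.2 fun u hu => (polar_comm Q u x).trans (mem_perp.1 (ho hu) x hx))
      (by omega) hm0 (by omega) hε
    exact ⟨_, ⟨h3, h4, h5⟩, fun x hx => by
      rw [sup_comm] at hx ⊢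
      exact invariant_sup hg h2' h1 x hx⟩

end Cfsg.Agent.OrthFix
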