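import Cfsg.Agent.OrthFix.Translate
import Cfsg.Agent.OrthFix.Arith
import Cfsg.Agent.OrthFix.Two

/-!
The standard forms of the statements.
-/

set_option autoImplicit false
set_option linter.unusedSectionVars false

namespace Cfsg.Agent.OrthFix

open QuadraticMap
open Cfsg.Agent.UnitaryOrthogonal (PolarND qOdd qPlus qMinus)

variable {F : Type*} [Field F] [Fintype F]

theorem coe_qOdd (d : ℕ) : ⇑(qOdd d F) = Cfsg.quadFormOdd d F :=
  funext (UnitaryOrthogonal.qOdd_apply d)

theorem coe_qPlus (d : ℕ) : ⇑(qPlus d F) = Cfsg.quadFormPlus d F :=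
  funext (UnitaryOrthogonal.qPlus_apply d)

theorem coe_qMinus (d : ℕ) (a b : F) : ⇑(qMinus d F a b) = Cfsg.quadFormMinus d F a b :=
  funext (UnitaryOrthogonal.qMinus_apply d a b)

theorem polarND_qOdd (h2 : (2 : F) ≠ 0) (d : ℕ) : PolarND (qOdd d F) :=
  ((UnitaryOrthogonal.polarND_sqForm h2).hypSum d).congr (UnitaryOrthogonal.qOddIso d F).symm

theorem polarND_qPlus (d : ℕ) : PolarND (qPlus d F) :=
  (UnitaryOrthogonal.polarND_zeroForm.hypSum d).congr (UnitaryOrthogonal.qPlusIso d F).symm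

theorem polarND_qMinus {a b : F} (hab : UnitaryOrthogonal.BinAniso a b) (d : ℕ) :
    PolarND (qMinus d F a b) :=
  (hab.polarND.hypSum d).congr (UnitaryOrthogonal.qMinusIso d F a b).symm

theorem sig_qOdd (h2 : (2 : F) ≠ 0) (d : ℕ) : Sig (qOdd d F) 1 := by
  have h := sig_smul_sqForm h2 (one_ne_zero (α := F))
  rw [one_smul, chi_one] at h
  exact (h.hypSum d).congr (UnitaryOrthogonal.qOddIso d F).symm

theorem sig_qPlus (d : ℕ) : Sig (qPlus d F) 1 :=
  (sig_zeroForm.hypSum d).congr (UnitaryOrthogonal.qPlusIso d F).symm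

theorem sig_qMinus {a b : F} (hab : UnitaryOrthogonal.BinAniso a b) (d : ℕ) :
    Sig (qMinus d F a b) (-1) :=
  ((sig_binForm hab).hypSum d).congr (UnitaryOrthogonal.qMinusIso d F a b).symm

theorem finrank_fun_odd (d : ℕ) :
    Module.finrank F (Unit ⊕ (Fin d ⊕ Fin d) → F) = 2 * d + 1 := by
  simp [Module.finrank_fintype_fun_eq_card]; ring

theorem finrank_fun_plus (d : ℕ) : Module.finrank F (Fin d ⊕ Fin d → F) = 2 * d := by
  simp [Module.finrank_fintype_fun_eq_card]; ring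

theorem finrank_fun_minus {d : ℕ} (hd : 1 ≤ d) :
    Module.finrank F ((Fin (d - 1) ⊕ Fin (d - 1)) ⊕ Fin 2 → F) = 2 * d := by
  simp [Module.finrank_fintype_fun_eq_card]; omega

theorem setup_of {p : ℕ} [Fact p.Prime] [CharP F p] {q : ℕ} (hq : Fintype.card F = q) {r : ℕ}
    (hr : r.Prime) (h2 : 2 < r) (hrp : r ≠ p) {i c : ℕ} (hi : i = orderOf (q : ZMod r))
    (hc : c = if Even i then i else 2 * i) :
    Setup F r i c (if Even i then -1 else 1) := by
  refine ⟨hr, h2, fun h => hrp ?_, by rw [hq]; exact hi, hc, rfl⟩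
  exact ((Nat.prime_dvd_prime_iff_eq (Fact.out : p.Prime) hr).1 ((CharP.cast_eq_zero_iff F p r).1 h)).symm

end Cfsg.Agent.OrthFix
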