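import Cfsg.Agent.OrthFix.Unipotent

/-!
Unipotent isometries with few steps.
-/

set_option autoImplicit false
set_option linter.unusedSectionVars false
set_option linter.style.haveILetI false

namespace Cfsg.Agent.OrthFix

open QuadraticMap
open Cfsg.Agent.UnitaryOrthogonal (PolarND orth eich eichGroup polar_self_eq form_add form_smul)

universe u v

variable {F : Type u} [Field F] [Fintype F]
variable {V : Type v} [AddCommGroup V] [Module F V] [FiniteDimensional F V] [Finite V]
  {Q : QuadraticForm F V}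

variable (Q) in
/-- The displacement of one Eichler map. -/
def disp (u z x : V) : V := polar Q u x • z - polar Q z x • u - (Q z * polar Q u x) • u

theorem eich_pow {u z : V} (hu : Q u = 0) (hz : polar Q u z = 0) (n : ℕ) :
    eich Q u z ^ n = eich Q u ((n : F) • z) := by
  induction n with
  | zero => rw [pow_zero, Nat.cast_zero, zero_smul, UnitaryOrthogonal.eich_zero]
  | succ n ih =>
    rw [pow_succ, ih, UnitaryOrthogonal.eich_mul hu (by rw [polar_smul_right, hz, smul_zero]) hz,
      Nat.cast_succ, add_smul, one_smul]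

/-- Commuting Eichler maps. -/
theorem exists_eich_prod (p : ℕ) (hp : (p : F) = 0) : ∀ (k : ℕ) (u z : Fin k → V),
    (∀ i, Q (u i) = 0) → (∀ i j, polar Q (u i) (u j) = 0) → (∀ i j, polar Q (u i) (z j) = 0) →
    (∀ i j, i ≠ j → polar Q (z i) (z j) = 0) →
    ∃ g : orth Q, g ∈ eichGroup Q ∧ g ^ p = 1 ∧ ∀ x, g.1 x = x + ∑ j, disp Q (u j) (z j) x := by
  intro k
  induction k with
  | zero => exact fun u z _ _ _ _ => ⟨1, one_mem _, one_pow p, fun x => by simp⟩
  | succ k ih =>
    intro u z hu huu huz hzz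
    obtain ⟨g', hg', hgp, hg'x⟩ := ih (u ∘ Fin.castSucc) (z ∘ Fin.castSucc) (fun i => hu _)
      (fun i j => huu _ _) (fun i j => huz _ _) (fun i j h => hzz _ _ fun e => h (Fin.castSucc_injective k e))
    set ul := u (Fin.last k)
    set zl := z (Fin.last k)
    have hfu : g'.1 ul = ul := by
      rw [hg'x, add_eq_left]
      refine Finset.sum_eq_zero fun j _ => ?_
      simp [disp, ul, huu, polar_comm Q (z (Fin.castSucc j)) (u (Fin.last k)), huz]
    have hfz : g'.1 zl = zl := by
      rw [hg'x, add_eq_left]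
      refine Finset.sum_eq_zero fun j _ => ?_
      simp [disp, zl, huz, hzz (Fin.castSucc j) (Fin.last k) (Fin.castSucc_lt_last j).ne]
    have hcomm : Commute g' (eich Q ul zl) := by
      have e := UnitaryOrthogonal.conj_eich g' ul zl
      rw [hfu, hfz] at e
      rw [commute_iff_eq]
      conv_rhs => rw [← e]
      group
    refine ⟨g' * eich Q ul zl, mul_mem hg' (UnitaryOrthogonal.eich_mem_eichGroup _ _), ?_, fun x => ?_⟩
    · rw [hcomm.mul_pow, hgp, one_mul, eich_pow (hu _) (huz _ _), hp, zero_smul,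
        UnitaryOrthogonal.eich_zero]
    · rw [UnitaryOrthogonal.coe_mul_apply, UnitaryOrthogonal.eich_apply (hu _) (huz _ _),
        Fin.sum_univ_castSucc, map_sub, map_sub, map_add, map_smul, map_smul, map_smul, hfu, hfz, hg'x]
      simp only [disp, Function.comp_apply, ul, zl]
      module

theorem exists_eich_prod' (p : ℕ) (hp : (p : F) = 0) {κ : Type*} [Fintype κ] (u z : κ → V)
    (hu : ∀ i, Q (u i) = 0) (huu : ∀ i j, polar Q (u i) (u j) = 0)
    (huz : ∀ i j, polar Q (u i) (z j) = 0) (hzz : ∀ i j, i ≠ j → polar Q (z i) (z j) = 0) :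
    ∃ g : orth Q, g ∈ eichGroup Q ∧ g ^ p = 1 ∧ ∀ x, g.1 x = x + ∑ j, disp Q (u j) (z j) x := by
  let e := (Fintype.equivFin κ).symm
  obtain ⟨g, h1, h2, h3⟩ := exists_eich_prod p hp _ (u ∘ e) (z ∘ e) (fun i => hu _)
    (fun i j => huu _ _) (fun i j => huz _ _) (fun i j h => hzz _ _ fun h' => h (e.injective h'))
  exact ⟨g, h1, h2, fun x => by rw [h3]; exact congrArg (x + ·) (e.sum_comp fun j => disp Q (u j) (z j) x)⟩

/-- The shape of such a product. -/
theorem eich_prod_shape (hQ : PolarND Q) {κ : Type*} [Fintype κ] {u z : κ → V}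
    (hli : LinearIndependent F (Sum.elim u z)) {g : orth Q}
    (hg : ∀ x, g.1 x = x + ∑ j, disp Q (u j) (z j) x) :
    mvS g = Submodule.span F (Set.range (Sum.elim u z)) ∧
      fixS g = perp Q (Submodule.span F (Set.range (Sum.elim u z))) ∧
      Module.finrank F (mvS g) = 2 * Fintype.card κ ∧
      Module.finrank F (fixS g) + 2 * Fintype.card κ = Module.finrank F V := by
  classical
  set S := Submodule.span F (Set.range (Sum.elim u z)) with hS
  have hN : ∀ x, g.1 x - x = ∑ j, disp Q (u j) (z j) x := fun x => by rw [hg, add_sub_cancel_left]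
  have hmemu : ∀ j, u j ∈ S := fun j => Submodule.subset_span ⟨Sum.inl j, rfl⟩
  have hmemz : ∀ j, z j ∈ S := fun j => Submodule.subset_span ⟨Sum.inr j, rfl⟩
  -- the functionals are independent, so every value is attained
  let Φ : V →ₗ[F] (κ ⊕ κ → F) := LinearMap.pi fun s => polarBilin Q (Sum.elim u z s)
  have hΦ : Function.Surjective Φ := by
    rw [← LinearMap.range_eq_top]
    by_contra hne
    obtain ⟨φ, hφ0, hφ⟩ := Submodule.exists_le_ker_of_lt_top _ (lt_top_iff_ne_top.2 hne)
    apply hφ0
    have hcomb : ∑ s, φ (Pi.single s 1) • Sum.elim u z s = 0 := by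
      refine hQ _ fun x => ?_
      have h0 : φ (Φ x) = 0 := hφ ⟨x, rfl⟩
      rw [pi_eq_sum_univ' (Φ x), map_sum] at h0
      have e : ∀ (s : Finset (κ ⊕ κ)) (w : κ ⊕ κ → V), polar Q (∑ j ∈ s, w j) x = ∑ j ∈ s, polar Q (w j) x :=
        fun s w => by
          show polarBilin Q (∑ j ∈ s, w j) x = _
          rw [map_sum, LinearMap.sum_apply]
          rfl
      rw [e, ← h0]
      refine Finset.sum_congr rfl fun s _ => ?_
      rw [map_smul, polar_smul_left, smul_eq_mul, smul_eq_mul, mul_comm]
      rfl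
    refine LinearMap.pi_ext fun s a => ?_
    have := Fintype.linearIndependent_iff.1 hli _ hcomb s
    have e : Pi.single s a = a • (Pi.single s (1 : F) : κ ⊕ κ → F) := by
      funext j
      simp [Pi.single_apply]
    rw [LinearMap.zero_apply, e, map_smul, this, smul_zero]
  have hrange : mvS g = S := by
    refine le_antisymm ?_ (Submodule.span_le.2 ?_)
    · rintro _ ⟨x, rfl⟩
      show g.1 x - x ∈ S
      rw [hN]
      exact S.sum_mem fun j _ => S.sub_mem (S.sub_mem (S.smul_mem _ (hmemz j))
        (S.smul_mem _ (hmemu j))) (S.smul_mem _ (hmemu j))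
    · have hu' : ∀ j, u j ∈ mvS g := fun j => by
        obtain ⟨x, hx⟩ := hΦ (Pi.single (Sum.inr j) (-1))
        have h1 : ∀ i, polar Q (u i) x = 0 := fun i => by
          show Φ x (Sum.inl i) = 0
          rw [hx]; simp
        have h2 : ∀ i, polar Q (z i) x = if i = j then -1 else 0 := fun i => by
          show Φ x (Sum.inr i) = _
          rw [hx]; simp [Pi.single_apply, Sum.inr.injEq]
        have e : g.1 x - x = u j := by
          rw [hN, Finset.sum_eq_single j]
          · simp [disp, h1, h2]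
          · intro i _ hi
            simp [disp, h1, h2, hi]
          · simp
        exact e ▸ sub_mem_mvS g x
      rintro _ ⟨j | j, rfl⟩
      · exact hu' j
      · obtain ⟨x, hx⟩ := hΦ (Pi.single (Sum.inl j) 1)
        have h1 : ∀ i, polar Q (u i) x = if i = j then 1 else 0 := fun i => by
          show Φ x (Sum.inl i) = _
          rw [hx]; simp [Pi.single_apply, Sum.inl.injEq]
        have h2 : ∀ i, polar Q (z i) x = 0 := fun i => by
          show Φ x (Sum.inr i) = 0
          rw [hx]; simp
        have e : g.1 x - x = z j - Q (z j) • u j := by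
          rw [hN, Finset.sum_eq_single j]
          · simp [disp, h1, h2]
          · intro i _ hi
            simp [disp, h1, h2, hi]
          · simp
        have := (mvS g).add_mem (e ▸ sub_mem_mvS g x) ((mvS g).smul_mem (Q (z j)) (hu' j))
        simpa using this
  have hfix : fixS g = perp Q S := by
    refine le_antisymm (fun x hx => ?_) fun x hx => ?_
    · have h0 : ∑ s, Sum.elim (fun j => -polar Q (z j) x - Q (z j) * polar Q (u j) x)
          (fun j => polar Q (u j) x) s • Sum.elim u z s = 0 := by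
        rw [Fintype.sum_sum_type, ← Finset.sum_add_distrib]
        have e := hN x
        rw [mem_fixS.1 hx, sub_self] at e
        rw [e]
        refine Finset.sum_congr rfl fun j _ => ?_
        simp only [disp, Sum.elim_inl, Sum.elim_inr]
        module
      have hc := Fintype.linearIndependent_iff.1 hli _ h0
      have hu0 : ∀ j, polar Q (u j) x = 0 := fun j => hc (Sum.inr j)
      have hz0 : ∀ j, polar Q (z j) x = 0 := fun j => by
        have := hc (Sum.inl j)
        simpa [hu0 j] using this
      refine mem_perp.2 fun y hy => ?_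
      have hle : S ≤ LinearMap.ker ((polarBilin Q).flip x) := Submodule.span_le.2 (by
        rintro _ ⟨j | j, rfl⟩
        · exact hu0 j
        · exact hz0 j)
      exact hle hy
    · rw [mem_fixS, hg, add_eq_left]
      refine Finset.sum_eq_zero fun j _ => ?_
      simp [disp, mem_perp.1 hx _ (hmemu j), mem_perp.1 hx _ (hmemz j)]
  have hd : Module.finrank F (mvS g) = 2 * Fintype.card κ := by
    rw [hrange, hS, finrank_span_eq_card hli, Fintype.card_sum, two_mul]
  refine ⟨hrange, hfix, hd, ?_⟩
  have h3 : Module.finrank F (perp Q S) = Module.finrank F V - Module.finrank F S :=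
    LinearMap.BilinForm.finrank_orthogonal (nondegenerate_of_polarND hQ) S
  have h4 := Submodule.finrank_le S
  rw [hfix]
  rw [hrange] at hd
  omega

/-- A totally singular space and an orthogonal non-degenerate space. -/
theorem exists_frame (hQ : PolarND Q) {εV : ℤ} (hs : Sig Q εV) {e : ℕ}
    (he : 2 * e ≤ Module.finrank F V) (hfull : 2 * e = Module.finrank F V → εV = 1) :
    ∃ (T P : Submodule F V) (t : Fin e → V), LinearIndependent F t ∧ (∀ j, t j ∈ T) ∧
      (∀ x ∈ T, Q x = 0) ∧ NDOn Q P ∧ SigOn Q P εV ∧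
      Module.finrank F P + 2 * e = Module.finrank F V ∧ P ≤ perp Q T ∧ Disjoint T P := by
  obtain ⟨H, -, hHd, hH, hHs⟩ := exists_sub (ε := 1) (m := 2 * e) (ndOn_top hQ) (sigOn_top hs)
    ⟨by rwa [finrank_top], Or.inl rfl, fun _ => rfl, fun h => (hfull (h.trans (finrank_top F V))).symm,
      fun _ => even_two_mul e⟩
  obtain ⟨hn, hdim, hsig⟩ := (ndOn_top hQ).inf_perp hH le_top
  have hs' := hsig _ _ (sigOn_top hs) hHs
  rw [hHd, sig_even_left (even_two_mul e), mul_one, mul_one] at hs'
  rw [hHd, finrank_top] at hdim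
  obtain ⟨T, hTH, hT, hTd⟩ := (sigOn_one_iff hH hHd).1 hHs
  refine ⟨T, ⊤ ⊓ perp Q H, fun j => (Module.finBasisOfFinrankEq F T hTd j : V), ?_,
    fun j => Subtype.coe_prop _, hT, hn, hs', by omega, ?_, ?_⟩
  · exact ((Module.finBasisOfFinrankEq F T hTd).linearIndependent).map' T.subtype T.ker_subtype
  · exact fun x hx => mem_perp.2 fun u hu => mem_perp.1 hx.2 u (hTH hu)
  · exact hH.disjoint.mono hTH inf_le_right

/-- Two steps: `2a` singular directions. -/
theorem exists_two_step (hQ : PolarND Q) {p : ℕ} (hp : (p : F) = 0) {T : Submodule F V} {e : ℕ}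
    {t : Fin e → V} (hli : LinearIndependent F t) (htT : ∀ j, t j ∈ T) (hT : ∀ x ∈ T, Q x = 0)
    {a : ℕ} (ha : 0 < a) (hae : 2 * a ≤ e) :
    ∃ g : orth Q, g ∈ eichGroup Q ∧ g ^ p = 1 ∧ g ≠ 1 ∧ mvS g ≤ fixS g ∧
      (∀ x ∈ mvS g, Q x = 0) ∧ Module.finrank F (mvS g) = 2 * a ∧
      Module.finrank F (fixS g) + 2 * a = Module.finrank F V ∧ (∀ j, t j ∈ fixS g) ∧
      (2 * a < e → ∃ x ∈ fixS g, x ∉ mvS g ∧ Q x = 0) := by
  let σ : Fin a ⊕ Fin a → Fin e :=
    Sum.elim (fun j => ⟨2 * j, by omega⟩) (fun j => ⟨2 * j + 1, by omega⟩)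
  have hσ : Function.Injective σ := by
    rintro (i | i) (j | j) h <;> simp [σ, Fin.ext_iff] at h ⊢ <;> omega
  have hel : Sum.elim (fun j => t (σ (.inl j))) (fun j => t (σ (.inr j))) = t ∘ σ := by
    funext s; rcases s with j | j <;> rfl
  have hli' : LinearIndependent F (Sum.elim (fun j => t (σ (.inl j))) (fun j => t (σ (.inr j)))) :=
    hel ▸ hli.comp σ hσ
  have hpol : ∀ i j, polar Q (t i) (t j) = 0 := fun i j => polar_eq_zero_of_ts hT (htT i) (htT j)
  obtain ⟨g, hge, hgp, hgx⟩ := exists_eich_prod' p hp (fun j => t (σ (.inl j))) (fun j => t (σ (.inr j)))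
    (fun j => hT _ (htT _)) (fun i j => hpol _ _) (fun i j => hpol _ _) (fun i j _ => hpol _ _)
  obtain ⟨h1, h2, h3, h4⟩ := eich_prod_shape hQ hli' hgx
  rw [Fintype.card_fin] at h3 h4
  have hspan : mvS g ≤ T := by
    rw [h1, Submodule.span_le]
    rintro _ ⟨j | j, rfl⟩ <;> exact htT _
  have hTfix : T ≤ fixS g := by
    rw [h2]
    refine fun x hx => mem_perp.2 fun y hy => ?_
    rw [← h1] at hy
    exact polar_eq_zero_of_ts hT (hspan hy) hx
  refine ⟨g, hge, hgp, ?_, hspan.trans hTfix, fun x hx => hT x (hspan hx), h3, h4,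
    fun j => hTfix (htT j), fun hlt => ?_⟩
  · rintro rfl
    have h0 : mvS (1 : orth Q) = ⊥ := (Submodule.eq_bot_iff _).2 (by
      rintro _ ⟨x, rfl⟩
      simp)
    rw [h0, finrank_bot] at h3
    omega
  · by_contra hcon
    push Not at hcon
    have hle : Submodule.span F (Set.range t) ≤ mvS g := Submodule.span_le.2 (by
      rintro _ ⟨j, rfl⟩
      by_contra hj
      exact hcon _ (hTfix (htT j)) hj (hT _ (htT j)))
    have := Submodule.finrank_mono hle
    rw [finrank_span_eq_card hli, Fintype.card_fin, h3] at this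
    omega

/-- Three steps: `l` blocks of size three over `w`, and `2a` further singular directions. -/
theorem exists_three_step (hQ : PolarND Q) (h2 : (2 : F) ≠ 0) {p : ℕ} (hp : (p : F) = 0)
    {T P : Submodule F V} {e : ℕ} {t : Fin e → V} (hli : LinearIndependent F t)
    (htT : ∀ j, t j ∈ T) (hT : ∀ x ∈ T, Q x = 0) (hPT : P ≤ perp Q T) (hdis : Disjoint T P)
    {l a : ℕ} (hl : 0 < l) (hle : l + 2 * a = e) {w : Fin l → V} (hwP : ∀ i, w i ∈ P)
    (hw : ∀ i, Q (w i) ≠ 0) (hww : ∀ i j, i ≠ j → polar Q (w i) (w j) = 0) :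
    ∃ g : orth Q, g ∈ eichGroup Q ∧ g ^ p = 1 ∧ g ≠ 1 ∧
      Module.finrank F (fixS g) + 2 * (l + a) = Module.finrank F V ∧
      Module.finrank F ((mvS g).map (g.1.toLinearMap - LinearMap.id)) ≤ l ∧
      fixS g ⊓ mvS g = Submodule.span F (Set.range t) ∧ (∀ j, t j ∈ fixS g) ∧
      mvS g = Submodule.span F (Set.range t) ⊔ Submodule.span F (Set.range w) := by
  classical
  subst hle
  let u : Fin l ⊕ Fin a → V :=
    Sum.elim (fun i => t ⟨i, by omega⟩) (fun j => t ⟨l + 2 * j, by omega⟩)
  let z : Fin l ⊕ Fin a → V := Sum.elim w (fun j => t ⟨l + 2 * j + 1, by omega⟩)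
  have hpol : ∀ i j, polar Q (t i) (t j) = 0 := fun i j => polar_eq_zero_of_ts hT (htT i) (htT j)
  have hpw : ∀ j i, polar Q (t j) (w i) = 0 := fun j i => mem_perp.1 (hPT (hwP i)) _ (htT j)
  have huu : ∀ i j, polar Q (u i) (u j) = 0 := by
    rintro (i | i) (j | j) <;> exact hpol _ _
  have huz : ∀ i j, polar Q (u i) (z j) = 0 := by
    rintro (i | i) (j | j) <;> first | exact hpol _ _ | exact hpw _ _
  have hzz : ∀ i j, i ≠ j → polar Q (z i) (z j) = 0 := by
    rintro (i | i) (j | j) h
    · exact hww i j fun e => h (e ▸ rfl)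
    · exact (polar_comm Q _ _).trans (hpw _ _)
    · exact hpw _ _
    · exact hpol _ _
  have hu0 : ∀ i, Q (u i) = 0 := by rintro (i | i) <;> exact hT _ (htT _)
  have hspanuz : Submodule.span F (Set.range (Sum.elim u z)) =
      Submodule.span F (Set.range t) ⊔ Submodule.span F (Set.range w) := by
    refine le_antisymm (Submodule.span_le.2 ?_) (sup_le (Submodule.span_le.2 ?_) (Submodule.span_le.2 ?_))
    · rintro _ ⟨(i | i) | (i | i), rfl⟩
      · exact Submodule.mem_sup_left (Submodule.subset_span ⟨_, rfl⟩)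
      · exact Submodule.mem_sup_left (Submodule.subset_span ⟨_, rfl⟩)
      · exact Submodule.mem_sup_right (Submodule.subset_span ⟨_, rfl⟩)
      · exact Submodule.mem_sup_left (Submodule.subset_span ⟨_, rfl⟩)
    · rintro _ ⟨⟨j, hj⟩, rfl⟩
      by_cases hjl : j < l
      · exact Submodule.subset_span ⟨.inl (.inl ⟨j, hjl⟩), rfl⟩
      · rcases Nat.even_or_odd (j - l) with ⟨k, hk⟩ | ⟨k, hk⟩
        · exact Submodule.subset_span ⟨.inl (.inr ⟨k, by omega⟩),
            congrArg t (Fin.ext (by show l + 2 * k = j; omega))⟩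
        · exact Submodule.subset_span ⟨.inr (.inr ⟨k, by omega⟩),
            congrArg t (Fin.ext (by show l + 2 * k + 1 = j; omega))⟩
    · rintro _ ⟨i, rfl⟩
      exact Submodule.subset_span ⟨.inr (.inl i), rfl⟩
  have hliw : LinearIndependent F w := Fintype.linearIndependent_iff.2 fun c hc i => by
    have e := congrArg (polar Q (w i)) hc
    rw [polar_zero_right] at e
    have e' : polarBilin Q (w i) (∑ j, c j • w j) = 0 := e
    rw [map_sum, Finset.sum_eq_single i (fun j _ hj => by
      rw [map_smul]; show c j • polar Q (w i) (w j) = 0; rw [hww i j hj.symm, smul_zero])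
      (by simp)] at e'
    rw [map_smul] at e'
    have e'' : c i • polar Q (w i) (w i) = 0 := e'
    rw [polar_self_eq, smul_eq_mul] at e''
    simpa [h2, hw i] using e''
  have hliuz : LinearIndependent F (Sum.elim u z) := by
    rw [linearIndependent_iff_card_le_finrank_span]
    rw [Set.finrank, hspanuz, finrank_sup_of_disjoint (hdis.mono
      (Submodule.span_le.2 (by rintro _ ⟨j, rfl⟩; exact htT j))
      (Submodule.span_le.2 (by rintro _ ⟨i, rfl⟩; exact hwP i))),
      finrank_span_eq_card hli, finrank_span_eq_card hliw]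
    simp
    omega
  obtain ⟨g, hge, hgp, hgx⟩ := exists_eich_prod' p hp u z hu0 huu huz hzz
  obtain ⟨h1, h2', h3, h4⟩ := eich_prod_shape hQ hliuz hgx
  rw [Fintype.card_sum, Fintype.card_fin, Fintype.card_fin] at h3 h4
  have htfix : ∀ j, t j ∈ fixS g := fun j => by
    rw [h2', hspanuz]
    refine mem_perp.2 fun y hy => ?_
    have hle : Submodule.span F (Set.range t) ⊔ Submodule.span F (Set.range w) ≤
        LinearMap.ker ((polarBilin Q).flip (t j)) :=
      sup_le (Submodule.span_le.2 (by rintro _ ⟨i, rfl⟩; exact hpol i j))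
        (Submodule.span_le.2 (by rintro _ ⟨i, rfl⟩; exact (polar_comm Q _ _).trans (hpw j i)))
    exact hle hy
  refine ⟨g, hge, hgp, ?_, h4, ?_, ?_, htfix, h1.trans hspanuz⟩
  · rintro rfl
    have h0 : mvS (1 : orth Q) = ⊥ := (Submodule.eq_bot_iff _).2 (by
      rintro _ ⟨x, rfl⟩
      simp)
    rw [h0, finrank_bot] at h3
    omega
  · refine le_trans (Submodule.finrank_mono (t := Submodule.span F (Set.range fun i : Fin l => u (.inl i))) ?_)
      ((finrank_range_le_card _).trans (by rw [Fintype.card_fin]))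
    rw [h1, Submodule.map_span, Submodule.span_le]
    rintro _ ⟨_, ⟨s, rfl⟩, rfl⟩
    have hN : ∀ x, (g.1.toLinearMap - LinearMap.id : V →ₗ[F] V) x = ∑ j, disp Q (u j) (z j) x := fun x => by
      show g.1 x - x = _
      rw [hgx, add_sub_cancel_left]
    rw [SetLike.mem_coe, hN]
    refine Submodule.sum_mem _ fun j _ => ?_
    rcases s with i | i
    · simp only [Sum.elim_inl, disp, huu, polar_comm Q (z j) (u i), huz]
      simp
    · rcases j with j | j
      · simp only [Sum.elim_inr, disp, huz, zero_smul, mul_zero, sub_zero, zero_sub]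
        exact Submodule.neg_mem _ (Submodule.smul_mem _ _ (Submodule.subset_span ⟨j, rfl⟩))
      · have hz0 : polar Q (z (.inr j)) (z i) = 0 := by
          rcases i with i | i
          · exact hpw _ _
          · exact hpol _ _
        simp [disp, huz, hz0]
  · refine le_antisymm ?_ (le_inf (Submodule.span_le.2 (by rintro _ ⟨j, rfl⟩; exact htfix j)) (by
      rw [h1, hspanuz]; exact le_sup_left))
    rintro x ⟨hxf, hxm⟩
    rw [SetLike.mem_coe, h1, hspanuz] at hxm
    obtain ⟨y, hy, v, hv, rfl⟩ := Submodule.mem_sup.1 hxm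
    obtain ⟨c, rfl⟩ := (Submodule.mem_span_range_iff_exists_fun F).1 hv
    have hc : ∀ i, c i = 0 := fun i => by
      rw [SetLike.mem_coe, h2', hspanuz] at hxf
      have e := mem_perp.1 hxf (w i) (Submodule.mem_sup_right (Submodule.subset_span ⟨i, rfl⟩))
      have hy0 : polar Q (w i) y = 0 :=
        (Submodule.span_le.2 (by rintro _ ⟨j, rfl⟩; exact (polar_comm Q _ _).trans (hpw j i)) :
          Submodule.span F (Set.range t) ≤ LinearMap.ker (polarBilin Q (w i))) hy
      rw [polar_add_right, hy0, zero_add] at e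
      have e' : polarBilin Q (w i) (∑ j, c j • w j) = 0 := e
      rw [map_sum, Finset.sum_eq_single i (fun j _ hj => by
        rw [map_smul]; show c j • polar Q (w i) (w j) = 0; rw [hww i j hj.symm, smul_zero])
        (by simp)] at e'
      rw [map_smul] at e'
      have e'' : c i • polar Q (w i) (w i) = 0 := e'
      rw [polar_self_eq, smul_eq_mul] at e''
      simpa [h2, hw i] using e''
    simpa [hc] using hy

end Cfsg.Agent.OrthFix
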