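import Cfsg.Agent.OrthFix.Element

/-!
A fixed-point-free isometry of odd prime order splits off invariant blocks of dimension `c`.
-/

set_option autoImplicit false
set_option linter.unusedSectionVars false
set_option linter.style.haveILetI false

namespace Cfsg.Agent.OrthFix

open Finset QuadraticMap Polynomial
open Cfsg.Agent.UnitaryOrthogonal (PolarND orth polar_self_eq form_add)

universe u v

variable {F : Type u} [Field F] [Fintype F] {r i c : ℕ} {b : ℤ}
variable {V : Type v} [AddCommGroup V] [Module F V] [FiniteDimensional F V] [Finite V]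
  {Q : QuadraticForm F V}

theorem aeval_mem {f : Module.End F V} {W : Submodule F V} (hW : ∀ x ∈ W, f x ∈ W) (p : F[X]) :
    ∀ x ∈ W, aeval f p x ∈ W := by
  induction p using Polynomial.induction_on' with
  | add p q hp hq => exact fun x hx => by rw [map_add, LinearMap.add_apply]; exact W.add_mem (hp x hx) (hq x hx)
  | monomial n a =>
    have hn : ∀ n : ℕ, ∀ x ∈ W, (f ^ n) x ∈ W := by
      intro n
      induction n with
      | zero => exact fun x hx => hx
      | succ n ih => exact fun x hx => by rw [pow_succ, Module.End.mul_apply]; exact ih _ (hW x hx)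
    exact fun x hx => by
      rw [aeval_monomial, Module.End.mul_apply, Module.algebraMap_end_apply]
      exact W.smul_mem a (hn n x hx)

theorem pow_eq_pow_of_mod {M : Type*} [Monoid M] {f : M} (h : f ^ r = 1) {a b : ℕ}
    (hab : a % r = b % r) : f ^ a = f ^ b := by
  rw [pow_eq_pow_mod a h, pow_eq_pow_mod b h, hab]

/-- Adjoints: the adjoint of `p(g)` is `p(g⁻¹)`. -/
theorem polar_aeval {g : orth Q} (hg : g ^ r = 1) (hr : 0 < r) (p : F[X]) (x y : V) :
    polar Q (aeval (toEnd Q g) p x) y = polar Q x (aeval (toEnd Q g ^ (r - 1)) p y) := by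
  induction p using Polynomial.induction_on' with
  | add p q hp hq => simp only [map_add, LinearMap.add_apply, polar_add_left, polar_add_right, hp, hq]
  | monomial n a =>
    simp only [aeval_monomial, Module.End.mul_apply, Module.algebraMap_end_apply, polar_smul_left,
      polar_smul_right]
    congr 1
    rw [← map_pow, ← map_pow, ← map_pow, toEnd_apply, toEnd_apply]
    conv_lhs => rw [← UnitaryOrthogonal.coe_one_apply (Q := Q) y,
      show (1 : orth Q) = g ^ n * (g ^ (r - 1)) ^ n by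
        rw [← pow_mul, ← pow_add,
          show n + (r - 1) * n = r * n by rw [Nat.sub_one_mul]; have := Nat.le_mul_of_pos_left n hr; omega,
          pow_mul, hg, one_pow],
      UnitaryOrthogonal.coe_mul_apply, UnitaryOrthogonal.map_polar]

variable (S : Setup F r i c b)
include S

/-- A vector killed by an irreducible factor of `X^r - 1` spans an invariant `i`-space. -/
theorem exists_cyclic {g : orth Q} (hg : g ^ r = 1) (hfix : ∀ x, g.1 x = x → x = 0)
    {P : F[X]} (hP : Irreducible P) {v : V} (hv : v ≠ 0) (hPv : aeval (toEnd Q g) P v = 0) :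
    ∃ M : Submodule F V, v ∈ M ∧ (∀ x ∈ M, g.1 x ∈ M) ∧ Module.finrank F M = i ∧
      ∀ x ∈ M, aeval (toEnd Q g) P x = 0 := by
  haveI : Fact r.Prime := ⟨S.prime⟩
  set f := toEnd Q g with hf
  have hfr : f ^ r = 1 := by rw [hf, ← map_pow, hg, map_one]
  let L : F[X] →ₗ[F] V := (LinearMap.applyₗ v).comp (aeval f).toLinearMap
  have hL : ∀ p, L p = aeval f p v := fun _ => rfl
  have hmul : ∀ p, L (P * p) = 0 := fun p => by
    rw [hL, mul_comm, map_mul, Module.End.mul_apply, hPv, map_zero]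
  have hmodL : ∀ p, L p = L (p % P) := fun p => by
    conv_lhs => rw [← EuclideanDomain.div_add_mod p P, map_add, hmul, zero_add]
  let M := LinearMap.range L
  have hinv : ∀ x ∈ M, g.1 x ∈ M := by
    rintro _ ⟨p, rfl⟩
    exact ⟨X * p, by rw [hL, hL, map_mul, aeval_X, Module.End.mul_apply]; rfl⟩
  -- the degree of `P` divides `i`
  have hXr : P ∣ X ^ r - 1 := by
    by_contra hnd
    obtain ⟨A, B, hAB⟩ := (hP.coprime_iff_not_dvd.2 hnd)
    apply hv
    have := congrArg (fun p => aeval f p v) hAB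
    simpa [map_add, map_mul, map_sub, hPv, hfr, sub_self] using this.symm
  have hdeg : P.natDegree ∣ i := by
    refine hP.natDegree_dvd_of_dvd_X_pow_card_pow_sub_X ?_
    rw [Nat.card_eq_fintype_card]
    have h1 : 1 ≤ Fintype.card F ^ i := Nat.one_le_pow _ _ Fintype.card_pos
    obtain ⟨k, hk⟩ : r ∣ Fintype.card F ^ i - 1 := by
      rw [← ZMod.natCast_eq_zero_iff, Nat.cast_sub h1, Nat.cast_pow, Nat.cast_one, sub_eq_zero,
        S.pow_eq_one_iff]
    refine hXr.trans ((dvd_trans ?_ (dvd_mul_left ((X : F[X]) ^ (Fintype.card F ^ i - 1) - 1) X)).trans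
      (dvd_of_eq ?_))
    · rw [hk, pow_mul]; exact sub_one_dvd_pow_sub_one _ k
    · rw [mul_sub, mul_one, ← pow_succ', Nat.sub_add_cancel h1]
  have hdim : Module.finrank F M ≤ i := by
    refine le_trans ?_ (Nat.le_of_dvd S.i_pos hdeg)
    have hle : M ≤ (degreeLT F P.natDegree).map L := by
      rintro _ ⟨p, rfl⟩
      refine ⟨p % P, mem_degreeLT.2 ?_, (hmodL p).symm⟩
      exact (degree_mod_lt p hP.ne_zero).trans_le degree_le_natDegree
    refine (Submodule.finrank_mono hle).trans ?_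
    haveI : FiniteDimensional F (degreeLT F P.natDegree) :=
      Module.Finite.equiv (degreeLTEquiv F P.natDegree).symm
    refine (Submodule.finrank_map_le _ _).trans (le_of_eq ?_)
    rw [(degreeLTEquiv F P.natDegree).finrank_eq, Module.finrank_fintype_fun_eq_card, Fintype.card_fin]
  have hvM : v ∈ M := ⟨1, by rw [hL, map_one]; rfl⟩
  obtain ⟨k, hk⟩ := i_dvd_finrank_of_fpf S hg M hinv (fun x _ => hfix x)
  refine ⟨M, hvM, hinv, ?_, ?_⟩
  · rcases k with _ | _ | k
    · exfalso
      have hb : M = ⊥ := Submodule.finrank_eq_zero.1 (by omega)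
      exact hv ((Submodule.mem_bot F).1 (hb ▸ hvM))
    · omega
    · exfalso
      have : i * 2 ≤ Module.finrank F M := by rw [hk]; exact Nat.mul_le_mul_left i (by omega)
      have := S.i_pos
      omega
  · rintro _ ⟨p, rfl⟩
    rw [hL, ← Module.End.mul_apply, ← map_mul, mul_comm, map_mul, Module.End.mul_apply, hPv, map_zero]

/-- A block. -/
theorem exists_block_top (hQ : PolarND Q) (hpos : Module.finrank F V ≠ 0) {g : orth Q}
    (hg : g ^ r = 1) (hfix : ∀ x, g.1 x = x → x = 0) :
    ∃ M : Submodule F V, (∀ x ∈ M, g.1 x ∈ M) ∧ NDOn Q M ∧ Module.finrank F M = c := by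
  haveI : Fact r.Prime := ⟨S.prime⟩
  haveI : Nontrivial V := Module.nontrivial_of_finrank_pos (R := F) (Nat.pos_of_ne_zero hpos)
  set f := toEnd Q g with hf
  have hfr : f ^ r = 1 := by rw [hf, ← map_pow, hg, map_one]
  obtain ⟨P, v, hP, hv, hPv⟩ : ∃ (P : F[X]) (v : V), Irreducible P ∧ v ≠ 0 ∧ aeval f P v = 0 := by
    have hint : IsIntegral F f := Algebra.IsIntegral.isIntegral f
    obtain ⟨P, hP, hdvd⟩ := WfDvdMonoid.exists_irreducible_factor (minpoly.not_isUnit F f)
      (minpoly.ne_zero hint)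
    obtain ⟨R, hR⟩ := hdvd
    by_contra hcon
    push Not at hcon
    have hR0 : aeval f R = 0 := LinearMap.ext fun x => by
      by_contra hx
      refine hcon P (aeval f R x) hP hx ?_
      rw [← Module.End.mul_apply, ← map_mul, ← hR, minpoly.aeval]
      rfl
    have hRne : R ≠ 0 := fun h => minpoly.ne_zero hint (by rw [hR, h, mul_zero])
    have h1 := natDegree_le_of_dvd (minpoly.dvd F f hR0) hRne
    rw [hR, natDegree_mul hP.ne_zero hRne] at h1
    have := hP.natDegree_pos
    omega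
  obtain ⟨M, hvM, hM, hMd, hPM⟩ := exists_cyclic S hg hfix hP hv hPv
  rcases ndOn_or_ts S hg hM (fun x _ => hfix x) hMd with hn | ⟨hMp, hMQ⟩
  · by_cases hi : Even i
    · exact ⟨M, hM, hn, by rw [hMd, S.hc, if_pos hi]⟩
    · exact absurd hn (not_ndOn_of_odd S hg hi hM (fun x _ => hfix x) hMd)
  have hss : f.IsSemisimple := Module.End.isSemisimple_of_squarefree_aeval_eq_zero
    (p := X ^ r - 1) (X_pow_sub_one_separable_iff.2 S.ne).squarefree (by simp [hfr])
  obtain ⟨R, hR, hcompl⟩ := Module.End.isSemisimple_iff.1 hss (perp Q M)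
    (fun x hx => perp_invariant hM x hx)
  have hRinv : ∀ x ∈ R, g.1 x ∈ R := fun x hx => hR hx
  have hRd : Module.finrank F R = i := by
    have h1 := Submodule.finrank_add_eq_of_isCompl hcompl
    have h2 : Module.finrank F (perp Q M) = Module.finrank F V - Module.finrank F M :=
      LinearMap.BilinForm.finrank_orthogonal (nondegenerate_of_polarND hQ) M
    have := Submodule.finrank_le M
    omega
  have hMle : M ≤ perp Q M := fun x hx => mem_perp.2 fun y hy => hMp y hy x hx
  rcases ndOn_or_ts S hg hRinv (fun x _ => hfix x) hRd with hn | ⟨hRp, hRQ⟩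
  · by_cases hi : Even i
    · exact ⟨R, hRinv, hn, by rw [hRd, S.hc, if_pos hi]⟩
    · exact absurd hn (not_ndOn_of_odd S hg hi hRinv (fun x _ => hfix x) hRd)
  have hMR : NDOn Q (M ⊔ R) := ndOn_iff.2 fun u hu huv => by
    obtain ⟨m, hm, x, hx, rfl⟩ := Submodule.mem_sup.1 hu
    have hx0 : x = 0 := Submodule.disjoint_def.1 hcompl.disjoint x (mem_perp.2 fun m' hm' => by
      have e := huv m' (Submodule.mem_sup_left hm')
      rw [polar_add_left, hMp m hm m' hm', zero_add] at e
      rwa [polar_comm]) hx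
    subst hx0
    rw [add_zero] at huv ⊢
    refine hQ m fun y => ?_
    obtain ⟨a, ha, b, hb, rfl⟩ := Submodule.mem_sup.1
      (hcompl.sup_eq_top ▸ Submodule.mem_top : y ∈ perp Q M ⊔ R)
    rw [polar_add_right, mem_perp.1 ha m hm, huv b (Submodule.mem_sup_right hb), add_zero]
  by_cases hi : Even i
  swap
  · refine ⟨M ⊔ R, ?_, hMR, ?_⟩
    · intro y hy
      obtain ⟨m, hm, x, hx, rfl⟩ := Submodule.mem_sup.1 hy
      rw [map_add]
      exact Submodule.add_mem_sup (hM m hm) (hRinv x hx)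
    · rw [finrank_sup_of_disjoint (hcompl.disjoint.mono_left hMle), hMd, hRd, S.hc, if_neg hi, two_mul]
  -- `i` even: `P` kills `R` as well
  have hqpos : 0 < Fintype.card F ^ (i / 2) := pow_pos Fintype.card_pos _
  have hPR : ∀ x ∈ R, aeval f P x = 0 := fun x hx => by
    refine Submodule.disjoint_def.1 hcompl.disjoint _ (mem_perp.2 fun m hm => ?_)
      (aeval_mem (f := f) hRinv P x hx)
    rw [polar_comm, polar_aeval hg S.prime.pos]
    have hmod : (r - 1) % r = Fintype.card F ^ (i / 2) % r := by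
      have := S.pow_half
      rw [S.hc, if_pos hi, S.hb, if_pos hi] at this
      refine (ZMod.natCast_eq_natCast_iff' _ _ _).1 ?_
      rw [Nat.cast_sub S.prime.one_lt.le, Nat.cast_pow, this]
      simp
    rw [pow_eq_pow_of_mod hfr hmod, ← expand_aeval]
    have hexp : ∀ k : ℕ, expand F (Fintype.card F ^ k) P = P ^ Fintype.card F ^ k := by
      intro k
      induction k with
      | zero => simp
      | succ k ih => rw [pow_succ', expand_mul, ih, map_pow, FiniteField.expand_card, ← pow_mul]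
    rw [hexp, ← Nat.sub_add_cancel hqpos, pow_succ, map_mul, Module.End.mul_apply, hPM m hm,
      map_zero, polar_zero_right]
  obtain ⟨x, hx, hmx⟩ : ∃ x ∈ R, polar Q v x ≠ 0 := by
    by_contra hcon
    push Not at hcon
    refine hv (ndOn_iff.1 hMR v (Submodule.mem_sup_left hvM) fun y hy => ?_)
    obtain ⟨m, hm, x, hx, rfl⟩ := Submodule.mem_sup.1 hy
    rw [polar_add_right, hMp v hvM m hm, hcon x hx, add_zero]
  have hQw : Q (v + x) ≠ 0 := by rwa [form_add, hMQ v hvM, hRQ x hx, zero_add, zero_add]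
  obtain ⟨N, hwN, hN, hNd, -⟩ := exists_cyclic S hg hfix hP (v := v + x)
    (fun h0 => hQw (by rw [h0, QuadraticMap.map_zero]))
    (by rw [map_add, hPv, hPR x hx, add_zero])
  rcases ndOn_or_ts S hg hN (fun y _ => hfix y) hNd with hn | ⟨-, hts⟩
  · exact ⟨N, hN, hn, by rw [hNd, S.hc, if_pos hi]⟩
  · exact absurd (hts _ hwN) hQw

theorem exists_block {U : Submodule F V} (hU : NDOn Q U) (hpos : Module.finrank F U ≠ 0) {g : orth Q}
    (hg : g ^ r = 1) (hinv : ∀ x ∈ U, g.1 x ∈ U) (hfix : ∀ x ∈ U, g.1 x = x → x = 0) :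
    ∃ M, M ≤ U ∧ (∀ x ∈ M, g.1 x ∈ M) ∧ NDOn Q M ∧ Module.finrank F M = c := by
  obtain ⟨M, hM, hn, hd⟩ := exists_block_top S hU hpos (restr_pow_eq_one hg U hinv)
    fun x hx => Subtype.ext (hfix x x.2 (congrArg Subtype.val hx))
  refine ⟨M.map U.subtype, ?_, ?_, ndOn_iff.2 ?_, by rw [Submodule.finrank_map_subtype_eq, hd]⟩
  · rintro _ ⟨x, -, rfl⟩; exact x.2
  · rintro _ ⟨x, hx, rfl⟩; exact ⟨_, hM x hx, rfl⟩
  · rintro _ ⟨x, hx, rfl⟩ h
    exact congrArg Subtype.val (ndOn_iff.1 hn x hx fun y hy => h y ⟨y, hy, rfl⟩)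

/-- Any number of blocks. -/
theorem exists_blocks {g : orth Q} (hg : g ^ r = 1) :
    ∀ (j s : ℕ) (U : Submodule F V), NDOn Q U → (∀ x ∈ U, g.1 x ∈ U) →
      (∀ x ∈ U, g.1 x = x → x = 0) → Module.finrank F U = s * c → j ≤ s →
      ∃ M, M ≤ U ∧ (∀ x ∈ M, g.1 x ∈ M) ∧ NDOn Q M ∧ Module.finrank F M = j * c ∧
        SigOn Q M (b ^ j) := by
  intro j
  induction j with
  | zero =>
    intro s U _ _ _ _ _
    exact ⟨⊥, bot_le, fun x hx => by rw [(Submodule.mem_bot F).1 hx, map_zero]; exact zero_mem _,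
      ndOn_bot, by rw [finrank_bot, zero_mul], by rw [pow_zero]; exact sigOn_bot⟩
  | succ j ih =>
    intro s U hU hinv hfix hd hj
    have hs : 0 < s := by omega
    obtain ⟨B, hBU, hB, hBn, hBd⟩ := exists_block S hU
      (by rw [hd]; exact (Nat.mul_pos hs S.c_pos).ne') hg hinv hfix
    obtain ⟨hn', hdim, -⟩ := hU.inf_perp hBn hBU
    have hinv' : ∀ x ∈ U ⊓ perp Q B, g.1 x ∈ U ⊓ perp Q B :=
      fun x hx => ⟨hinv x hx.1, perp_invariant hB x hx.2⟩
    obtain ⟨M, hMU, hM, hMn, hMd, -⟩ := ih (s - 1) _ hn' hinv' (fun x hx => hfix x hx.1)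
      (by rw [Nat.sub_one_mul]; have := Nat.le_mul_of_pos_left c hs; omega) (by omega)
    obtain ⟨-, hsn, hsd, -⟩ := hBn.sup hMn (hMU.trans inf_le_right)
    have hinvs : ∀ y ∈ B ⊔ M, g.1 y ∈ B ⊔ M := fun y hy => by
      obtain ⟨a, ha, x, hx, rfl⟩ := Submodule.mem_sup.1 hy
      rw [map_add]
      exact Submodule.add_mem_sup (hB a ha) (hM x hx)
    have hle : B ⊔ M ≤ U := sup_le hBU (hMU.trans inf_le_left)
    have hd' : Module.finrank F ↥(B ⊔ M) = (j + 1) * c := by rw [hsd, hBd, hMd]; ring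
    obtain ⟨t, ht, hsig⟩ := fpf_sign_on S hsn hg hinvs fun y hy => hfix y (hle hy)
    obtain rfl : t = j + 1 := Nat.eq_of_mul_eq_mul_right S.c_pos (ht.symm.trans hd')
    exact ⟨B ⊔ M, hle, hinvs, hsn, hd', hsig⟩

end Cfsg.Agent.OrthFix
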