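import Cfsg.Agent.OrthFix.Two

/-!
Isometries whose square is minus one, in odd characteristic.
-/

set_option autoImplicit false
set_option linter.unusedSectionVars false

namespace Cfsg.Agent.OrthFix

open QuadraticMap
open Cfsg.Agent.UnitaryOrthogonal (PolarND orth rf sqForm polar_self_eq form_add form_smul)

universe u v

variable {F : Type u} [Field F] [Fintype F]
variable {V : Type v} [AddCommGroup V] [Module F V] [FiniteDimensional F V] [Finite V]
  {Q : QuadraticForm F V}

theorem exists_mem_form_ne_zero {U : Submodule F V} (hU : NDOn Q U) (h : Module.finrank F U ≠ 0) :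
    ∃ w ∈ U, Q w ≠ 0 := by
  by_contra hcon
  push Not at hcon
  refine h (Submodule.finrank_eq_zero.2 ((Submodule.eq_bot_iff _).2 fun x hx =>
    ndOn_iff.1 hU x hx fun y hy => ?_))
  simp [polar, hcon _ (U.add_mem hx hy), hcon x hx, hcon y hy]

/-- The plane spanned by `w` and its image. -/
theorem exists_plane (h2 : (2 : F) ≠ 0) {w v : V} (hw : Q w ≠ 0) (hv : Q v = Q w)
    (hwv : polar Q w v = 0) :
    NDOn Q (Submodule.span F {w, v}) ∧ SigOn Q (Submodule.span F {w, v}) (chi (-1 : F)) ∧
      Module.finrank F (Submodule.span F {w, v}) = 2 := by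
  let f : F × F →ₗ[F] V :=
    (LinearMap.toSpanSingleton F V w).coprod (LinearMap.toSpanSingleton F V v)
  have hf : ∀ p, f p = p.1 • w + p.2 • v := fun p => rfl
  have hrange : LinearMap.range f = Submodule.span F {w, v} := by
    rw [LinearMap.range_coprod, LinearMap.range_toSpanSingleton, LinearMap.range_toSpanSingleton,
      ← Submodule.span_union]
    rfl
  have hinj : Function.Injective f := by
    rw [injective_iff_map_eq_zero]
    intro p hp
    rw [hf] at hp
    have e1 := congrArg (polar Q w) hp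
    have e2 := congrArg (polar Q v) hp
    rw [polar_add_right, polar_smul_right, polar_smul_right, polar_self_eq, hwv, polar_zero_right]
      at e1
    rw [polar_add_right, polar_smul_right, polar_smul_right, polar_comm Q v w, hwv, polar_self_eq,
      hv, polar_zero_right] at e2
    exact Prod.ext (by simpa [h2, hw] using e1) (by simpa [h2, hw] using e2)
  have hs := (sig_smul_sqForm h2 hw).prod (sig_smul_sqForm h2 hw) (fun _ => h2) (fun _ => h2)
  rw [Module.finrank_self, chi_mul_self hw, one_mul,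
    show sig F 1 1 = chi (-1 : F) from if_pos ⟨odd_one, odd_one⟩] at hs
  have hnd : PolarND ((Q w • sqForm F).prod (Q w • sqForm F)) := by
    intro p hp
    refine Prod.ext (polarND_smul_sqForm h2 hw p.1 fun x => ?_)
      (polarND_smul_sqForm h2 hw p.2 fun x => ?_)
    · simpa [polar] using hp (x, 0)
    · simpa [polar] using hp (0, x)
  obtain ⟨a, b, c⟩ := exists_sub_aux (Q := Q) hnd hs f hinj fun p => by
    rw [hf, form_add, form_smul, form_smul, polar_smul_left, polar_smul_right, hwv, hv,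
      QuadraticMap.prod_apply]
    simp
    ring
  rw [hrange] at a b c
  exact ⟨a, b, c.trans (by rw [Module.finrank_prod, Module.finrank_self])⟩

theorem polar_apply_self (h2 : (2 : F) ≠ 0) {g : orth Q} {w : V} (hw : g.1 (g.1 w) = -w) :
    polar Q w (g.1 w) = 0 := by
  have e := UnitaryOrthogonal.map_polar g w (g.1 w)
  rw [hw, polar_neg_right, polar_comm Q (g.1 w) w] at e
  exact (mul_eq_zero.1 (show (2 : F) * polar Q w (g.1 w) = 0 by linear_combination -e)).resolve_left h2

/-- A space with such an isometry. -/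
theorem imag_struct (h2 : (2 : F) ≠ 0) (g : orth Q) : ∀ (n : ℕ) (U : Submodule F V),
    Module.finrank F U = n → NDOn Q U → (∀ x ∈ U, g.1 x ∈ U) → (∀ x ∈ U, g.1 (g.1 x) = -x) →
    ∃ h, n = 2 * h ∧ SigOn Q U (chi (-1 : F) ^ h) ∧
      (∀ h' ≤ h, ∃ M, M ≤ U ∧ (∀ x ∈ M, g.1 x ∈ M) ∧ NDOn Q M ∧ Module.finrank F M = 2 * h') ∧
      ∃ vs : List V, (∀ v ∈ vs, v ∈ U ∧ Q v ≠ 0) ∧ vs.length = 2 * h ∧
        chi (vs.map fun v => Q v).prod = chi (2 : F) ^ h ∧
        ∀ x ∈ U, ((vs.map (rf Q)).prod).1 x = g.1 x := by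
  intro n
  induction n using Nat.strong_induction_on with
  | _ n ih =>
    intro U hn hU hinv hsq
    rcases Nat.eq_zero_or_pos n with h0 | h0
    · subst h0
      have hbot : U = ⊥ := Submodule.finrank_eq_zero.1 hn
      subst hbot
      refine ⟨0, rfl, by rw [pow_zero]; exact sigOn_bot, fun h' hh => ⟨⊥, bot_le, hinv, ndOn_bot,
        by rw [finrank_bot]; omega⟩, [], by simp, rfl, by simp, fun x hx => ?_⟩
      rw [(Submodule.mem_bot F).1 hx]
      simp
    obtain ⟨w, hwU, hw⟩ := exists_mem_form_ne_zero hU (by omega)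
    have hwv := polar_apply_self h2 (hsq w hwU)
    obtain ⟨hPn, hPs, hPd⟩ := exists_plane h2 hw (UnitaryOrthogonal.map_form g w) hwv
    set P := Submodule.span F {w, g.1 w} with hP
    have hwP : w ∈ P := Submodule.subset_span (by simp)
    have hvP : g.1 w ∈ P := Submodule.subset_span (by simp)
    have hPU : P ≤ U := Submodule.span_le.2 (by
      rintro x hx
      simp only [Set.mem_insert_iff, Set.mem_singleton_iff] at hx
      rcases hx with rfl | rfl
      · exact hwU
      · exact hinv w hwU)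
    have hPinv : ∀ x ∈ P, g.1 x ∈ P := by
      intro x hx
      obtain ⟨a, b, rfl⟩ := Submodule.mem_span_pair.1 hx
      rw [map_add, map_smul, map_smul, hsq w hwU]
      exact P.add_mem (P.smul_mem _ hvP) (P.smul_mem _ (P.neg_mem hwP))
    obtain ⟨hn', hdim, hsig⟩ := hU.inf_perp hPn hPU
    obtain ⟨h, hh, hs', hM, vs, hvs, hlen, hprod, hact⟩ := ih _ (by omega) (U ⊓ perp Q P) rfl hn'
      (fun x hx => ⟨hinv x hx.1, perp_invariant hPinv x hx.2⟩) (fun x hx => hsq x hx.1)
    obtain ⟨hd, hsum⟩ := hPn.isCompl_within hPU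
    have hne : Q (w - g.1 w) = 2 * Q w := by
      rw [sub_eq_add_neg, form_add, QuadraticMap.map_neg, UnitaryOrthogonal.map_form, polar_neg_right,
        hwv]
      ring
    have hne0 : Q (w - g.1 w) ≠ 0 := by rw [hne]; exact mul_ne_zero h2 hw
    have hv0 : Q (g.1 w) ≠ 0 := by rwa [UnitaryOrthogonal.map_form]
    refine ⟨h + 1, by omega, ?_, ?_, (w - g.1 w) :: g.1 w :: vs, ?_, by simp [hlen]; ring, ?_, ?_⟩
    · have := (hPn.sup hn' inf_le_right).2.2.2 _ _ hPs hs'
      rwa [hsum, hPd, sig_even_left even_two, mul_one, ← pow_succ'] at this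
    · intro h' hh'
      rcases h' with _ | h'
      · exact ⟨⊥, bot_le, fun x hx => by rw [(Submodule.mem_bot F).1 hx, map_zero]; exact zero_mem _,
          ndOn_bot, by rw [finrank_bot]⟩
      obtain ⟨M, hMU, hMi, hMn, hMd⟩ := hM h' (by omega)
      obtain ⟨-, hsn, hsd, -⟩ := hPn.sup hMn (hMU.trans inf_le_right)
      refine ⟨P ⊔ M, sup_le hPU (hMU.trans inf_le_left), ?_, hsn, by rw [hsd, hPd, hMd]; ring⟩
      intro y hy
      obtain ⟨a, ha, x, hx, rfl⟩ := Submodule.mem_sup.1 hy
      rw [map_add]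
      exact Submodule.add_mem_sup (hPinv a ha) (hMi x hx)
    · intro x hx
      simp only [List.mem_cons] at hx
      rcases hx with rfl | rfl | hx
      · exact ⟨U.sub_mem hwU (hinv w hwU), hne0⟩
      · exact ⟨hinv w hwU, hv0⟩
      · exact ⟨(hvs x hx).1.1, (hvs x hx).2⟩
    · simp only [List.map_cons, List.prod_cons, chi_mul]
      rw [hprod, hne, chi_mul, UnitaryOrthogonal.map_form, pow_succ]
      linear_combination (chi (2 : F) ^ h * chi (2 : F)) * chi_mul_self hw
    · intro x hx
      rw [← hsum] at hx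
      obtain ⟨a, ha, y, hy, rfl⟩ := Submodule.mem_sup.1 hx
      have hfixP : ((vs.map (rf Q)).prod).1 a = a := by
        clear hlen hprod hact
        induction vs with
        | nil => rfl
        | cons v vs ihv =>
          rw [List.map_cons, List.prod_cons, UnitaryOrthogonal.coe_mul_apply,
            ihv fun u hu => hvs u (List.mem_cons_of_mem _ hu)]
          exact UnitaryOrthogonal.rf_apply_of_polar
            ((polar_comm Q v a).trans (mem_perp.1 (hvs v (by simp)).1.2 a ha))
      have e1 : (rf Q (w - g.1 w)).1 ((rf Q (g.1 w)).1 a) = g.1 a := by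
        obtain ⟨s, t, rfl⟩ := Submodule.mem_span_pair.1 ha
        have r1 : (rf Q (g.1 w)).1 w = w :=
          UnitaryOrthogonal.rf_apply_of_polar ((polar_comm Q _ w).trans hwv)
        have r2 : (rf Q (g.1 w)).1 (g.1 w) = -g.1 w := UnitaryOrthogonal.rf_apply_self hv0
        have r3 : (rf Q (w - g.1 w)).1 w = g.1 w :=
          UnitaryOrthogonal.rf_sub_apply (UnitaryOrthogonal.map_form g w).symm hne0
        have r4 : (rf Q (w - g.1 w)).1 (g.1 w) = w := by
          refine (congrArg (rf Q (w - g.1 w)).1 r3.symm).trans ?_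
          rw [← UnitaryOrthogonal.coe_mul_apply, UnitaryOrthogonal.rf_mul_self]
          rfl
        simp only [map_add, map_smul, map_neg, r1, r2, r3, r4, hsq w hwU]
      have e2 : (rf Q (w - g.1 w)).1 ((rf Q (g.1 w)).1 (g.1 y)) = g.1 y := by
        have hgy : g.1 y ∈ perp Q P := perp_invariant hPinv y hy.2
        rw [UnitaryOrthogonal.rf_apply_of_polar (mem_perp.1 hgy _ hvP),
          UnitaryOrthogonal.rf_apply_of_polar (mem_perp.1 hgy _ (P.sub_mem hwP hvP))]
      rw [List.map_cons, List.prod_cons, List.map_cons, List.prod_cons,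
        UnitaryOrthogonal.coe_mul_apply, UnitaryOrthogonal.coe_mul_apply, map_add, hfixP, hact y hy,
        map_add, map_add, map_add, e1, e2]

/-- Existence. -/
theorem exists_imag (h2 : (2 : F) ≠ 0) : ∀ (h : ℕ) {U : Submodule F V}, NDOn Q U →
    Module.finrank F U = 2 * h → SigOn Q U (chi (-1 : F) ^ h) →
    ∃ g : orth Q, (∀ x ∈ U, g.1 x ∈ U) ∧ (∀ x ∈ U, g.1 (g.1 x) = -x) ∧
      ∀ x ∈ perp Q U, g.1 x = x := by
  intro h
  induction h with
  | zero =>
    intro U _ hd _
    exact ⟨1, fun x hx => hx, fun x hx => by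
      rw [Submodule.finrank_eq_zero.1 hd] at hx
      rw [(Submodule.mem_bot F).1 hx]; simp, fun x _ => rfl⟩
  | succ h ih =>
    intro U hU hd hs
    have hu : chi (-1 : F) = 1 ∨ chi (-1 : F) = -1 := chi_eq_or (neg_ne_zero.2 one_ne_zero)
    obtain ⟨B, hBU, hBd, hBn, hBs⟩ := exists_sub (ε := chi (-1 : F)) (m := 2) hU hs
      ⟨by omega, hu, fun h => absurd h two_ne_zero, fun e => by
        obtain rfl : h = 0 := by omega
        rw [zero_add, pow_one], fun _ => even_two⟩
    obtain ⟨hn', hdim, hsig⟩ := hU.inf_perp hBn hBU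
    have hs' := hsig _ _ hs hBs
    rw [hBd, sig_even_left even_two, mul_one, pow_succ, mul_assoc,
      chi_mul_self (neg_ne_zero.2 one_ne_zero), mul_one] at hs'
    rw [hBd] at hdim
    obtain ⟨g', hg'i, hg's, hg'p⟩ := ih hn' (by omega) hs'
    -- the rotation of `B`
    obtain ⟨w, hwB, hw⟩ := exists_mem_form_ne_zero hBn (by omega)
    have hs1 := (sig_smul_sqForm h2 hw).prod (sig_smul_sqForm h2 hw) (fun _ => h2) (fun _ => h2)
    rw [Module.finrank_self, chi_mul_self hw, one_mul,
      show sig F 1 1 = chi (-1 : F) from if_pos ⟨odd_one, odd_one⟩] at hs1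
    have hnd : PolarND ((Q w • sqForm F).prod (Q w • sqForm F)) := by
      intro p hp
      refine Prod.ext (polarND_smul_sqForm h2 hw p.1 fun x => ?_)
        (polarND_smul_sqForm h2 hw p.2 fun x => ?_)
      · simpa [polar] using hp (x, 0)
      · simpa [polar] using hp (0, x)
    obtain ⟨i⟩ := Sig.isometric hnd hBn hs1 hBs (by rw [Module.finrank_prod, Module.finrank_self, hBd])
    let R : orth ((Q w • sqForm F).prod (Q w • sqForm F)) :=
      ⟨(LinearEquiv.prodComm F F F).trans ((LinearEquiv.neg F).prodCongr (LinearEquiv.refl F F)),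
        fun p => by simp; ring⟩
    let k := glue hBn (UnitaryOrthogonal.orthCongr i R)
    have hk : ∀ x (hx : x ∈ B), k.1 x = ((UnitaryOrthogonal.orthCongr i R).1 ⟨x, hx⟩ : V) :=
      fun x hx => glue_of_mem hBn _ hx
    have hkB : ∀ x ∈ B, k.1 x ∈ B := fun x hx => by rw [hk x hx]; exact Subtype.coe_prop _
    have hkp : ∀ x ∈ perp Q B, k.1 x = x := fun x hx => glue_of_perp hBn _ hx
    have hks : ∀ x ∈ B, k.1 (k.1 x) = -x := by
      intro x hx
      rw [hk x hx, hk _ (Subtype.coe_prop _)]
      obtain ⟨p, hp⟩ := i.toLinearEquiv.surjective ⟨x, hx⟩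
      rw [show (⟨((UnitaryOrthogonal.orthCongr i R).1 ⟨x, hx⟩ : V), _⟩ : B) =
        (UnitaryOrthogonal.orthCongr i R).1 ⟨x, hx⟩ from rfl]
      have hp' : i p = (⟨x, hx⟩ : B) := hp
      rw [← hp', UnitaryOrthogonal.orthCongr_apply, UnitaryOrthogonal.orthCongr_apply]
      have : R.1 (R.1 p) = -p := by ext <;> simp [R]
      rw [this]
      show ((i.toLinearEquiv (-p) : B) : V) = -x
      rw [map_neg, hp]
      rfl
    have hBg' : ∀ x ∈ B, g'.1 x = x := fun x hx => hg'p x (mem_perp.2 fun u hu =>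
      (polar_comm Q u x).trans (mem_perp.1 hu.2 x hx))
    obtain ⟨-, hsum⟩ := hBn.isCompl_within hBU
    refine ⟨k * g', fun x hx => ?_, fun x hx => ?_, fun x hx => ?_⟩
    · rw [← hsum] at hx ⊢
      obtain ⟨a, ha, y, hy, rfl⟩ := Submodule.mem_sup.1 hx
      rw [UnitaryOrthogonal.coe_mul_apply, map_add, map_add, hBg' a ha, hkp _ (hg'i y hy).2]
      exact Submodule.add_mem_sup (hkB a ha) (hg'i y hy)
    · rw [← hsum] at hx
      obtain ⟨a, ha, y, hy, rfl⟩ := Submodule.mem_sup.1 hx
      simp only [UnitaryOrthogonal.coe_mul_apply, map_add, hBg' a ha, hkp _ (hg'i y hy).2,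
        hBg' _ (hkB a ha), hks a ha, hg's y hy, hkp _ ((perp Q B).neg_mem hy.2), neg_add]
    · rw [UnitaryOrthogonal.coe_mul_apply, hg'p x (mem_perp.2 fun u hu => mem_perp.1 hx u hu.1),
        hkp x (mem_perp.2 fun u hu => mem_perp.1 hx u (hBU hu))]

end Cfsg.Agent.OrthFix
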