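import Cfsg.Agent.OrthFix.Unipotent
import Cfsg.Agent.OrthFix.Imag
import Cfsg.Agent.OrthFix.Translate

/-!
Involutions in characteristic two and their invariant non-degenerate subspaces.
-/

set_option autoImplicit false
set_option linter.unusedSectionVars false
set_option linter.style.haveILetI false

namespace Cfsg.Agent.OrthFix

open QuadraticMap
open Cfsg.Agent.UnitaryOrthogonal (PolarND orth polar_self_eq form_add form_smul)

universe u v

variable {F : Type u} [Field F] [Fintype F]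
variable {V : Type v} [AddCommGroup V] [Module F V] [FiniteDimensional F V] [Finite V]
  {Q : QuadraticForm F V} {g : orth Q} {U : Submodule F V}

/-- The moved part is even when it is totally singular. -/
theorem even_mv_of_ts (hts : ∀ a ∈ mvS g, Q a = 0) {W : Submodule F V} (hW : NDOn Q W)
    (hinv : ∀ x ∈ W, g.1 x ∈ W) : Even (Module.finrank F ↥(W ⊓ mvS g)) := by
  let g' := restr g W hinv
  let Q' := Q.comp W.subtype
  obtain ⟨M, hM⟩ := Submodule.exists_isCompl ((W ⊓ fixS g).comap W.subtype)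
  let β : LinearMap.BilinForm F W := (polarBilin Q').comp (g'.1.toLinearMap - LinearMap.id)
  have hev : Even (Module.finrank F M) := by
    refine ClMax99.AltSim.even_finrank β (fun x => ?_) M fun a ha hab => ?_
    · show polar Q ((g.1 (x : V)) - x) (x : V) = 0
      have h := hts _ (sub_mem_mvS g (x : V))
      rw [sub_eq_add_neg, form_add, QuadraticMap.map_neg, polar_neg_right,
        UnitaryOrthogonal.map_form] at h
      rw [polar_sub_left, polar_self_eq]
      linear_combination -h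
    · have hall : ∀ b : W, β a b = 0 := by
        intro b
        obtain ⟨k, hk, m, hm, rfl⟩ := Submodule.mem_sup.1
          (hM.sup_eq_top ▸ Submodule.mem_top : b ∈ (W ⊓ fixS g).comap W.subtype ⊔ M)
        rw [map_add, hab m hm, add_zero]
        show polar Q' (g'.1 a - a) k = 0
        rw [polar_comp_subtype, polar_comm]
        exact mem_perp.1 (mvS_le_perp g (sub_mem_mvS g (a : V))) _ hk.2
      have h0 : g'.1 a - a = 0 := hW _ fun b => hall b
      exact Submodule.disjoint_def.1 hM.disjoint a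
        ⟨a.2, mem_fixS.2 (sub_eq_zero.1 (congrArg Subtype.val h0))⟩ ha
  have h1 := Submodule.finrank_add_eq_of_isCompl hM
  rw [(Submodule.comapSubtypeEquivOfLe (inf_le_left : W ⊓ fixS g ≤ W)).finrank_eq] at h1
  have h2 := finrank_mv_add_fix hW hinv
  rwa [show Module.finrank F ↥(W ⊓ mvS g) = Module.finrank F M by omega]

variable (g) in
/-- `v ↦ f(g v, v)`. -/
def dlt (v : V) : F := polar Q (g.1 v) v

theorem apply_apply (hg : g ^ 2 = 1) (x : V) : g.1 (g.1 x) = x := by
  rw [← UnitaryOrthogonal.coe_mul_apply, ← pow_two, hg]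
  rfl

section

variable (hg : g ^ 2 = 1) (h2 : (2 : F) = 0)
include hg h2

theorem neg_eq_self (x : V) : -x = x := by
  rw [← neg_one_smul F x, show (-1 : F) = 1 by linear_combination -h2, one_smul]

theorem dlt_add (a b : V) : dlt g (a + b) = dlt g a + dlt g b := by
  simp only [dlt, map_add, polar_add_left, polar_add_right]
  have e := UnitaryOrthogonal.map_polar g (g.1 b) a
  rw [apply_apply hg, polar_comm] at e
  linear_combination polar Q (g.1 b) a * h2 + e

theorem dlt_smul (c : F) (a : V) : dlt g (c • a) = c * c * dlt g a := by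
  simp only [dlt, map_smul, polar_smul_left, polar_smul_right, smul_eq_mul]
  ring

theorem dlt_fixed {a : V} (ha : g.1 a = a) : dlt g a = 0 := by
  rw [dlt, ha, polar_self_eq, h2, zero_mul]

theorem sub_fixed (x : V) : g.1 (g.1 x - x) = g.1 x - x := by
  rw [map_sub, apply_apply hg, ← neg_sub, neg_eq_self hg h2]

theorem dlt_eq (x : V) : dlt g x = Q (g.1 x - x) := by
  rw [dlt, sub_eq_add_neg, form_add, QuadraticMap.map_neg, polar_neg_right, UnitaryOrthogonal.map_form]
  linear_combination (polar Q (g.1 x) x - Q x) * h2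

theorem polar_displacement (x : V) : polar Q x (g.1 x - x) = dlt g x := by
  rw [polar_sub_right, polar_self_eq, h2, zero_mul, sub_zero, dlt, polar_comm]

/-- The invariant plane of a vector. -/
theorem plane_of_dlt {y : V} (hy : dlt g y ≠ 0) :
    NDOn Q (Submodule.span F {y, g.1 y - y}) ∧
      (∀ x ∈ Submodule.span F {y, g.1 y - y}, g.1 x ∈ Submodule.span F {y, g.1 y - y}) ∧
      Module.finrank F (Submodule.span F {y, g.1 y - y}) = 2 ∧
      ∀ (a b : F), Q (a • y + b • (g.1 y - y)) = a * a * Q y + a * b * dlt g y + b * b * dlt g y := by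
  set n := g.1 y - y with hn
  have hyn := polar_displacement hg h2 y
  have hy2 : polar Q y y = 0 := by rw [polar_self_eq, h2, zero_mul]
  have hn2 : polar Q n n = 0 := by rw [polar_self_eq, h2, zero_mul]
  have hval : ∀ a b : F, Q (a • y + b • n) = a * a * Q y + a * b * dlt g y + b * b * dlt g y := by
    intro a b
    rw [form_add, form_smul, form_smul, polar_smul_left, polar_smul_right, hyn, ← dlt_eq hg h2]
    simp only [smul_eq_mul]
    ring
  have hnd : NDOn Q (Submodule.span F {y, n}) := ndOn_iff.2 fun u hu huv => by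
    obtain ⟨a, b, rfl⟩ := Submodule.mem_span_pair.1 hu
    have e1 := huv y (Submodule.subset_span (by simp))
    have e2 := huv n (Submodule.subset_span (by simp))
    rw [polar_add_left, polar_smul_left, polar_smul_left, hy2, polar_comm Q n y, hyn] at e1
    rw [polar_add_left, polar_smul_left, polar_smul_left, hn2, hyn] at e2
    simp only [smul_eq_mul, mul_zero, zero_add, add_zero, mul_eq_zero, hy, or_false] at e1 e2
    rw [e1, e2, zero_smul, zero_smul, add_zero]
  refine ⟨hnd, fun x hx => ?_, ?_, hval⟩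
  · obtain ⟨a, b, rfl⟩ := Submodule.mem_span_pair.1 hx
    rw [Submodule.mem_span_pair]
    refine ⟨a, a + b, ?_⟩
    rw [map_add, map_smul, map_smul, hn, sub_fixed hg h2]
    module
  · have hli : LinearIndependent F ![y, n] := LinearIndependent.pair_iff.2 fun a b hab => by
      have e1 := congrArg (polar Q y) hab
      have e2 := congrArg (polar Q n) hab
      rw [polar_add_right, polar_smul_right, polar_smul_right, hy2, hyn, polar_zero_right] at e1
      rw [polar_add_right, polar_smul_right, polar_smul_right, hn2, polar_comm Q n y, hyn,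
        polar_zero_right] at e2
      simp only [smul_eq_mul, mul_zero, zero_add, add_zero, mul_eq_zero, hy, or_false] at e1 e2
      exact ⟨e2, e1⟩
    rw [show ({y, n} : Set V) = Set.range ![y, n] by simp [Set.pair_comm], finrank_span_eq_card hli,
      Fintype.card_fin]

theorem exists_dlt_ne {A : Submodule F V} (h : ∃ x ∈ A, Q (g.1 x - x) ≠ 0) :
    ∃ x ∈ A, dlt g x ≠ 0 := by
  obtain ⟨x, hx, hx'⟩ := h
  exact ⟨x, hx, by rwa [dlt_eq hg h2]⟩

/-- An invariant plane of either sign. -/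
theorem exists_plane_any (hU : NDOn Q U) (hinv : ∀ x ∈ U, g.1 x ∈ U) (h4 : 4 ≤ Module.finrank F U)
    (hδ : ∃ x ∈ U, dlt g x ≠ 0) {s : ℤ} (hs : s = 1 ∨ s = -1) :
    ∃ P, P ≤ U ∧ (∀ x ∈ P, g.1 x ∈ P) ∧ NDOn Q P ∧ Module.finrank F P = 2 ∧ SigOn Q P s := by
  obtain ⟨x, hx, hxd⟩ := hδ
  obtain ⟨hn, hPi, hPd, -⟩ := plane_of_dlt hg h2 hxd
  set P := Submodule.span F {x, g.1 x - x} with hP
  have hPU : P ≤ U := Submodule.span_le.2 (by
    intro v hv
    simp only [Set.mem_insert_iff, Set.mem_singleton_iff] at hv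
    rcases hv with rfl | rfl
    · exact hx
    · exact U.sub_mem (hinv x hx) hx)
  obtain ⟨hn', hdim, -⟩ := hU.inf_perp hn hPU
  have hinv' : ∀ y ∈ U ⊓ perp Q P, g.1 y ∈ U ⊓ perp Q P :=
    fun y hy => ⟨hinv y hy.1, perp_invariant hPi y hy.2⟩
  -- a vector of zero `dlt` and non-zero value
  obtain ⟨u, huU, hud, hu⟩ : ∃ u ∈ U ⊓ perp Q P, dlt g u = 0 ∧ Q u ≠ 0 := by
    by_cases hd' : ∀ y ∈ U ⊓ perp Q P, dlt g y = 0
    · obtain ⟨u, hu1, hu2⟩ := exists_mem_form_ne_zero hn' (by omega)
      exact ⟨u, hu1, hd' u hu1, hu2⟩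
    · push Not at hd'
      obtain ⟨y, hy, hyd⟩ := hd'
      exact ⟨g.1 y - y, (U ⊓ perp Q P).sub_mem (hinv' y hy) hy, dlt_fixed hg h2 (sub_fixed hg h2 y),
        by rwa [← dlt_eq hg h2]⟩
  have hxu : polar Q x u = 0 := mem_perp.1 huU.2 x (Submodule.subset_span (by simp))
  haveI : CharP F 2 := (CharP.charP_iff_prime_eq_zero Nat.prime_two).2 (by exact_mod_cast h2)
  have hsurj : ∀ a : F, ∃ l : F, Q (x + l • u) = a ∧ dlt g (x + l • u) = dlt g x := by
    intro a
    obtain ⟨l, hl⟩ := FiniteField.isSquare_of_char_two (F := F) (ringChar.eq F 2) ((a - Q x) / Q u)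
    refine ⟨l, ?_, ?_⟩
    · rw [form_add, form_smul, polar_smul_right, hxu, smul_zero, add_zero, ← hl, div_mul_cancel₀ _ hu]
      ring
    · rw [dlt_add hg h2, dlt_smul hg h2, hud, mul_zero, add_zero]
  have mk : ∀ y : V, y ∈ U → dlt g y ≠ 0 →
      Submodule.span F {y, g.1 y - y} ≤ U := fun y hy _ => Submodule.span_le.2 (by
    intro v hv
    simp only [Set.mem_insert_iff, Set.mem_singleton_iff] at hv
    rcases hv with rfl | rfl
    · exact hy
    · exact U.sub_mem (hinv y hy) hy)
  rcases hs with rfl | rfl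
  · obtain ⟨l, hl, hld⟩ := hsurj 0
    set y := x + l • u
    have hyd : dlt g y ≠ 0 := hld ▸ hxd
    obtain ⟨a, b, c, -⟩ := plane_of_dlt hg h2 hyd
    refine ⟨_, mk y (U.add_mem hx (U.smul_mem l huU.1)) hyd, b, a, c,
      sigOn_one_of_ts a (h := 1) c (T := Submodule.span F {y})
        (Submodule.span_mono (by simp)) ?_ ?_⟩
    · intro t ht
      obtain ⟨k, rfl⟩ := Submodule.mem_span_singleton.1 ht
      rw [form_smul, hl, mul_zero]
    · rw [finrank_span_singleton]
      intro h0
      apply hyd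
      rw [h0]; simp [dlt]
  · obtain ⟨ζ, hζ⟩ := exists_binAniso (F := F)
    obtain ⟨l, hl, hld⟩ := hsurj (ζ * dlt g x)
    set y := x + l • u
    have hyd : dlt g y ≠ 0 := hld ▸ hxd
    obtain ⟨a, b, c, hval⟩ := plane_of_dlt hg h2 hyd
    refine ⟨_, mk y (U.add_mem hx (U.smul_mem l huU.1)) hyd, b, a, c, (sigOn_neg_one_iff a).2 fun h1 => ?_⟩
    obtain ⟨T, hT, hT0, hTd⟩ := (sigOn_one_iff a (h := 1) c).1 h1
    obtain ⟨t, ht, htne⟩ := (Submodule.ne_bot_iff _).1 (fun hb : T = ⊥ => by
      rw [hb, finrank_bot] at hTd; omega)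
    obtain ⟨α, β, rfl⟩ := Submodule.mem_span_pair.1 (hT ht)
    have e := hT0 _ ht
    rw [hval, hl, hld] at e
    have e' : (β ^ 2 + 1 * β * α + ζ * α ^ 2) * dlt g x = 0 := by linear_combination e
    obtain ⟨hb0, ha0⟩ := hζ β α ((mul_eq_zero.1 e').resolve_right hxd)
    exact htne (by rw [ha0, hb0, zero_smul, zero_smul, add_zero])

/-- A vector whose plane has a complement of the same kind. -/
theorem exists_good (hU : NDOn Q U) (hinv : ∀ x ∈ U, g.1 x ∈ U) (hδ : ∃ x ∈ U, dlt g x ≠ 0) :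
    ∃ P, P ≤ U ∧ (∀ x ∈ P, g.1 x ∈ P) ∧ NDOn Q P ∧ Module.finrank F P = 2 ∧
      ((∃ x ∈ U ⊓ perp Q P, dlt g x ≠ 0) ∨ ∀ x ∈ U ⊓ perp Q P, g.1 x = x) := by
  obtain ⟨x, hx, hxd⟩ := hδ
  obtain ⟨hn, hPi, hPd, -⟩ := plane_of_dlt hg h2 hxd
  set P := Submodule.span F {x, g.1 x - x} with hP
  have hxP : x ∈ P := Submodule.subset_span (by simp)
  have hnP : g.1 x - x ∈ P := Submodule.subset_span (by simp)
  have hPU : P ≤ U := Submodule.span_le.2 (by
    intro v hv
    simp only [Set.mem_insert_iff, Set.mem_singleton_iff] at hv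
    rcases hv with rfl | rfl
    · exact hx
    · exact U.sub_mem (hinv x hx) hx)
  by_cases hcase : (∃ y ∈ U ⊓ perp Q P, dlt g y ≠ 0) ∨ ∀ y ∈ U ⊓ perp Q P, g.1 y = y
  · exact ⟨P, hPU, hPi, hn, hPd, hcase⟩
  push Not at hcase
  obtain ⟨h0, x', hx', hne⟩ := hcase
  obtain ⟨hn', -, -⟩ := hU.inf_perp hn hPU
  have hinv' : ∀ y ∈ U ⊓ perp Q P, g.1 y ∈ U ⊓ perp Q P :=
    fun y hy => ⟨hinv y hy.1, perp_invariant hPi y hy.2⟩
  set n' := g.1 x' - x' with hn'def
  have hn'U : n' ∈ U ⊓ perp Q P := (U ⊓ perp Q P).sub_mem (hinv' x' hx') hx'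
  obtain ⟨w₀, hw₀, hw₀n⟩ : ∃ w₀ ∈ U ⊓ perp Q P, polar Q n' w₀ ≠ 0 := by
    by_contra hcon
    push Not at hcon
    exact hne (sub_eq_zero.1 (ndOn_iff.1 hn' n' hn'U hcon))
  set c := dlt g x with hc
  set w := (c / polar Q n' w₀) • w₀ with hw
  have hwU : w ∈ U ⊓ perp Q P := (U ⊓ perp Q P).smul_mem _ hw₀
  have hnw : polar Q n' w = c := by
    rw [hw, polar_smul_right, smul_eq_mul, div_mul_cancel₀ _ hw₀n]
  set y := x + x'
  have hyU : y ∈ U := U.add_mem hx hx'.1
  have hyd : dlt g y ≠ 0 := by rwa [dlt_add hg h2, h0 x' hx', add_zero]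
  obtain ⟨a, b, d, -⟩ := plane_of_dlt hg h2 hyd
  have hsub : Submodule.span F {y, g.1 y - y} ≤ U := Submodule.span_le.2 (by
    intro v hv
    simp only [Set.mem_insert_iff, Set.mem_singleton_iff] at hv
    rcases hv with rfl | rfl
    · exact hyU
    · exact U.sub_mem (hinv y hyU) hyU)
  refine ⟨_, hsub, b, a, d, Or.inl
    ⟨x + (polar Q x' w / c) • (g.1 x - x) + w, ⟨?_, mem_perp.2 fun u hu => ?_⟩, ?_⟩⟩
  · exact U.add_mem (U.add_mem hx (U.smul_mem _ (U.sub_mem (hinv x hx) hx))) hwU.1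
  · obtain ⟨α, β, rfl⟩ := Submodule.mem_span_pair.1 hu
    have hyn : g.1 y - y = (g.1 x - x) + n' := by simp only [y, hn'def, map_add]; abel
    have p1 : polar Q x w = 0 := mem_perp.1 hwU.2 x hxP
    have p2 : polar Q (g.1 x - x) w = 0 := mem_perp.1 hwU.2 _ hnP
    have p3 : polar Q x' x = 0 := (polar_comm Q _ _).trans (mem_perp.1 hx'.2 x hxP)
    have p4 : polar Q x' (g.1 x - x) = 0 := (polar_comm Q _ _).trans (mem_perp.1 hx'.2 _ hnP)
    have p5 : polar Q n' x = 0 := (polar_comm Q _ _).trans (mem_perp.1 hn'U.2 x hxP)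
    have p6 : polar Q n' (g.1 x - x) = 0 := (polar_comm Q _ _).trans (mem_perp.1 hn'U.2 _ hnP)
    have p7 : polar Q x (g.1 x - x) = c := polar_displacement hg h2 x
    have p8 : polar Q (g.1 x - x) x = c := (polar_comm Q _ _).trans p7
    have p9 : polar Q x x = 0 := by rw [polar_self_eq, h2, zero_mul]
    have p10 : polar Q (g.1 x - x) (g.1 x - x) = 0 := by rw [polar_self_eq, h2, zero_mul]
    rw [hyn]
    simp only [y, polar_add_left, polar_add_right, polar_smul_left, polar_smul_right, p1, p2, p3, p4,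
      p5, p6, p7, p8, p9, p10, hnw, smul_eq_mul]
    have hk : polar Q x' w / c * c = polar Q x' w := div_mul_cancel₀ _ (by assumption)
    linear_combination α * hk + (α * polar Q x' w + β * c) * h2
  · rw [dlt_add hg h2, dlt_add hg h2, dlt_smul hg h2, dlt_fixed hg h2 (sub_fixed hg h2 x), h0 w hwU,
      mul_zero, add_zero, add_zero]
    exact hxd

/-- Outside the totally singular case every kind of even subspace occurs. -/
theorem exists_of_dlt : ∀ (h : ℕ) (U : Submodule F V) (εU : ℤ) (ε : ℤ), NDOn Q U → SigOn Q U εU →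
    (∀ x ∈ U, g.1 x ∈ U) → (∃ x ∈ U, dlt g x ≠ 0) → 0 < h → 2 * h < Module.finrank F U →
    Even (Module.finrank F U) → (ε = 1 ∨ ε = -1) →
    ∃ W, W ≤ U ∧ (∀ x ∈ W, g.1 x ∈ W) ∧ NDOn Q W ∧ Module.finrank F W = 2 * h ∧ SigOn Q W ε := by
  intro h
  induction h with
  | zero => intros; omega
  | succ h ih =>
    intro U εU ε hU hs hinv hδ _ hlt hev hε
    obtain ⟨t, ht⟩ := hev
    rcases Nat.eq_zero_or_pos h with rfl | hpos
    · obtain ⟨P, hPU, hPi, hPn, hPd, hPs⟩ := exists_plane_any hg h2 hU hinv (by omega) hδ hε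
      exact ⟨P, hPU, hPi, hPn, hPd, hPs⟩
    obtain ⟨P, hPU, hPi, hPn, hPd, hrest⟩ := exists_good hg h2 hU hinv hδ
    obtain ⟨εP, hεP⟩ := exists_sig hPn
    obtain ⟨hn', hdim, hsig⟩ := hU.inf_perp hPn hPU
    have hs' := hsig _ _ hs hεP
    rw [hPd, sig_even_left even_two, mul_one] at hs'
    rw [hPd] at hdim
    have hu : ε * εP = 1 ∨ ε * εP = -1 := by
      rcases hε with rfl | rfl <;> rcases hεP.unit with h' | h' <;> simp [h']
    obtain ⟨W', hW'U, hW'i, hW'n, hW'd, hW's⟩ : ∃ W', W' ≤ U ⊓ perp Q P ∧ (∀ x ∈ W', g.1 x ∈ W') ∧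
        NDOn Q W' ∧ Module.finrank F W' = 2 * h ∧ SigOn Q W' (ε * εP) := by
      rcases hrest with hδ' | hfix
      · exact ih _ _ _ hn' hs' (fun y hy => ⟨hinv y hy.1, perp_invariant hPi y hy.2⟩) hδ' hpos
          (by omega) ⟨t - 1, by omega⟩ hu
      · obtain ⟨W', a, b, c, d⟩ := exists_sub (ε := ε * εP) (m := 2 * h) hn' hs'
          ⟨by omega, hu, fun e => by omega, fun e => by omega, fun _ => even_two_mul h⟩
        exact ⟨W', a, fun x hx => by rw [hfix x (a hx)]; exact hx, c, b, d⟩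
    obtain ⟨-, hn, hd, hsum⟩ := hPn.sup hW'n (hW'U.trans inf_le_right)
    have := hsum _ _ hεP hW's
    rw [hPd, sig_even_left even_two, mul_one] at this
    refine ⟨P ⊔ W', sup_le hPU (hW'U.trans inf_le_left), fun y hy => ?_, hn, by omega, ?_⟩
    · obtain ⟨a, ha, z, hz, rfl⟩ := Submodule.mem_sup.1 hy
      rw [map_add]
      exact Submodule.add_mem_sup (hPi a ha) (hW'i z hz)
    · rwa [show εP * (ε * εP) = ε * (εP * εP) by ring, hεP.mul_self, mul_one] at this

/-- Blocks of size four in the totally singular case. -/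
theorem exists_fours (hts : ∀ a ∈ mvS g, Q a = 0) : ∀ (j : ℕ) (U : Submodule F V), NDOn Q U →
    (∀ x ∈ U, g.1 x ∈ U) → 2 * j ≤ Module.finrank F ↥(U ⊓ mvS g) →
    ∃ M, M ≤ U ∧ (∀ x ∈ M, g.1 x ∈ M) ∧ NDOn Q M ∧ Module.finrank F M = 4 * j ∧ SigOn Q M 1 ∧
      Module.finrank F ↥(U ⊓ perp Q M ⊓ mvS g) + 2 * j ≤ Module.finrank F ↥(U ⊓ mvS g) ∧
      2 * j ≤ Module.finrank F ↥(M ⊓ mvS g) := by
  intro j
  induction j with
  | zero =>
    intro U _ _ _
    exact ⟨⊥, bot_le, fun x hx => by rw [(Submodule.mem_bot F).1 hx, map_zero]; exact zero_mem _,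
      ndOn_bot, by rw [finrank_bot], sigOn_bot,
      by simpa using Submodule.finrank_mono (inf_le_inf_right (mvS g) (inf_le_left : U ⊓ perp Q ⊥ ≤ U)),
      Nat.zero_le _⟩
  | succ j ih =>
    intro U hU hinv hj
    obtain ⟨M, hMU, hMi, hMn, hMd, hMs, hrest, hMR⟩ := ih U hU hinv (by omega)
    obtain ⟨hn', -, -⟩ := hU.inf_perp hMn hMU
    set U' := U ⊓ perp Q M with hU'
    have hinv' : ∀ y ∈ U', g.1 y ∈ U' := fun y hy => ⟨hinv y hy.1, perp_invariant hMi y hy.2⟩
    -- `U'` still has moved vectors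
    have hmv : ∃ x ∈ U', g.1 x ≠ x := by
      by_contra hcon
      push Not at hcon
      have e1 := finrank_mv_add_fix hn' hinv'
      have e2 : U' ⊓ fixS g = U' := inf_eq_left.2 fun x hx => mem_fixS.2 (hcon x hx)
      rw [e2] at e1
      have e3 : U ⊓ mvS g ≤ M ⊓ mvS g := by
        rintro v ⟨hv, hvm⟩
        refine ⟨?_, hvm⟩
        obtain ⟨-, hsum⟩ := hMn.isCompl_within hMU
        obtain ⟨w, hwU, hw⟩ : ∃ w ∈ U, g.1 w - w = v := by
          let T : U →ₗ[F] V := (g.1.toLinearMap - LinearMap.id).comp U.subtype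
          have hle : LinearMap.range T ≤ U ⊓ mvS g := by
            rintro _ ⟨x, rfl⟩
            exact ⟨U.sub_mem (hinv x x.2) x.2, sub_mem_mvS g x⟩
          have heq : LinearMap.range T = U ⊓ mvS g := by
            refine Submodule.eq_of_le_of_finrank_le hle ?_
            have r1 := LinearMap.finrank_range_add_finrank_ker T
            have r2 : Module.finrank F (LinearMap.ker T) ≤ Module.finrank F ↥(U ⊓ fixS g) := by
              rw [← Submodule.finrank_map_subtype_eq U (LinearMap.ker T)]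
              refine Submodule.finrank_mono ?_
              rintro _ ⟨x, hx, rfl⟩
              exact ⟨x.2, hx⟩
            have r3 := finrank_mv_add_fix hU hinv
            omega
          have : v ∈ LinearMap.range T := heq.symm ▸ (⟨hv, hvm⟩ : v ∈ U ⊓ mvS g)
          obtain ⟨w, hw⟩ := this
          exact ⟨w, w.2, hw⟩
        rw [← hsum] at hwU
        obtain ⟨a, ha, z, hz, rfl⟩ := Submodule.mem_sup.1 hwU
        rw [← hw, map_add, hcon z hz, add_sub_add_right_eq_sub]
        exact M.sub_mem (hMi a ha) ha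
      have e4 := Submodule.finrank_mono e3
      have e5 := finrank_mv_add_fix hMn hMi
      have e6 : M ⊓ mvS g ≤ M ⊓ fixS g := fun v hv => ⟨hv.1, by
        obtain ⟨w, rfl⟩ := hv.2
        exact mem_fixS.2 (sub_fixed hg h2 w)⟩
      have e7 := Submodule.finrank_mono e6
      omega
    obtain ⟨x, hx, hxne⟩ := hmv
    set n := g.1 x - x with hn
    have hnU : n ∈ U' := U'.sub_mem (hinv' x hx) hx
    obtain ⟨z₀, hz₀, hz₀n⟩ : ∃ z₀ ∈ U', polar Q n z₀ ≠ 0 := by
      by_contra hcon
      push Not at hcon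
      exact hxne (sub_eq_zero.1 (ndOn_iff.1 hn' n hnU hcon))
    set x' := (polar Q n z₀)⁻¹ • z₀ with hx'
    have hx'U : x' ∈ U' := U'.smul_mem _ hz₀
    have hnx' : polar Q n x' = 1 := by
      rw [hx', polar_smul_right, smul_eq_mul, inv_mul_cancel₀ hz₀n]
    set n' := g.1 x' - x' with hn'def
    have hQn : Q n = 0 := hts _ (sub_mem_mvS g x)
    have hQn' : Q n' = 0 := hts _ (sub_mem_mvS g x')
    have hnn' : polar Q n n' = 0 := polar_eq_zero_of_ts hts (sub_mem_mvS g x) (sub_mem_mvS g x')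
    have hxn : polar Q x n = 0 := by
      rw [hn, polar_displacement hg h2, dlt_eq hg h2]; exact hQn
    have hx'n' : polar Q x' n' = 0 := by
      rw [hn'def, polar_displacement hg h2, dlt_eq hg h2]; exact hQn'
    have hxn' : polar Q x n' = 1 := by
      have e := UnitaryOrthogonal.map_polar g x (g.1 x')
      rw [apply_apply hg] at e
      rw [← hnx', hn'def, hn, polar_sub_right, polar_sub_left]
      linear_combination -e
    have self0 : ∀ v : V, polar Q v v = 0 := fun v => by rw [polar_self_eq, h2, zero_mul]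
    let B := Submodule.span F ({x, n, x', n'} : Set V)
    have hBU : B ≤ U' := Submodule.span_le.2 (by
      intro v hv
      simp only [Set.mem_insert_iff, Set.mem_singleton_iff] at hv
      rcases hv with rfl | rfl | rfl | rfl
      · exact hx
      · exact hnU
      · exact hx'U
      · exact U'.sub_mem (hinv' x' hx'U) hx'U)
    have hcoef : ∀ a b k l : F, polar Q n (a • x + b • n + (k • x' + l • n')) = k ∧
        polar Q n' (a • x + b • n + (k • x' + l • n')) = a := by
      intro a b k l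
      simp only [polar_add_right, polar_smul_right, smul_eq_mul, polar_comm Q n x, hxn, self0, hnx', hnn',
        polar_comm Q n' x, hxn', polar_comm Q n' n, polar_comm Q n' x', hx'n']
      constructor <;> ring
    have hli : LinearIndependent F ![x, n, x', n'] := by
      rw [Fintype.linearIndependent_iff]
      intro c hc
      have e : c 0 • x + c 1 • n + (c 2 • x' + c 3 • n') = 0 := by
        rw [← hc, Fin.sum_univ_four]
        simp
        abel
      obtain ⟨ek, ea⟩ := hcoef (c 0) (c 1) (c 2) (c 3)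
      rw [e, polar_zero_right] at ek ea
      have eb := congrArg (polar Q x) e
      have el := congrArg (polar Q x') e
      simp only [polar_add_right, polar_smul_right, smul_eq_mul, self0, hxn, hxn', polar_comm Q x' x,
        polar_comm Q x' n, hnx', hx'n', ← ek, ← ea, polar_zero_right] at eb el
      intro i
      fin_cases i
      · exact ea.symm
      · simpa using el
      · exact ek.symm
      · simpa using eb
    have hBd : Module.finrank F B = 4 := by
      show Module.finrank F (Submodule.span F ({x, n, x', n'} : Set V)) = 4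
      rw [show ({x, n, x', n'} : Set V) = Set.range ![x, n, x', n'] by
        simp [Set.range, Fin.exists_fin_succ]; aesop, finrank_span_eq_card hli, Fintype.card_fin]
    have hmem : ∀ v ∈ ({x, n, x', n'} : Set V), v ∈ B := fun v hv => Submodule.subset_span hv
    have hdec : ∀ v ∈ B, ∃ a b k l : F, v = a • x + b • n + (k • x' + l • n') := by
      intro v hv
      rw [Submodule.mem_span_insert] at hv
      obtain ⟨a, z, hz, rfl⟩ := hv
      rw [Submodule.mem_span_insert] at hz
      obtain ⟨b, z', hz', rfl⟩ := hz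
      obtain ⟨k, l, rfl⟩ := Submodule.mem_span_pair.1 hz'
      exact ⟨a, b, k, l, by abel⟩
    have hBi : ∀ v ∈ B, g.1 v ∈ B := by
      intro v hv
      obtain ⟨a, b, k, l, rfl⟩ := hdec v hv
      have e1 : g.1 x = x + n := by rw [hn]; abel
      have e2 : g.1 x' = x' + n' := by rw [hn'def]; abel
      have e3 : g.1 n = n := sub_fixed hg h2 x
      have e4 : g.1 n' = n' := sub_fixed hg h2 x'
      simp only [map_add, map_smul, e1, e2, e3, e4]
      refine B.add_mem (B.add_mem (B.smul_mem _ (B.add_mem ?_ ?_)) (B.smul_mem _ ?_))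
        (B.add_mem (B.smul_mem _ (B.add_mem ?_ ?_)) (B.smul_mem _ ?_)) <;> exact hmem _ (by simp)
    have hBn : NDOn Q B := ndOn_iff.2 fun u hu huv => by
      obtain ⟨a, b, k, l, rfl⟩ := hdec u hu
      obtain ⟨ek, ea⟩ := hcoef a b k l
      have hk0 : k = 0 := ek ▸ (polar_comm Q _ _).trans (huv n (hmem n (by simp)))
      have ha0 : a = 0 := ea ▸ (polar_comm Q _ _).trans (huv n' (hmem n' (by simp)))
      have hb := huv x' (hmem x' (by simp))
      have hl := huv x (hmem x (by simp))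
      simp only [ha0, hk0, zero_smul, zero_add, polar_add_left, polar_smul_left, smul_eq_mul, hnx',
        polar_comm Q n' x', hx'n', polar_comm Q n x, hxn, polar_comm Q n' x, hxn', mul_one, mul_zero,
        add_zero] at hb hl
      rw [ha0, hk0, hb, hl]
      simp
    have hTle : Submodule.span F ({n, n'} : Set V) ≤ B ⊓ mvS g := Submodule.span_le.2 (by
      intro v hv
      simp only [Set.mem_insert_iff, Set.mem_singleton_iff] at hv
      rcases hv with rfl | rfl
      · exact ⟨hmem n (by simp), sub_mem_mvS g x⟩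
      · exact ⟨hmem n' (by simp), sub_mem_mvS g x'⟩)
    have hTd : Module.finrank F (Submodule.span F ({n, n'} : Set V)) = 2 := by
      rw [show ({n, n'} : Set V) = Set.range (![x, n, x', n'] ∘ ![(1 : Fin 4), 3]) by
        ext v; simp [Fin.exists_fin_two, eq_comm],
        finrank_span_eq_card (hli.comp _ (by decide)), Fintype.card_fin]
    have hBs : SigOn Q B 1 := sigOn_one_of_ts hBn (h := 2) hBd (hTle.trans inf_le_left)
      (fun t ht => hts t (hTle ht).2) hTd.ge
    obtain ⟨hdis, hsn, hsd, hsum⟩ := hMn.sup hBn (hBU.trans inf_le_right)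
    have hsi : ∀ v ∈ M ⊔ B, g.1 v ∈ M ⊔ B := fun v hv => by
      obtain ⟨a, ha, z, hz, rfl⟩ := Submodule.mem_sup.1 hv
      rw [map_add]
      exact Submodule.add_mem_sup (hMi a ha) (hBi z hz)
    have hs1 := hsum _ _ hMs hBs
    rw [sig_even_right ⟨2, hBd⟩, mul_one, mul_one] at hs1
    have hR : 2 * (j + 1) ≤ Module.finrank F ↥((M ⊔ B) ⊓ mvS g) := by
      have hle : M ⊓ mvS g ⊔ (B ⊓ mvS g) ≤ (M ⊔ B) ⊓ mvS g :=
        sup_le (inf_le_inf_right _ le_sup_left) (inf_le_inf_right _ le_sup_right)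
      have e := Submodule.finrank_mono hle
      rw [finrank_sup_of_disjoint (hdis.mono inf_le_left inf_le_left)] at e
      have := Submodule.finrank_mono hTle
      omega
    refine ⟨M ⊔ B, sup_le hMU (hBU.trans inf_le_left), hsi, hsn, by omega, hs1, ?_, hR⟩
    obtain ⟨hd0, -⟩ := hsn.isCompl_within (U := U) (sup_le hMU (hBU.trans inf_le_left))
    have hle : (M ⊔ B) ⊓ mvS g ⊔ (U ⊓ perp Q (M ⊔ B) ⊓ mvS g) ≤ U ⊓ mvS g :=
      sup_le (inf_le_inf_right _ (sup_le hMU (hBU.trans inf_le_left)))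
        (inf_le_inf_right _ inf_le_left)
    have e := Submodule.finrank_mono hle
    rw [finrank_sup_of_disjoint (hd0.mono inf_le_left inf_le_left)] at e
    omega

/-- The totally singular case. -/
theorem exists_of_ts (hQ : PolarND Q) {εV : ℤ} (hs : Sig Q εV) (hts : ∀ a ∈ mvS g, Q a = 0)
    {a j : ℕ} {ε : ℤ} (ha : 2 * a ≤ Module.finrank F (mvS g))
    (hsplit : 2 * Module.finrank F (mvS g) ≤ Module.finrank F V →
      (2 * Module.finrank F (mvS g) = Module.finrank F V → εV = 1) →
      CanSplit F (Module.finrank F V - 2 * Module.finrank F (mvS g)) εV (2 * j) ε) :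
    ∃ W : Submodule F V, (Module.finrank F W = 4 * a + 2 * j ∧ NDOn Q W ∧ SigOn Q W ε) ∧ ∀ x ∈ W, g.1 x ∈ W := by
  obtain ⟨R, hR⟩ := even_mv_of_ts hts (ndOn_top hQ) fun _ _ => trivial
  rw [top_inf_eq] at hR
  obtain ⟨M, -, hMi, hMn, hMd, hMs, hrest, hMR⟩ := exists_fours hg h2 hts R ⊤ (ndOn_top hQ)
    (fun _ _ => trivial) (by rw [top_inf_eq]; omega)
  rw [top_inf_eq, top_inf_eq] at hrest
  obtain ⟨M', hM'M, hM'i, hM'n, hM'd, hM's, -, -⟩ := exists_fours hg h2 hts a M hMn hMi (by omega)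
  obtain ⟨hn', hdim, hsig⟩ := (ndOn_top hQ).inf_perp hMn le_top
  have hs' := hsig _ _ (sigOn_top hs) hMs
  rw [hMd, sig_even_left ⟨2 * R, by ring⟩, mul_one, mul_one] at hs'
  rw [finrank_top, hMd] at hdim
  rw [top_inf_eq] at hn' hs' hdim
  have hfix : ∀ x ∈ perp Q M, g.1 x = x := fun x hx => by
    have h0 : perp Q M ⊓ mvS g = ⊥ := Submodule.finrank_eq_zero.1 (by omega)
    exact sub_eq_zero.1 ((Submodule.eq_bot_iff _).1 h0 _
      ⟨(perp Q M).sub_mem (perp_invariant hMi x hx) hx, sub_mem_mvS g x⟩)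
  obtain ⟨W₀, hW₀, hW₀d, hW₀n, hW₀s⟩ := exists_sub (ε := ε) (m := 2 * j) hn' hs' (by
    rw [show Module.finrank F (perp Q M) = Module.finrank F V - 2 * Module.finrank F (mvS g) by omega]
    exact hsplit (by omega) fun e => (hn'.valid hs').zero (by omega))
  obtain ⟨-, hn, hd, hsum⟩ := hM'n.sup hW₀n
    (hW₀.trans fun x hx => mem_perp.2 fun u hu => mem_perp.1 hx u (hM'M hu))
  have := hsum _ _ hM's hW₀s
  rw [hW₀d, sig_even_right (even_two_mul j), mul_one, one_mul] at this
  refine ⟨M' ⊔ W₀, ⟨by omega, hn, this⟩, fun y hy => ?_⟩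
  obtain ⟨z, hz, w, hw, rfl⟩ := Submodule.mem_sup.1 hy
  rw [map_add, hfix w (hW₀ hw)]
  exact Submodule.add_mem_sup (hM'i z hz) hw

end

end Cfsg.Agent.OrthFix
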