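import Cfsg.Agent.OrthFix.Rows
import Cfsg.Agent.OrthFix.CharTwoInvol

/-!
Even subspaces fixed by involutions in characteristic `2`, and the witnesses without one.
-/

set_option autoImplicit false
set_option linter.unusedSectionVars false
set_option linter.style.haveILetI false

namespace Cfsg.Agent.OrthFix

open QuadraticMap
open Cfsg.Agent.UnitaryOrthogonal (PolarND orth eichGroup isometryGroupEquiv form_add form_smul)

universe u

variable {F : Type u} [Field F] [Fintype F] {ι : Type} [Fintype ι] [DecidableEq ι]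
  {Q : QuadraticForm F (ι → F)} {f : (ι → F) → F}

/-- In characteristic `2` it is enough to treat involutions. -/
theorem forall_of_char_two (hf : ⇑Q = f) (hQ : PolarND Q) (hne : Nonempty ι) (h2 : (2 : F) = 0)
    {P : Submodule F (ι → F) → Prop}
    (H : ∀ g : orth Q, g ^ 2 = 1 → g ≠ 1 → ∃ W, P W ∧ ∀ x ∈ W, g.1 x ∈ W) :
    ∀ x : GL ι F, x ∈ Geo.omegaGL f →
      (∃ z : F, ((x ^ 2 : GL ι F) : Matrix ι ι F) = z • (1 : Matrix ι ι F)) →
      (∀ z : F, (x : Matrix ι ι F) ≠ z • (1 : Matrix ι ι F)) →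
      ∃ W, P W ∧ W.map (Matrix.toLin' (x : Matrix ι ι F)) ≤ W := by
  rintro _ ⟨h, -, rfl⟩ ⟨z, hz⟩ hns
  obtain ⟨j⟩ := hne
  obtain ⟨v, hv⟩ := exists_form_ne_zero hQ (x := (Pi.single j (1 : F) : ι → F)) (by simp)
  have hz' : (((h : GL ι F) ^ 2 : GL ι F) : Matrix ι ι F) = z • (1 : Matrix ι ι F) := hz
  set g := isometryGroupEquiv Q (fun v => congrFun hf v) h
  have h1 : ∀ x, g.1 (g.1 x) = z • x := fun x => by
    rw [← toLin'_eq hf, ← toLin'_eq hf, ← LinearMap.comp_apply, ← Matrix.toLin'_mul, ← Units.val_mul,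
      ← pow_two, hz', map_smul, Matrix.toLin'_one, LinearMap.smul_apply, LinearMap.id_apply]
  have hz1 : z * z = 1 := by
    have e := congrArg (fun y => Q y) (h1 v)
    simp only [UnitaryOrthogonal.map_form, form_smul] at e
    exact (mul_eq_right₀ hv).1 e.symm
  have hz2 : z = 1 := by
    rcases mul_self_eq_one_iff.1 hz1 with e | e
    · exact e
    · rw [e]; linear_combination -h2
  have hg : g ^ 2 = 1 := UnitaryOrthogonal.orth_ext fun x => by
    rw [pow_two, UnitaryOrthogonal.coe_mul_apply, h1, hz2, one_smul]; rfl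
  have hg1 : g ≠ 1 := fun e => hns 1 (by
    refine Matrix.toLin'.injective (LinearMap.ext fun x => ?_)
    show Matrix.toLin' ((h : GL ι F) : Matrix ι ι F) x = _
    rw [toLin'_eq hf h x, one_smul, Matrix.toLin'_one]
    show g.1 x = _
    rw [e]
    rfl)
  obtain ⟨W, hW, hinv⟩ := H g hg hg1
  exact ⟨W, hW, (invariant_iff hf h W).2 hinv⟩

/-- Hyperbolic subspaces, described by their totally singular halves. -/
theorem isKind_singular (hf : ⇑Q = f) {m : ℕ} (hm : Even m) :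
    IsKind Q m 1 fun W => Module.finrank F W = m ∧ (∀ u ∈ W, u ≠ 0 → ∃ v ∈ W, polar f u v ≠ 0) ∧
      ∃ U : Submodule F (ι → F), U ≤ W ∧ 2 * Module.finrank F U = m ∧ ∀ u ∈ U, f u = 0 := fun W => by
  dsimp only
  subst hf
  obtain ⟨h, rfl⟩ := hm
  constructor
  · rintro ⟨hd, hn, U, h1, h2, h3⟩
    have hW : NDOn Q W := ndOn_iff.2 fun u hu huv => by
      by_contra h0
      obtain ⟨v, hv, hv'⟩ := hn u hu h0
      exact hv' (huv v hv)
    exact ⟨hd, hW, (sigOn_one_iff hW (h := h) (by omega)).2 ⟨U, h1, h3, by omega⟩⟩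
  · rintro ⟨hd, hW, hs⟩
    obtain ⟨U, h1, h2, h3⟩ := (sigOn_one_iff hW (h := h) (by omega)).1 hs
    refine ⟨hd, fun u hu h0 => ?_, U, h1, by omega, h2⟩
    by_contra hcon
    push Not at hcon
    exact h0 (ndOn_iff.1 hW u hu hcon)

variable {d h : ℕ} {g : orth Q}

/-- An involution fixes a subspace of the kind, except for one case in each sign. -/
theorem exists_fixed_char_two (hQ : PolarND Q) (h2 : (2 : F) = 0) (hg : g ^ 2 = 1) {ε : ℤ}
    (hs : Sig Q ε) (hd : Module.finrank F (ι → F) = 2 * d) (hh0 : 0 < h) (hh : h < d)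
    (hcase : (ε = 1 ∧ (Odd d ∨ Even h)) ∨ (ε = -1 ∧ (Even d ∨ Odd h))) :
    ∃ W : Submodule F (ι → F), (Module.finrank F W = 2 * h ∧ NDOn Q W ∧ SigOn Q W ε) ∧
      ∀ x ∈ W, g.1 x ∈ W := by
  by_cases hts : ∀ a ∈ mvS g, Q a = 0
  · obtain ⟨s, hsR⟩ := even_mv_of_ts hts (ndOn_top hQ) fun _ _ => trivial
    rw [top_inf_eq] at hsR
    simp only [Nat.even_iff, Nat.odd_iff] at hcase
    rcases hcase with ⟨rfl, hc⟩ | ⟨rfl, hc⟩
    · obtain ⟨W, ⟨hWd, hW⟩, hinv⟩ := exists_of_ts hg h2 hQ hs hts (a := min s (h / 2))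
        (j := h - 2 * min s (h / 2)) (ε := 1) (by omega)
        fun hle _ => ⟨by omega, Or.inl rfl, fun _ => rfl, fun _ => rfl, fun _ => even_two_mul _⟩
      exact ⟨W, ⟨by omega, hW⟩, hinv⟩
    · obtain ⟨W, ⟨hWd, hW⟩, hinv⟩ := exists_of_ts hg h2 hQ hs hts (a := min s ((h - 1) / 2))
        (j := h - 2 * min s ((h - 1) / 2)) (ε := -1) (by omega)
        fun hle hfull => by
          have : 2 * Module.finrank F (mvS g) ≠ Module.finrank F (ι → F) :=
            fun e => absurd (hfull e) (by decide)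
          exact ⟨by omega, Or.inr rfl, fun e => by omega, fun _ => rfl, fun _ => even_two_mul _⟩
      exact ⟨W, ⟨by omega, hW⟩, hinv⟩
  · push Not at hts
    obtain ⟨_, ⟨x, rfl⟩, hx⟩ := hts
    obtain ⟨W, -, hinv, hW⟩ := exists_of_dlt hg h2 h ⊤ ε ε (ndOn_top hQ) (sigOn_top hs)
      (fun _ _ => trivial) ⟨x, trivial, by rwa [dlt_eq hg h2]⟩ hh0 (by rw [finrank_top]; omega)
      (by rw [finrank_top, hd]; exact even_two_mul d) hs.unit
    exact ⟨W, ⟨hW.2.1, hW.1, hW.2.2⟩, hinv⟩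

/-- The bad involution for hyperbolic subspaces. -/
theorem exists_no_hyperbolic {p : ℕ} (hp : (p : F) = 0) (hQ : PolarND Q) (hs : Sig Q 1)
    (hd : Module.finrank F (ι → F) = 2 * d) (hd0 : 0 < d) (hde : Even d) :
    ∃ g : orth Q, g ∈ eichGroup Q ∧ g ^ p = 1 ∧ g ≠ 1 ∧ ∀ W : Submodule F (ι → F),
      NDOn Q W → (∀ x ∈ W, g.1 x ∈ W) → 4 ∣ Module.finrank F W := by
  obtain ⟨T, P, t, hli, htT, hT, -⟩ := exists_frame hQ hs (e := d) (by omega) (fun _ => rfl)
  obtain ⟨a, ha⟩ := hde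
  obtain ⟨g, h1, h2, h3, h4, h5, h6, h7, -, -⟩ := exists_two_step hQ hp hli htT hT (a := a)
    (by omega) (by omega)
  refine ⟨g, h1, h2, h3, fun W hW hinv => ?_⟩
  have e1 := finrank_mv_add_fix hW hinv
  obtain ⟨R, hR⟩ := even_mv_of_ts h5 hW hinv
  have hK : mvS g = fixS g := Submodule.eq_of_le_of_finrank_eq h4 (by omega)
  rw [← hK] at e1
  omega

/-- The bad involution for elliptic subspaces. -/
theorem exists_no_elliptic {p : ℕ} (hp : (p : F) = 0) (hQ : PolarND Q) (hs : Sig Q (-1))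
    (hd : Module.finrank F (ι → F) = 2 * d) (hd2 : 2 ≤ d) (hdo : Odd d) :
    ∃ g : orth Q, g ∈ eichGroup Q ∧ g ^ p = 1 ∧ g ≠ 1 ∧ ∀ (W : Submodule F (ι → F)) (h : ℕ),
      NDOn Q W → (∀ x ∈ W, g.1 x ∈ W) → Module.finrank F W = 2 * h → Even h → SigOn Q W 1 := by
  obtain ⟨T, P, t, hli, htT, hT, -⟩ := exists_frame hQ hs (e := d - 1) (by omega) (by omega)
  obtain ⟨a, ha⟩ := hdo
  obtain ⟨g, h1, h2, h3, h4, h5, h6, h7, -, -⟩ := exists_two_step hQ hp hli htT hT (a := a)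
    (by omega) (by omega)
  refine ⟨g, h1, h2, h3, fun W h hW hinv hWd hev => ?_⟩
  have e1 := finrank_mv_add_fix hW hinv
  obtain ⟨R, hR⟩ := even_mv_of_ts h5 hW hinv
  have e2 := finrank_inf_le_add (W := W) (mvS g) (fixS g) h4
  rw [Nat.even_iff] at hev
  exact sigOn_one_of_ts hW hWd inf_le_left (fun t ht => h5 t ht.2) (by omega)

end Cfsg.Agent.OrthFix
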