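import Cfsg.Agent.OrthFix.Block

/-!
When does every isometry of odd prime order fix a non-degenerate subspace of given dimension and sign?
-/

set_option autoImplicit false
set_option linter.unusedSectionVars false
set_option linter.style.haveILetI false

namespace Cfsg.Agent.OrthFix

open Finset QuadraticMap
open Cfsg.Agent.UnitaryOrthogonal (PolarND orth polar_self_eq form_add)

universe u v

variable {F : Type u} [Field F] [Fintype F] {r i c : ℕ} {b : ℤ}
variable {V : Type v} [AddCommGroup V] [Module F V] [FiniteDimensional F V] [Finite V]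
  {Q : QuadraticForm F V}

/-- The fixed space. -/
def fixS (g : orth Q) : Submodule F V := LinearMap.ker (g.1.toLinearMap - LinearMap.id)

/-- The image of `g - 1`. -/
def mvS (g : orth Q) : Submodule F V := LinearMap.range (g.1.toLinearMap - LinearMap.id)

theorem mem_fixS {g : orth Q} {x : V} : x ∈ fixS g ↔ g.1 x = x := by
  simp [fixS, sub_eq_zero]

theorem sub_mem_mvS (g : orth Q) (x : V) : g.1 x - x ∈ mvS g := ⟨x, rfl⟩

theorem mvS_invariant (g : orth Q) : ∀ x ∈ mvS g, g.1 x ∈ mvS g := by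
  rintro _ ⟨x, rfl⟩
  exact ⟨g.1 x, by simp⟩

theorem fixS_invariant (g : orth Q) : ∀ x ∈ fixS g, g.1 x ∈ fixS g := fun x hx => by
  rwa [mem_fixS.1 hx]

theorem mvS_le_perp (g : orth Q) : mvS g ≤ perp Q (fixS g) := by
  rintro _ ⟨x, rfl⟩
  refine mem_perp.2 fun u hu => ?_
  show polar Q u (g.1 x - x) = 0
  have e := UnitaryOrthogonal.map_polar g u x
  rw [mem_fixS.1 hu] at e
  rw [polar_sub_right, e, sub_self]

theorem eq_zero_of_mem {g : orth Q} (hg : g ^ r = 1) (hr : (r : F) ≠ 0) {y : V}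
    (hy : y ∈ mvS g) (hy' : g.1 y = y) : y = 0 := by
  obtain ⟨x, rfl⟩ := hy
  set y := (g.1.toLinearMap - LinearMap.id : V →ₗ[F] V) x with hyd
  have hy1 : g.1 x = x + y := by simp [hyd]
  have hn : ∀ n : ℕ, (g ^ n).1 x = x + (n : F) • y := by
    intro n
    induction n with
    | zero => simp
    | succ n ih =>
      rw [pow_succ', UnitaryOrthogonal.coe_mul_apply, ih, map_add, map_smul, hy', hy1, Nat.cast_succ]
      module
  have h := hn r
  rw [hg, UnitaryOrthogonal.coe_one_apply, left_eq_add, smul_eq_zero] at h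
  exact h.resolve_left hr

/-- An invariant non-degenerate subspace splits into fixed and fixed-point-free parts. -/
theorem split_on {g : orth Q} (hg : g ^ r = 1) (hr : (r : F) ≠ 0) {W : Submodule F V}
    (hW : NDOn Q W) (hinv : ∀ x ∈ W, g.1 x ∈ W) :
    NDOn Q (W ⊓ fixS g) ∧ NDOn Q (W ⊓ mvS g) ∧ W ⊓ mvS g ≤ perp Q (W ⊓ fixS g) ∧
      (W ⊓ fixS g) ⊔ (W ⊓ mvS g) = W := by
  have hperp : W ⊓ mvS g ≤ perp Q (W ⊓ fixS g) := fun x hx =>
    mem_perp.2 fun u hu => mem_perp.1 (mvS_le_perp g hx.2) u hu.2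
  have hdisj : Disjoint (W ⊓ fixS g) (W ⊓ mvS g) := Submodule.disjoint_def.2 fun x hx hx' =>
    eq_zero_of_mem hg hr hx'.2 (mem_fixS.1 hx.2)
  have htop : (W ⊓ fixS g) ⊔ (W ⊓ mvS g) = W := by
    refine Submodule.eq_of_le_of_finrank_le (sup_le inf_le_left inf_le_left) ?_
    let T : W →ₗ[F] V := (g.1.toLinearMap - LinearMap.id).comp W.subtype
    have h1 := LinearMap.finrank_range_add_finrank_ker T
    have h2 : Module.finrank F (LinearMap.range T) ≤ Module.finrank F ↥(W ⊓ mvS g) :=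
      Submodule.finrank_mono (by
        rintro _ ⟨x, rfl⟩
        exact ⟨W.sub_mem (hinv x x.2) x.2, sub_mem_mvS g x⟩)
    have h3 : Module.finrank F (LinearMap.ker T) ≤ Module.finrank F ↥(W ⊓ fixS g) := by
      rw [← Submodule.finrank_map_subtype_eq W (LinearMap.ker T)]
      refine Submodule.finrank_mono ?_
      rintro _ ⟨x, hx, rfl⟩
      exact ⟨x.2, hx⟩
    rw [finrank_sup_of_disjoint hdisj]
    omega
  refine ⟨ndOn_iff.2 fun u hu huv => ?_, ndOn_iff.2 fun u hu huv => ?_, hperp, htop⟩ <;>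
    refine ndOn_iff.1 hW u hu.1 fun v hv => ?_ <;> rw [← htop] at hv <;>
    obtain ⟨a, ha, x, hx, rfl⟩ := Submodule.mem_sup.1 hv <;> rw [polar_add_right]
  · rw [huv a ha, mem_perp.1 (hperp hx) u hu, add_zero]
  · rw [huv x hx, polar_comm Q u a, mem_perp.1 (hperp hu) a ha, add_zero]

theorem sig_mul_even_right (S : Setup F r i c b) (n s : ℕ) : sig F n (s * c) = 1 :=
  sig_even_right (S.c_even.mul_left s)

theorem split_sig (S : Setup F r i c b) {g : orth Q} (hg : g ^ r = 1) {W : Submodule F V} {ε : ℤ}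
    (hW : NDOn Q W) (hs : SigOn Q W ε) (hinv : ∀ x ∈ W, g.1 x ∈ W) :
    ∃ j, Module.finrank F ↥(W ⊓ mvS g) = j * c ∧ SigOn Q (W ⊓ mvS g) (b ^ j) ∧
      Module.finrank F W = Module.finrank F ↥(W ⊓ fixS g) + j * c ∧
      SigOn Q (W ⊓ fixS g) (ε * b ^ j) := by
  obtain ⟨hn0, hn1, hp, htop⟩ := split_on hg S.ne hW hinv
  obtain ⟨j, hj, hj'⟩ := fpf_sign_on S hn1 hg
    (fun x hx => ⟨hinv x hx.1, mvS_invariant g x hx.2⟩)
    (fun x hx h => eq_zero_of_mem hg S.ne hx.2 h)
  obtain ⟨-, -, hd, hsum⟩ := hn0.sup hn1 hp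
  rw [htop] at hd hsum
  obtain ⟨ε0, h0⟩ := exists_sig hn0
  have := hs.unique (hsum ε0 _ h0 hj')
  rw [hj, sig_mul_even_right S, mul_one] at this
  refine ⟨j, hj, hj', hd.trans (by rw [hj]), ?_⟩
  have e : ε * b ^ j = ε0 := by rw [this, mul_assoc, ← mul_pow, S.mul_self, one_pow, mul_one]
  rw [e]; exact h0

/-- Feasibility of `j` moved blocks among `s`, with fixed space `(C, εC)`. -/
def Feas (F : Type*) [Field F] (c : ℕ) (b : ℤ) (s C : ℕ) (εC : ℤ) (m : ℕ) (ε : ℤ) (j : ℕ) : Prop :=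
  j ≤ s ∧ j * c ≤ m ∧ CanSplit F C εC (m - j * c) (ε * b ^ j)

/-- The type of an isometry. -/
theorem exists_type (S : Setup F r i c b) (hQ : PolarND Q) {εV : ℤ} (hs : Sig Q εV) {g : orth Q}
    (hg : g ^ r = 1) :
    ∃ s, Module.finrank F (mvS g) = s * c ∧ NDOn Q (mvS g) ∧ NDOn Q (fixS g) ∧
      SigOn Q (fixS g) (εV * b ^ s) ∧ Module.finrank F V = Module.finrank F (fixS g) + s * c := by
  have hinv : ∀ x ∈ (⊤ : Submodule F V), g.1 x ∈ (⊤ : Submodule F V) := fun _ _ => trivial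
  obtain ⟨hn0, hn1, -, -⟩ := split_on hg S.ne (ndOn_top hQ) hinv
  obtain ⟨j, h1, -, h3, h4⟩ := split_sig S hg (ndOn_top hQ) (sigOn_top hs) hinv
  rw [top_inf_eq] at hn0 h4 h3
  rw [top_inf_eq] at hn1 h1
  rw [finrank_top] at h3
  exact ⟨j, h1, hn1, hn0, h4, h3⟩

/-- An isometry fixes a subspace of the given kind iff some `j` is feasible. -/
theorem exists_fixed_iff (S : Setup F r i c b) (hQ : PolarND Q) {εV ε : ℤ} (hs : Sig Q εV)
    {g : orth Q} (hg : g ^ r = 1) {s m : ℕ} (hd : Module.finrank F (mvS g) = s * c) :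
    (∃ W : Submodule F V, Module.finrank F W = m ∧ NDOn Q W ∧ SigOn Q W ε ∧
      ∀ x ∈ W, g.1 x ∈ W) ↔
    ∃ j, Feas F c b s (Module.finrank F V - s * c) (εV * b ^ s) m ε j := by
  obtain ⟨t, ht, hmv, hfx, hfs, hn⟩ := exists_type S hQ hs hg
  obtain rfl : t = s := Nat.eq_of_mul_eq_mul_right S.c_pos (ht.symm.trans hd)
  rw [show Module.finrank F V - t * c = Module.finrank F (fixS g) by omega]
  constructor
  · rintro ⟨W, rfl, hW, hWs, hinv⟩
    obtain ⟨j, hj, -, hjd, hj0⟩ := split_sig S hg hW hWs hinv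
    refine ⟨j, Nat.le_of_mul_le_mul_right ?_ S.c_pos, by omega, ?_⟩
    · rw [← hj, ← hd]; exact Submodule.finrank_mono inf_le_right
    · rw [show Module.finrank F W - j * c = Module.finrank F ↥(W ⊓ fixS g) by omega]
      exact canSplit_of_le hfs (split_on hg S.ne hW hinv).1 hj0 inf_le_right
  · rintro ⟨j, hjs, hjm, hC⟩
    obtain ⟨M, hMle, hM, hMn, hMd, hMs⟩ := exists_blocks S hg j t (mvS g) hmv (mvS_invariant g)
      (fun x hx h => eq_zero_of_mem hg S.ne hx h) hd hjs
    obtain ⟨W₀, hW₀le, hW₀d, hW₀n, hW₀s⟩ := exists_sub hfx hfs hC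
    obtain ⟨-, hn', hd', hs'⟩ := hW₀n.sup hMn
      (fun x hx => mem_perp.2 fun u hu => mem_perp.1 (mvS_le_perp g (hMle hx)) u (hW₀le hu))
    refine ⟨W₀ ⊔ M, by rw [hd', hW₀d, hMd]; omega, hn', ?_, fun y hy => ?_⟩
    · have := hs' _ _ hW₀s hMs
      rw [hMd, sig_mul_even_right S, mul_one, mul_assoc, ← mul_pow, S.mul_self, one_pow, mul_one]
        at this
      exact this
    · obtain ⟨a, ha, x, hx, rfl⟩ := Submodule.mem_sup.1 hy
      rw [map_add, mem_fixS.1 (hW₀le ha)]
      exact Submodule.add_mem_sup ha (hM x hx)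

/-! ### The extremal shape -/

/-- `(C, εC)` is the fixed space left by the largest type. -/
structure TopC (c : ℕ) (b : ℤ) (C : ℕ) (εC : ℤ) : Prop where
  le : C ≤ c
  unit : εC = 1 ∨ εC = -1
  zero : C = 0 → εC = 1
  full : C = c → εC = -b

theorem type_le (S : Setup F r i c b) {C : ℕ} {εC εV : ℤ} (hT : TopC c b C εC) {T s : ℕ}
    (hV : εV = εC * b ^ T) {n k : ℕ} (hn : n = T * c + C) (hk : n = k + s * c)
    (h0 : k = 0 → εV * b ^ s = 1) : s ≤ T := by
  by_contra hlt
  have h1 : (T + 1) * c ≤ s * c := Nat.mul_le_mul_right c (by omega)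
  rw [Nat.succ_mul] at h1
  have := hT.le
  have hs : s = T + 1 := Nat.eq_of_mul_eq_mul_right S.c_pos (by rw [Nat.succ_mul]; omega)
  subst hs
  have e := h0 (by rw [Nat.succ_mul] at hk; omega)
  rw [hV, hT.full (by rw [Nat.succ_mul] at hk; omega),
    show -b * b ^ T * b ^ (T + 1) = -((b * b) * (b ^ T * b ^ T)) by ring, ← mul_pow, S.mul_self,
    one_pow] at e
  norm_num at e

theorem feas_mono (S : Setup F r i c b) {C m j : ℕ} {εC ε : ℤ} {T s n : ℕ} {εV : ℤ}
    (hV : εV = εC * b ^ T) (hn : n = T * c + C) (hm : m < n) (hε : ε = 1 ∨ ε = -1) (hs : s ≤ T)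
    (h : Feas F c b T C εC m ε j) :
    ∃ j', Feas F c b s (n - s * c) (εV * b ^ s) m ε j' := by
  obtain ⟨hj, hjm, hC⟩ := h
  have hsT : s * c ≤ T * c := Nat.mul_le_mul_right c hs
  rcases le_or_gt j s with hjs | hjs
  · refine ⟨j, hjs, hjm, ⟨by have := hC.le; omega, hC.unit, hC.zero, fun e => ?_, hC.parity⟩⟩
    have := hC.le
    have hsT' : s = T := Nat.eq_of_mul_eq_mul_right S.c_pos (by omega)
    subst hsT'
    rw [hC.full (by omega), hV, mul_assoc, ← mul_pow, S.mul_self, one_pow, mul_one]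
  · have h1 : (s + 1) * c ≤ j * c := Nat.mul_le_mul_right c hjs
    rw [Nat.succ_mul] at h1
    have := S.c_pos
    refine ⟨s, le_rfl, by omega, ⟨by omega, ?_, fun e => by omega, fun e => by omega, fun h2 => ?_⟩⟩
    · rw [← mul_self_eq_one_iff, mul_mul_mul_comm, ← mul_pow, S.mul_self, one_pow, mul_one,
        mul_self_eq_one_iff]
      exact hε
    · rw [Nat.even_sub (by omega)]
      exact iff_of_true ((Nat.even_sub hjm).1 (hC.parity h2) |>.2 (S.c_even.mul_left j))
        (S.c_even.mul_left s)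

theorem feas_unique (S : Setup F r i c b) {C : ℕ} {εC : ℤ} (hT : TopC c b C εC) {s s' m : ℕ}
    {ε : ℤ} {j j' : ℕ} (h : Feas F c b s C εC m ε j) (h' : Feas F c b s' C εC m ε j') : j = j' := by
  have key : ∀ {s s' j j' : ℕ}, Feas F c b s C εC m ε j → Feas F c b s' C εC m ε j' → ¬ j < j' := by
    intro s s' j j' h h' hlt
    obtain ⟨-, hjm, hC⟩ := h
    obtain ⟨-, hjm', hC'⟩ := h'
    have h1 : (j + 1) * c ≤ j' * c := Nat.mul_le_mul_right c hlt
    rw [Nat.succ_mul] at h1
    have := hC.le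
    have := hT.le
    have hj' : j' = j + 1 := Nat.eq_of_mul_eq_mul_right S.c_pos (by rw [Nat.succ_mul]; omega)
    subst hj'
    rw [Nat.succ_mul] at hjm'
    have e1 := hC.full (by omega)
    have e2 := hC'.zero (by rw [Nat.succ_mul]; omega)
    rw [hT.full (by omega)] at e1
    rw [pow_succ, ← mul_assoc, e1, neg_mul, S.mul_self] at e2
    norm_num at e2
  exact le_antisymm (not_lt.1 (key h' h)) (not_lt.1 (key h h'))

/-! ### Glueing and existence -/

variable {U : Submodule F V}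

/-- Extend an isometry of a non-degenerate subspace by the identity. -/
noncomputable def glue (hU : NDOn Q U) : orth (Q.comp U.subtype) →* orth Q where
  toFun h :=
    ⟨((Submodule.prodEquivOfIsCompl U (perp Q U) hU.isCompl).symm.trans
      (h.1.prodCongr (LinearEquiv.refl F _))).trans (Submodule.prodEquivOfIsCompl U (perp Q U) hU.isCompl),
      fun x => by
        obtain ⟨⟨u, w⟩, rfl⟩ := (Submodule.prodEquivOfIsCompl U (perp Q U) hU.isCompl).surjective x
        simp only [LinearEquiv.trans_apply, LinearEquiv.symm_apply_apply, LinearEquiv.prodCongr_apply,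
          LinearEquiv.refl_apply]
        show Q ((h.1 u : V) + w) = Q ((u : V) + w)
        rw [form_add, form_add, mem_perp.1 w.2 _ (h.1 u).2, mem_perp.1 w.2 _ u.2]
        exact congrArg (fun t => t + Q (w : V) + 0) (h.2 u)⟩
  map_one' := UnitaryOrthogonal.orth_ext fun x => by
    obtain ⟨⟨u, w⟩, rfl⟩ := (Submodule.prodEquivOfIsCompl U (perp Q U) hU.isCompl).surjective x
    simp
  map_mul' h h' := UnitaryOrthogonal.orth_ext fun x => by
    obtain ⟨⟨u, w⟩, rfl⟩ := (Submodule.prodEquivOfIsCompl U (perp Q U) hU.isCompl).surjective x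
    simp

theorem glue_apply (hU : NDOn Q U) (h : orth (Q.comp U.subtype)) {u w : V} (hu : u ∈ U)
    (hw : w ∈ perp Q U) : (glue hU h).1 (u + w) = (h.1 ⟨u, hu⟩ : V) + w := by
  have e : u + w = Submodule.prodEquivOfIsCompl U (perp Q U) hU.isCompl (⟨u, hu⟩, ⟨w, hw⟩) := rfl
  rw [e]
  show (Submodule.prodEquivOfIsCompl U (perp Q U) hU.isCompl) (LinearEquiv.prodCongr h.1
    (LinearEquiv.refl F _) ((Submodule.prodEquivOfIsCompl U (perp Q U) hU.isCompl).symm _)) = _
  rw [LinearEquiv.symm_apply_apply]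
  rfl

theorem glue_of_perp (hU : NDOn Q U) (h : orth (Q.comp U.subtype)) {w : V} (hw : w ∈ perp Q U) :
    (glue hU h).1 w = w := by
  conv_lhs => rw [← zero_add w]
  rw [glue_apply hU h (zero_mem U) hw]
  show ((h.1 (0 : U) : U) : V) + w = w
  rw [map_zero, Submodule.coe_zero, zero_add]

theorem glue_of_mem (hU : NDOn Q U) (h : orth (Q.comp U.subtype)) {u : V} (hu : u ∈ U) :
    (glue hU h).1 u = h.1 ⟨u, hu⟩ := by
  conv_lhs => rw [← add_zero u]
  rw [glue_apply hU h hu (zero_mem _), add_zero]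

/-- `g` moves exactly `M`. -/
theorem mvS_eq {g : orth Q} {M : Submodule F V} (hM : NDOn Q M) (hinv : ∀ x ∈ M, g.1 x ∈ M)
    (hfix : ∀ x ∈ M, g.1 x = x → x = 0) (hperp : ∀ x ∈ perp Q M, g.1 x = x) : mvS g = M := by
  refine le_antisymm ?_ fun y hy => ?_
  · rintro _ ⟨x, rfl⟩
    obtain ⟨a, ha, w, hw, rfl⟩ := Submodule.mem_sup.1
      (hM.isCompl.sup_eq_top ▸ Submodule.mem_top : x ∈ M ⊔ perp Q M)
    show g.1 (a + w) - (a + w) ∈ M
    rw [map_add, hperp w hw, add_sub_add_right_eq_sub]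
    exact M.sub_mem (hinv a ha) ha
  · let T : M →ₗ[F] M := g.1.toLinearMap.restrict hinv - LinearMap.id
    have hT : Function.Injective T := (injective_iff_map_eq_zero T).2 fun x hx =>
      Subtype.ext (hfix x x.2 (sub_eq_zero.1 (congrArg Subtype.val hx)))
    obtain ⟨x, hx⟩ := LinearMap.injective_iff_surjective.1 hT ⟨y, hy⟩
    exact ⟨x, congrArg Subtype.val hx⟩

theorem dvd_card_orth (S : Setup F r i c b) (hQ : PolarND Q) (hs : Sig Q b)
    (hn : Module.finrank F V = c) : r ∣ Nat.card (orth Q) := by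
  have hp := S.pow_half
  obtain ⟨h, hh⟩ : ∃ h, c = 2 * (h + 1) := ⟨c / 2 - 1, by
    obtain ⟨e, he⟩ := S.c_even
    have := S.c_pos
    omega⟩
  rw [show c / 2 = h + 1 by omega] at hp
  have hdim : ∀ k : ℕ, Module.finrank F ((Fin k → F) × (Fin k → F)) = 2 * k := fun k => by
    rw [Module.finrank_prod, Module.finrank_fintype_fun_eq_card, Fintype.card_fin, two_mul]
  rcases S.unit with rfl | rfl
  · obtain ⟨e⟩ := Sig.isometric hQ (UnitaryOrthogonal.polarND_zeroForm.hypSum (h + 1)) hs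
      (sig_zeroForm.hypSum (h + 1)) (by
        rw [hn, hh, Module.finrank_prod, hdim, Module.finrank_fintype_fun_eq_card, Fintype.card_fin,
          add_zero])
    rw [UnitaryOrthogonal.card_orth_congr e, UnitaryOrthogonal.card_orth_plus]
    refine Dvd.dvd.mul_right (Dvd.dvd.mul_left ?_ _) _
    rw [← ZMod.natCast_eq_zero_iff, Nat.cast_sub (Nat.one_le_pow _ _ Nat.card_pos), Nat.cast_pow,
      Nat.card_eq_fintype_card, hp]
    simp
  · obtain ⟨ζ, hζ⟩ := exists_binAniso (F := F)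
    obtain ⟨e⟩ := Sig.isometric hQ (hζ.polarND.hypSum h) hs ((sig_binForm hζ).hypSum h) (by
        rw [hn, hh, Module.finrank_prod, hdim, Module.finrank_prod, Module.finrank_self]; ring)
    rw [UnitaryOrthogonal.card_orth_congr e, UnitaryOrthogonal.card_orth_minus hζ]
    refine Dvd.dvd.mul_right (Dvd.dvd.mul_left ?_ _) _
    rw [← ZMod.natCast_eq_zero_iff, Nat.cast_add, Nat.cast_pow, Nat.card_eq_fintype_card, hp]
    simp

/-- A single block. -/
theorem exists_block_elem (S : Setup F r i c b) {B : Submodule F V} (hB : NDOn Q B)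
    (hs : SigOn Q B b) (hd : Module.finrank F B = c) :
    ∃ g : orth Q, g ^ r = 1 ∧ (∀ x ∈ B, g.1 x ∈ B) ∧ (∀ x ∈ B, g.1 x = x → x = 0) ∧
      ∀ x ∈ perp Q B, g.1 x = x := by
  haveI : Fact r.Prime := ⟨S.prime⟩
  obtain ⟨h, hh⟩ := exists_prime_orderOf_dvd_card' r (dvd_card_orth S hB hs hd)
  have hhr : h ^ r = 1 := hh ▸ pow_orderOf_eq_one h
  refine ⟨glue hB h, by rw [← map_pow, hhr, map_one], fun x hx => ?_, fun x hx e => ?_,
    fun x hx => glue_of_perp hB h hx⟩
  · rw [glue_of_mem hB h hx]; exact Subtype.coe_prop _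
  · rw [glue_of_mem hB h hx] at e
    obtain ⟨t, ht, -, -, -, htn⟩ := exists_type S hB hs hhr
    rw [hd] at htn
    rcases t with _ | t
    · exfalso
      have h0 : mvS h = ⊥ := Submodule.finrank_eq_zero.1 (by omega)
      have h1 : h = 1 := UnitaryOrthogonal.orth_ext fun y =>
        sub_eq_zero.1 ((Submodule.eq_bot_iff _).1 h0 _ (sub_mem_mvS h y))
      rw [h1, orderOf_one] at hh
      exact S.prime.one_lt.ne hh
    · rw [Nat.succ_mul] at htn
      have hf : fixS h = ⊥ := Submodule.finrank_eq_zero.1 (by omega)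
      exact congrArg Subtype.val ((Submodule.eq_bot_iff _).1 hf ⟨x, hx⟩
        (mem_fixS.2 (Subtype.ext e)))

/-- An isometry with `s` blocks inside `U`. -/
theorem exists_elem (S : Setup F r i c b) : ∀ (s : ℕ) {U : Submodule F V} {εU : ℤ}, NDOn Q U →
    SigOn Q U εU → s * c ≤ Module.finrank F U → (s * c = Module.finrank F U → εU = b ^ s) →
    ∃ (g : orth Q) (M : Submodule F V), g ^ r = 1 ∧ M ≤ U ∧ NDOn Q M ∧
      Module.finrank F M = s * c ∧ (∀ x ∈ M, g.1 x ∈ M) ∧ (∀ x ∈ M, g.1 x = x → x = 0) ∧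
      ∀ x ∈ perp Q M, g.1 x = x := by
  intro s
  induction s with
  | zero =>
    intro U εU _ _ _ _
    exact ⟨1, ⊥, one_pow r, bot_le, ndOn_bot, by rw [finrank_bot, zero_mul], fun x hx => hx,
      fun x hx _ => (Submodule.mem_bot F).1 hx, fun x _ => rfl⟩
  | succ s ih =>
    intro U εU hU hs hle heq
    rw [Nat.succ_mul] at hle heq
    obtain ⟨B, hBU, hBd, hBn, hBs⟩ := exists_sub (ε := b) (m := c) hU hs
      ⟨by omega, S.unit, fun h => absurd h S.c_pos.ne', fun h => by
        have hs0 : s = 0 := by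
          rcases s with _ | s
          · rfl
          · rw [Nat.succ_mul] at hle; have := S.c_pos; omega
        subst hs0
        rw [heq (by omega), pow_one], fun _ => S.c_even⟩
    obtain ⟨hn', hdim, hsig⟩ := hU.inf_perp hBn hBU
    have hs' := hsig εU b hs hBs
    rw [hBd] at hs' hdim
    rw [sig_even_left S.c_even, mul_one] at hs'
    obtain ⟨g', M, hg', hMU, hMn, hMd, hMinv, hMfix, hMperp⟩ := ih hn' hs' (by omega) (fun h => by
      rw [heq (by omega), pow_succ, mul_assoc, S.mul_self, mul_one])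
    obtain ⟨gB, hgB, hBinv, hBfix, hBperp⟩ := exists_block_elem S hBn hBs hBd
    have hMB : M ≤ perp Q B := hMU.trans inf_le_right
    have hBM : B ≤ perp Q M := fun x hx => mem_perp.2 fun y hy =>
      (polar_comm Q y x).trans (mem_perp.1 (hMB hy) x hx)
    have hg'B : ∀ x ∈ B, g'.1 x = x := fun x hx => hMperp x (hBM hx)
    have hcomm : Commute gB g' := UnitaryOrthogonal.orth_ext fun x => by
      obtain ⟨a, ha, w, hw, rfl⟩ := Submodule.mem_sup.1
        (hBn.isCompl.sup_eq_top ▸ Submodule.mem_top : x ∈ B ⊔ perp Q B)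
      have h1 : g'.1 w ∈ perp Q B :=
        perp_invariant (fun y hy => by rw [hg'B y hy]; exact hy) w hw
      simp only [UnitaryOrthogonal.coe_mul_apply, map_add, hg'B a ha, hg'B _ (hBinv a ha),
        hBperp w hw, hBperp _ h1]
    obtain ⟨hdis, hsn, hsd, -⟩ := hBn.sup hMn hMB
    refine ⟨gB * g', B ⊔ M, by rw [hcomm.mul_pow, hgB, hg', one_mul],
      sup_le hBU (hMU.trans inf_le_left), hsn, by rw [hsd, hBd, hMd, Nat.succ_mul]; ring, ?_, ?_, ?_⟩
    · intro y hy
      obtain ⟨a, ha, x, hx, rfl⟩ := Submodule.mem_sup.1 hy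
      rw [UnitaryOrthogonal.coe_mul_apply, map_add, map_add, hg'B a ha, hBperp _ (hMB (hMinv x hx))]
      exact Submodule.add_mem_sup (hBinv a ha) (hMinv x hx)
    · intro y hy e
      obtain ⟨a, ha, x, hx, rfl⟩ := Submodule.mem_sup.1 hy
      rw [UnitaryOrthogonal.coe_mul_apply, map_add, map_add, hg'B a ha,
        hBperp _ (hMB (hMinv x hx))] at e
      have e1 : gB.1 a - a = x - g'.1 x := by linear_combination (norm := module) e
      have e2 := Submodule.disjoint_def.1 hdis _ (B.sub_mem (hBinv a ha) ha)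
        (e1 ▸ M.sub_mem hx (hMinv x hx))
      have e3 : g'.1 x = x := (sub_eq_zero.1 (e1 ▸ e2)).symm
      rw [hBfix a ha (sub_eq_zero.1 e2), hMfix x hx e3, add_zero]
    · intro y hy
      have hyB : y ∈ perp Q B := mem_perp.2 fun u hu => mem_perp.1 hy u (Submodule.mem_sup_left hu)
      have hyM : y ∈ perp Q M := mem_perp.2 fun u hu => mem_perp.1 hy u (Submodule.mem_sup_right hu)
      rw [UnitaryOrthogonal.coe_mul_apply, hMperp y hyM, hBperp y hyB]

end Cfsg.Agent.OrthFix
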