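import Cfsg.Agent.OrthFix.Core

/-!
Counting subspaces modulo `r`, and the criterion.
-/

set_option autoImplicit false
set_option linter.unusedSectionVars false
set_option linter.style.haveILetI false

namespace Cfsg.Agent.OrthFix

open Finset QuadraticMap
open Cfsg.Agent.UnitaryOrthogonal (PolarND orth)

universe u v

variable {F : Type u} [Field F] [Fintype F] {r i c : ℕ} {b : ℤ}
variable {V : Type v} [AddCommGroup V] [Module F V] [FiniteDimensional F V] [Finite V]
  {Q : QuadraticForm F V}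

variable (Q) in
/-- The subspaces of `U` of dimension `m` and sign `ε`. -/
def subs (U : Submodule F V) (m : ℕ) (ε : ℤ) : Set (Submodule F V) :=
  {W | W ≤ U ∧ Module.finrank F W = m ∧ NDOn Q W ∧ SigOn Q W ε}

variable (Q) in
/-- Their number. -/
noncomputable def numSubs (U : Submodule F V) (m : ℕ) (ε : ℤ) : ℕ := Nat.card (subs Q U m ε)

/-- Transfer to a subspace regarded as a space. -/
theorem map_subtype_iff (U : Submodule F V) (W : Submodule F U) :
    (NDOn (Q.comp U.subtype) W ↔ NDOn Q (W.map U.subtype)) ∧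
      ∀ ε, SigOn (Q.comp U.subtype) W ε ↔ SigOn Q (W.map U.subtype) ε := by
  let e : ((Q.comp U.subtype).comp W.subtype).IsometryEquiv (Q.comp (W.map U.subtype).subtype) :=
    { Submodule.equivMapOfInjective U.subtype U.injective_subtype W with map_app' := fun _ => rfl }
  exact ⟨⟨fun h => PolarND.congr e h, fun h => PolarND.congr e.symm h⟩,
    fun ε => ⟨fun h => Sig.congr h e, fun h => Sig.congr h e.symm⟩⟩

theorem numSubs_eq_comp (U : Submodule F V) (m : ℕ) (ε : ℤ) :
    numSubs Q U m ε = numSubs (Q.comp U.subtype) ⊤ m ε := by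
  refine Nat.card_congr
    { toFun := fun W => ⟨W.1.comap U.subtype, le_top, ?_, ?_⟩
      invFun := fun W => ⟨W.1.map U.subtype, Submodule.map_subtype_le U W.1,
        (Submodule.finrank_map_subtype_eq U W.1).trans W.2.2.1,
        (map_subtype_iff U W.1).1.1 W.2.2.2.1, ((map_subtype_iff U W.1).2 ε).1 W.2.2.2.2⟩
      left_inv := fun W => Subtype.ext (by
        show Submodule.map U.subtype (W.1.comap U.subtype) = W.1
        rw [Submodule.map_comap_subtype, inf_eq_right.2 W.2.1])
      right_inv := fun W => Subtype.ext (Submodule.comap_map_eq_of_injective U.injective_subtype _) }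
  · exact (Submodule.comapSubtypeEquivOfLe W.2.1).finrank_eq.trans W.2.2.1
  · have hm : (W.1.comap U.subtype).map U.subtype = W.1 := by
      rw [Submodule.map_comap_subtype, inf_eq_right.2 W.2.1]
    refine ⟨(map_subtype_iff U _).1.2 (hm.symm ▸ W.2.2.2.1),
      ((map_subtype_iff U _).2 ε).2 (hm.symm ▸ W.2.2.2.2)⟩

/-- The count divides the order of the orthogonal group. -/
theorem numSubs_dvd_card (hQ : PolarND Q) {m : ℕ} {ε : ℤ}
    (h : (subs Q (⊤ : Submodule F V) m ε).Nonempty) : numSubs Q ⊤ m ε ∣ Nat.card (orth Q) := by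
  obtain ⟨W, -, hWd, hW, hWs⟩ := h
  have hmem : ∀ g : orth Q, W.map g.1.toLinearMap ∈ subs Q ⊤ m ε := fun g => by
    let e : (Q.comp W.subtype).IsometryEquiv (Q.comp (W.map g.1.toLinearMap).subtype) :=
      { g.1.submoduleMap W with map_app' := fun x => g.2 x }
    exact ⟨le_top, (LinearEquiv.finrank_map_eq _ _).trans hWd, PolarND.congr e hW, Sig.congr hWs e⟩
  let H : Subgroup (orth Q) :=
    { carrier := {g | W.map g.1.toLinearMap = W}
      one_mem' := Submodule.map_id W
      mul_mem' := fun {g h} hg hh => by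
        show W.map (g.1.toLinearMap ∘ₗ h.1.toLinearMap) = W
        rw [Submodule.map_comp, hh, hg]
      inv_mem' := fun {g} hg => by
        show W.map (g⁻¹).1.toLinearMap = W
        conv_lhs => rw [← (show W.map g.1.toLinearMap = W from hg)]
        rw [← Submodule.map_comp]
        convert Submodule.map_id W using 2
        exact LinearMap.ext fun x => UnitaryOrthogonal.coe_inv_apply_apply g x }
  let φ : orth Q ⧸ H → subs Q (⊤ : Submodule F V) m ε :=
    Quotient.lift (fun g => ⟨_, hmem g⟩) fun g g' hgg => Subtype.ext (by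
      have hH : g⁻¹ * g' ∈ H := QuotientGroup.leftRel_apply.1 hgg
      show W.map g.1.toLinearMap = W.map g'.1.toLinearMap
      conv_rhs => rw [show g' = g * (g⁻¹ * g') by group]
      show W.map g.1.toLinearMap = W.map (g.1.toLinearMap ∘ₗ (g⁻¹ * g').1.toLinearMap)
      rw [Submodule.map_comp, (show W.map (g⁻¹ * g').1.toLinearMap = W from hH)])
  have hb : Function.Bijective φ := by
    constructor
    · intro x y
      induction x using QuotientGroup.induction_on with | _ g => ?_
      induction y using QuotientGroup.induction_on with | _ g' => ?_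
      intro e
      have e' : W.map g.1.toLinearMap = W.map g'.1.toLinearMap := congrArg Subtype.val e
      refine QuotientGroup.eq.2 ?_
      show W.map (g⁻¹ * g').1.toLinearMap = W
      show W.map ((g⁻¹).1.toLinearMap ∘ₗ g'.1.toLinearMap) = W
      rw [Submodule.map_comp, ← e', ← Submodule.map_comp]
      convert Submodule.map_id W using 2
      exact LinearMap.ext fun x => UnitaryOrthogonal.coe_inv_apply_apply g x
    · rintro ⟨W', -, hd', hW', hs'⟩
      obtain ⟨g, hg, hgW⟩ := exists_orth_map hQ hW hW' hWs hs' (hWd.trans hd'.symm)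
      exact ⟨QuotientGroup.mk ⟨g, hg⟩, Subtype.ext hgW⟩
  rw [numSubs, ← Nat.card_congr (Equiv.ofBijective φ hb)]
  exact Subgroup.card_quotient_dvd_card H

variable (S : Setup F r i c b)
include S

/-- No element of order `r` in a small space. -/
theorem not_dvd_card_orth (hQ : PolarND Q) {εC : ℤ} (hs : Sig Q εC)
    (hT : TopC c b (Module.finrank F V) εC) : ¬ r ∣ Nat.card (orth Q) := fun hd => by
  haveI : Fact r.Prime := ⟨S.prime⟩
  obtain ⟨h, hh⟩ := exists_prime_orderOf_dvd_card' r hd
  have hhr : h ^ r = 1 := hh ▸ pow_orderOf_eq_one h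
  obtain ⟨t, ht, -, hfn, hfs, hn⟩ := exists_type S hQ hs hhr
  have := hT.le
  rcases t with _ | t
  · have h0 : mvS h = ⊥ := Submodule.finrank_eq_zero.1 (by omega)
    have h1 : h = 1 := UnitaryOrthogonal.orth_ext fun y =>
      sub_eq_zero.1 ((Submodule.eq_bot_iff _).1 h0 _ (sub_mem_mvS h y))
    rw [h1, orderOf_one] at hh
    exact S.prime.one_lt.ne hh
  · rw [Nat.succ_mul] at hn
    have ht0 : t = 0 := by
      rcases t with _ | t
      · rfl
      · rw [Nat.succ_mul] at hn; have := S.c_pos; omega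
    subst ht0
    have e := (hfn.valid hfs).zero (by omega)
    rw [hT.full (by omega), zero_add, pow_one, neg_mul, S.mul_self] at e
    norm_num at e

theorem numSubs_base {U : Submodule F V} {εC : ℤ} (hU : NDOn Q U) (hs : SigOn Q U εC)
    (hT : TopC c b (Module.finrank F U) εC) {m : ℕ} {ε : ℤ}
    (h : CanSplit F (Module.finrank F U) εC m ε) : ¬ r ∣ numSubs Q U m ε := fun hd => by
  obtain ⟨W, hWU, hWd, hW, hWs⟩ := exists_sub hU hs h
  rw [numSubs_eq_comp] at hd
  refine not_dvd_card_orth S hU hs hT (hd.trans (numSubs_dvd_card hU ⟨W.comap U.subtype, le_top, ?_⟩))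
  have hm : (W.comap U.subtype).map U.subtype = W := by
    rw [Submodule.map_comap_subtype, inf_eq_right.2 hWU]
  exact ⟨(Submodule.comapSubtypeEquivOfLe hWU).finrank_eq.trans hWd,
    (map_subtype_iff U _).1.2 (hm.symm ▸ hW), ((map_subtype_iff U _).2 ε).2 (hm.symm ▸ hWs)⟩

/-- One step of the recursion. -/
theorem numSubs_step {U B : Submodule F V} (hB : NDOn Q B) (hBs : SigOn Q B b)
    (hBd : Module.finrank F B = c) (hBU : B ≤ U) (m : ℕ) (ε : ℤ) :
    numSubs Q U m ε ≡ numSubs Q (U ⊓ perp Q B) m ε +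
      (if c ≤ m then numSubs Q (U ⊓ perp Q B) (m - c) (ε * b) else 0) [MOD r] := by
  classical
  haveI : Fact r.Prime := ⟨S.prime⟩
  obtain ⟨g, hg, hBinv, hBfix, hBperp⟩ := exists_block_elem S hB hBs hBd
  have hmv : mvS g = B := mvS_eq hB hBinv hBfix hBperp
  have hUinv : ∀ x ∈ U, g.1 x ∈ U := fun x hx => by
    have h := sub_mem_mvS g x
    rw [hmv] at h
    simpa using U.add_mem (hBU h) hx
  have hmap : ∀ W ∈ subs Q U m ε, W.map g.1.toLinearMap ∈ subs Q U m ε := fun W hW => by
    let e : (Q.comp W.subtype).IsometryEquiv (Q.comp (W.map g.1.toLinearMap).subtype) :=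
      { g.1.submoduleMap W with map_app' := fun x => g.2 x }
    refine ⟨?_, (LinearEquiv.finrank_map_eq _ _).trans hW.2.1, PolarND.congr e hW.2.2.1,
      Sig.congr hW.2.2.2 e⟩
    rintro _ ⟨x, hx, rfl⟩
    exact hUinv x (hW.1 hx)
  let σ : subs Q U m ε → subs Q U m ε := fun W => ⟨_, hmap W.1 W.2⟩
  have hit : ∀ (n : ℕ) (W : subs Q U m ε), (σ^[n] W).1 = W.1.map (g ^ n).1.toLinearMap := by
    intro n
    induction n with
    | zero => exact fun W => (Submodule.map_id _).symm
    | succ n ih =>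
      intro W
      rw [Function.iterate_succ_apply, ih, pow_succ]
      exact (Submodule.map_comp _ _ _).symm
  have h := card_modEq_fixed (r := r) σ fun W => Subtype.ext (by
    rw [hit, hg]; exact Submodule.map_id _)
  refine h.trans (congrArg (· % r) ?_)
  have hsplit : ∀ W : subs Q U m ε, σ W = W → (W.1 ≤ perp Q B ∨ B ≤ W.1) := by
    intro W hW
    have hWinv : ∀ x ∈ W.1, g.1 x ∈ W.1 := fun x hx => by
      have e : W.1.map g.1.toLinearMap = W.1 := congrArg Subtype.val hW
      rw [← e]; exact ⟨x, hx, rfl⟩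
    obtain ⟨j, hj, -, -⟩ := split_sig S hg W.2.2.2.1 W.2.2.2.2 hWinv
    obtain ⟨-, -, -, htop⟩ := split_on hg S.ne W.2.2.2.1 hWinv
    rw [hmv] at hj htop
    rcases j with _ | j
    · left
      have h0 : W.1 ⊓ B = ⊥ := Submodule.finrank_eq_zero.1 (by omega)
      rw [h0, sup_bot_eq] at htop
      intro x hx
      rw [← htop] at hx
      have h1 : fixS g ≤ perp Q B := by
        intro y hy
        have := mvS_le_perp g
        refine mem_perp.2 fun u hu => ?_
        rw [← hmv] at hu
        rw [polar_comm]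
        exact mem_perp.1 (this hu) y hy
      exact h1 hx.2
    · right
      have hle : Module.finrank F B ≤ Module.finrank F ↥(W.1 ⊓ B) := by
        rw [hj, hBd]; exact Nat.le_mul_of_pos_left c (Nat.succ_pos j)
      exact inf_eq_right.1 (Submodule.eq_of_le_of_finrank_le inf_le_right hle)
  have hfixP : ∀ W : subs Q U m ε, W.1 ≤ perp Q B → σ W = W := fun W hW => Subtype.ext (by
    show W.1.map g.1.toLinearMap = W.1
    refine le_antisymm ?_ fun x hx => ⟨x, hx, hBperp x (hW hx)⟩
    rintro _ ⟨x, hx, rfl⟩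
    rw [LinearEquiv.coe_coe, hBperp x (hW hx)]
    exact hx)
  have hfixB : ∀ W : subs Q U m ε, B ≤ W.1 → σ W = W := fun W hW => Subtype.ext (by
    show W.1.map g.1.toLinearMap = W.1
    refine Submodule.eq_of_le_of_finrank_le ?_ (LinearEquiv.finrank_map_eq _ _).ge
    rintro _ ⟨x, hx, rfl⟩
    have h := sub_mem_mvS g x
    rw [hmv] at h
    simpa using W.1.add_mem (hW h) hx)
  let A := {W : subs Q U m ε // W.1 ≤ perp Q B}
  let A' := {W : subs Q U m ε // B ≤ W.1}
  let e : {W // σ W = W} ≃ A ⊕ A' :=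
    { toFun := fun W => if hp : W.1.1 ≤ perp Q B then .inl ⟨W.1, hp⟩
        else .inr ⟨W.1, (hsplit W.1 W.2).resolve_left hp⟩
      invFun := fun x => x.elim (fun W => ⟨W.1, hfixP W.1 W.2⟩) fun W => ⟨W.1, hfixB W.1 W.2⟩
      left_inv := fun W => by dsimp only; split_ifs with hp <;> rfl
      right_inv := fun x => by
        rcases x with ⟨W, hW⟩ | ⟨W, hW⟩
        · simp [hW]
        · have hn : ¬ W.1 ≤ perp Q B := fun hle => by
            have h0 : B = ⊥ := hB.disjoint.eq_bot_of_le (hW.trans hle)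
            rw [h0, finrank_bot] at hBd
            exact S.c_pos.ne hBd
          simp [hn] }
  rw [Nat.card_congr e, Nat.card_sum]
  congr 1
  · exact Nat.card_congr
      { toFun := fun W => ⟨W.1.1, le_inf W.1.2.1 W.2, W.1.2.2⟩
        invFun := fun W => ⟨⟨W.1, W.2.1.trans inf_le_left, W.2.2⟩, W.2.1.trans inf_le_right⟩
        left_inv := fun W => rfl
        right_inv := fun W => rfl }
  · split_ifs with hcm
    · refine Nat.card_congr
        { toFun := fun W => ⟨W.1.1 ⊓ perp Q B, ?_⟩
          invFun := fun W => ⟨⟨B ⊔ W.1, ?_⟩, le_sup_left⟩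
          left_inv := fun W => Subtype.ext (Subtype.ext (hB.isCompl_within W.2).2)
          right_inv := fun W => Subtype.ext ?_ }
      · obtain ⟨hn, hd, hsig⟩ := W.1.2.2.2.1.inf_perp hB W.2
        have := hsig _ _ W.1.2.2.2.2 hBs
        rw [hBd, sig_even_left S.c_even, mul_one] at this
        refine ⟨inf_le_inf_right _ W.1.2.1, ?_, hn, this⟩
        rw [hBd, W.1.2.2.1] at hd
        omega
      · obtain ⟨-, hn, hd, hsig⟩ := hB.sup W.2.2.2.1 (W.2.1.trans inf_le_right)
        have hs' := hsig _ _ hBs W.2.2.2.2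
        rw [hBd, sig_even_left S.c_even, mul_one] at hs'
        refine ⟨sup_le hBU (W.2.1.trans inf_le_left), by rw [hd, hBd, W.2.2.1]; omega, hn, ?_⟩
        rwa [show b * (ε * b) = ε * (b * b) by ring, S.mul_self, mul_one] at hs'
      · show (B ⊔ W.1) ⊓ perp Q B = W.1
        rw [sup_comm, sup_inf_assoc_of_le _ (W.2.1.trans inf_le_right), hB.disjoint.eq_bot, sup_bot_eq]
    · rw [Nat.card_eq_zero]
      refine Or.inl ⟨fun W => hcm ?_⟩
      rw [← hBd, ← W.1.2.2.1]
      exact Submodule.finrank_mono W.2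

/-- The count modulo `r`. -/
theorem numSubs_mod {C : ℕ} {εC : ℤ} (hT : TopC c b C εC) : ∀ (T : ℕ) {U : Submodule F V},
    NDOn Q U → Module.finrank F U = T * c + C → SigOn Q U (εC * b ^ T) → ∀ (m : ℕ) (ε : ℤ),
    ((∀ j, ¬ Feas F c b T C εC m ε j) → r ∣ numSubs Q U m ε) ∧
    (Feas F c b T C εC m ε 0 → ¬ r ∣ numSubs Q U m ε) ∧
    (Feas F c b T C εC m ε T → ¬ r ∣ numSubs Q U m ε) := by
  intro T
  induction T with
  | zero =>
    intro U hU hd hs m ε
    rw [zero_mul, zero_add] at hd
    rw [pow_zero, mul_one] at hs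
    subst hd
    refine ⟨fun hno => ?_, fun h => numSubs_base S hU hs hT ?_, fun h => numSubs_base S hU hs hT ?_⟩
    · rw [numSubs, Nat.card_eq_zero.2 (Or.inl ⟨fun W => hno 0 ⟨le_rfl, by omega, ?_⟩⟩)]
      · exact dvd_zero r
      · rw [zero_mul, Nat.sub_zero, pow_zero, mul_one, ← W.2.2.1]
        exact canSplit_of_le hs W.2.2.2.1 W.2.2.2.2 W.2.1
    all_goals simpa using h.2.2
  | succ T ih =>
    intro U hU hd hs m ε
    rw [Nat.succ_mul] at hd
    obtain ⟨B, hBU, hBd, hBn, hBs⟩ := exists_sub (ε := b) (m := c) hU hs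
      ⟨by omega, S.unit, fun h => absurd h S.c_pos.ne', fun h => by
        have hT0 : T = 0 := by
          rcases T with _ | T
          · rfl
          · rw [Nat.succ_mul] at hd; have := S.c_pos; omega
        subst hT0
        rw [hT.zero (by omega), one_mul, zero_add, pow_one], fun _ => S.c_even⟩
    obtain ⟨hn', hdim, hsig⟩ := hU.inf_perp hBn hBU
    have hs' := hsig _ _ hs hBs
    rw [hBd, sig_even_left S.c_even, mul_one,
      show εC * b ^ (T + 1) * b = εC * b ^ T * (b * b) by ring, S.mul_self, mul_one] at hs'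
    rw [hBd] at hdim
    have hstep := numSubs_step S hBn hBs hBd hBU m ε
    have I := ih hn' (by omega) hs'
    have lift0 : ∀ j, Feas F c b T C εC m ε j → Feas F c b (T + 1) C εC m ε j :=
      fun j h => ⟨h.1.trans (Nat.le_succ T), h.2⟩
    have lift1 : c ≤ m → ∀ j, Feas F c b T C εC (m - c) (ε * b) j →
        Feas F c b (T + 1) C εC m ε (j + 1) := fun hcm j h => by
      obtain ⟨h1, h2, h3⟩ := h
      refine ⟨Nat.succ_le_succ h1, by rw [Nat.succ_mul]; omega, ?_⟩
      rw [show m - (j + 1) * c = m - c - j * c by rw [Nat.succ_mul]; omega,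
        show ε * b ^ (j + 1) = ε * b * b ^ j by ring]
      exact h3
    refine ⟨fun hno => ?_, fun h => ?_, fun h => ?_⟩
    · rw [Nat.ModEq.dvd_iff hstep dvd_rfl]
      refine dvd_add ((I m ε).1 fun j hj => hno j (lift0 j hj)) ?_
      split_ifs with hcm
      · exact (I _ _).1 fun j hj => hno _ (lift1 hcm j hj)
      · exact dvd_zero r
    · rw [Nat.ModEq.dvd_iff hstep dvd_rfl]
      have h0 : Feas F c b T C εC m ε 0 := ⟨Nat.zero_le _, h.2⟩
      intro hd'
      refine (I m ε).2.1 h0 ((Nat.dvd_add_left ?_).1 hd')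
      split_ifs with hcm
      · exact (I _ _).1 fun j hj => Nat.succ_ne_zero j (feas_unique S hT (lift1 hcm j hj) h)
      · exact dvd_zero r
    · rw [Nat.ModEq.dvd_iff hstep dvd_rfl]
      have hcm : c ≤ m := le_trans (by rw [Nat.succ_mul]; omega) h.2.1
      rw [if_pos hcm]
      intro hd'
      refine (I (m - c) (ε * b)).2.2 ⟨le_rfl, ?_, ?_⟩ ((Nat.dvd_add_right ?_).1 hd')
      · have := h.2.1; rw [Nat.succ_mul] at this; omega
      · rw [show m - c - T * c = m - (T + 1) * c by rw [Nat.succ_mul]; omega,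
          show ε * b * b ^ T = ε * b ^ (T + 1) by ring]
        exact h.2.2
      · refine (I m ε).1 fun j hj => ?_
        have := feas_unique S hT (lift0 j hj) h
        have := hj.1
        omega

/-- The criterion. -/
theorem criterion (hQ : PolarND Q) {εV ε : ℤ} (hs : Sig Q εV) {T C : ℕ} {εC : ℤ} (hT : TopC c b C εC)
    (hn : Module.finrank F V = T * c + C) (hV : εV = εC * b ^ T) {m : ℕ} (hm0 : 0 < m)
    (hm : m < Module.finrank F V) (hε : ε = 1 ∨ ε = -1) (hpar : (2 : F) = 0 → Even m)
    (hdvd : r ∣ numSubs Q ⊤ m ε) :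
    ((∀ g : orth Q, g ^ r = 1 → g ≠ 1 → ∃ W : Submodule F V,
        Module.finrank F W = m ∧ NDOn Q W ∧ SigOn Q W ε ∧ ∀ x ∈ W, g.1 x ∈ W) ↔
      ∃ j, Feas F c b T C εC m ε j) ∧
    ∀ j, Feas F c b T C εC m ε j → 0 < j ∧ j < T := by
  have hnum := numSubs_mod S hT T (ndOn_top hQ) (by rw [finrank_top, hn]) (hV ▸ sigOn_top hs) m ε
  have hpos : ∀ j, Feas F c b T C εC m ε j → 0 < j ∧ j < T := fun j hj =>
    ⟨Nat.pos_of_ne_zero fun h => hnum.2.1 (h ▸ hj) hdvd,
      lt_of_le_of_ne hj.1 fun h => hnum.2.2 (h ▸ hj) hdvd⟩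
  refine ⟨⟨fun hall => ?_, ?_⟩, hpos⟩
  · rcases Nat.eq_zero_or_pos T with hT0 | hT0
    · subst hT0
      refine ⟨0, le_rfl, by omega, ?_⟩
      rw [zero_mul, Nat.sub_zero, pow_zero, mul_one]
      exact ⟨by omega, hε, fun h => absurd h hm0.ne', fun h => absurd h (by omega), hpar⟩
    · obtain ⟨g, M, hg, -, hMn, hMd, hMi, hMf, hMp⟩ := exists_elem S T (ndOn_top hQ) (sigOn_top hs)
        (by rw [finrank_top, hn]; omega) (fun h => by
          rw [finrank_top, hn] at h
          rw [hV, hT.zero (by omega), one_mul])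
      have hmv := mvS_eq hMn hMi hMf hMp
      have hg1 : g ≠ 1 := by
        rintro rfl
        have h0 : M = ⊥ := (Submodule.eq_bot_iff _).2 fun x hx => hMf x hx rfl
        rw [h0, finrank_bot] at hMd
        exact (Nat.mul_pos hT0 S.c_pos).ne hMd
      obtain ⟨j, hj⟩ := (exists_fixed_iff S hQ hs hg (by rw [hmv, hMd])).1 (hall g hg hg1)
      refine ⟨j, ?_⟩
      rwa [show Module.finrank F V - T * c = C by omega, hV, mul_assoc, ← mul_pow, S.mul_self,
        one_pow, mul_one] at hj
  · rintro ⟨j, hj⟩ g hg -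
    obtain ⟨s, hsd, -, hfn, hfs, hk⟩ := exists_type S hQ hs hg
    have hsT := type_le S hT hV hn hk fun h => (hfn.valid hfs).zero h
    exact (exists_fixed_iff S hQ hs hg hsd).2 (feas_mono S hV hn hm hε hsT hj)

end Cfsg.Agent.OrthFix
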