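import Cfsg.Agent.OrthFix.Sub

/-!
Isometries of odd prime order different from the characteristic.
-/

set_option autoImplicit false
set_option linter.unusedSectionVars false
set_option linter.style.haveILetI false

namespace Cfsg.Agent.OrthFix

open Finset QuadraticMap Polynomial
open Cfsg.Agent.UnitaryOrthogonal (PolarND orth polar_self_eq form_add level)

universe u v

/-- The data attached to an odd prime `r` different from the characteristic. -/
structure Setup (F : Type u) [Field F] [Fintype F] (r i c : ℕ) (b : ℤ) : Prop where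
  prime : r.Prime
  odd : 2 < r
  ne : (r : F) ≠ 0
  ord : i = orderOf (Fintype.card F : ZMod r)
  hc : c = if Even i then i else 2 * i
  hb : b = if Even i then -1 else 1

variable {F : Type u} [Field F] [Fintype F] {r i c : ℕ} {b : ℤ}

namespace Setup

variable (S : Setup F r i c b)
include S

theorem not_dvd_card : ¬ r ∣ Fintype.card F := fun h => by
  haveI : Fact r.Prime := ⟨S.prime⟩
  obtain ⟨x, hx⟩ := exists_prime_addOrderOf_dvd_card r h
  have h0 : r • x = 0 := hx ▸ addOrderOf_nsmul_eq_zero x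
  rw [nsmul_eq_mul] at h0
  rcases mul_eq_zero.1 h0 with h1 | h1
  · exact S.ne h1
  · rw [h1, addOrderOf_zero] at hx
    exact S.prime.one_lt.ne hx

theorem q_ne : (Fintype.card F : ZMod r) ≠ 0 := fun h =>
  S.not_dvd_card ((ZMod.natCast_eq_zero_iff _ _).1 h)

theorem i_pos : 0 < i := by
  haveI : Fact r.Prime := ⟨S.prime⟩
  rw [S.ord, orderOf_pos_iff, isOfFinOrder_iff_pow_eq_one]
  exact ⟨r - 1, by have := S.prime.two_le; omega, ZMod.pow_card_sub_one_eq_one S.q_ne⟩

theorem i_dvd_pred : i ∣ r - 1 := by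
  haveI : Fact r.Prime := ⟨S.prime⟩
  rw [S.ord]
  exact orderOf_dvd_of_pow_eq_one (ZMod.pow_card_sub_one_eq_one S.q_ne)

theorem pow_eq_one_iff {n : ℕ} : (Fintype.card F : ZMod r) ^ n = 1 ↔ i ∣ n := by
  rw [S.ord, orderOf_dvd_iff_pow_eq_one]

theorem c_even : Even c := by
  rw [S.hc]; split_ifs with h
  · exact h
  · exact even_two_mul i

theorem c_pos : 0 < c := by have := S.i_pos; rw [S.hc]; split_ifs <;> omega

theorem two_le_c : 2 ≤ c := by
  obtain ⟨k, hk⟩ := S.c_even
  have := S.c_pos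
  omega

theorem unit : b = 1 ∨ b = -1 := by rw [S.hb]; split_ifs <;> simp

theorem mul_self : b * b = 1 := mul_self_eq_one_iff.2 S.unit

theorem pow_half : (Fintype.card F : ZMod r) ^ (c / 2) = (b : ZMod r) := by
  haveI : Fact r.Prime := ⟨S.prime⟩
  have hi := S.i_pos
  rw [S.hc, S.hb]
  split_ifs with h
  · obtain ⟨e, he⟩ := h
    have h1 : ((Fintype.card F : ZMod r) ^ (i / 2)) * ((Fintype.card F : ZMod r) ^ (i / 2)) = 1 := by
      rw [← pow_add, S.pow_eq_one_iff]
      exact dvd_of_eq (by omega)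
    rcases mul_self_eq_one_iff.1 h1 with h2 | h2
    · have := Nat.le_of_dvd (by omega) (S.pow_eq_one_iff.1 h2)
      omega
    · rw [h2]; simp
  · rw [show 2 * i / 2 = i by omega, Int.cast_one, S.pow_eq_one_iff]

theorem eq_of_cast {x y : ℤ} (hx : x = 1 ∨ x = -1) (hy : y = 1 ∨ y = -1)
    (h : (x : ZMod r) = (y : ZMod r)) : x = y := by
  have hd : (r : ℤ) ∣ x - y := (ZMod.intCast_zmod_eq_zero_iff_dvd _ _).1 (by push_cast; rw [h, sub_self])
  have h3 : (2 : ℤ) < r := by exact_mod_cast S.odd
  rcases hx with rfl | rfl <;> rcases hy with rfl | rfl <;>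
    norm_num at hd ⊢ <;> (have := Int.le_of_dvd two_pos hd; omega)

end Setup

variable {V : Type v} [AddCommGroup V] [Module F V] [FiniteDimensional F V]
  {Q : QuadraticForm F V}

/-- An isometry as an endomorphism. -/
def toEnd (Q : QuadraticForm F V) : orth Q →* Module.End F V where
  toFun g := g.1.toLinearMap
  map_one' := rfl
  map_mul' _ _ := rfl

@[simp] theorem toEnd_apply (g : orth Q) (x : V) : toEnd Q g x = g.1 x := rfl

theorem pow_apply (g : orth Q) (n : ℕ) (x : V) : (g ^ n).1 x = (toEnd Q g ^ n) x := by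
  rw [← map_pow, toEnd_apply]

theorem restr_pow (g : orth Q) (U : Submodule F V) (hU : ∀ x ∈ U, g.1 x ∈ U) (n : ℕ) (x : U) :
    (((restr g U hU) ^ n).1 x : V) = (g ^ n).1 x := by
  induction n generalizing x with
  | zero => rfl
  | succ n ih =>
    rw [pow_succ, pow_succ, UnitaryOrthogonal.coe_mul_apply, UnitaryOrthogonal.coe_mul_apply, ih,
      restr_apply]

theorem restr_pow_eq_one {g : orth Q} {n : ℕ} (hg : g ^ n = 1) (U : Submodule F V)
    (hU : ∀ x ∈ U, g.1 x ∈ U) : (restr g U hU) ^ n = 1 :=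
  UnitaryOrthogonal.orth_ext fun x => Subtype.ext (by rw [restr_pow, hg]; rfl)

/-- Counting modulo `r`. -/
theorem card_modEq_fixed {α : Type*} [Finite α] [Fact r.Prime] (σ : α → α)
    (h : ∀ a, σ^[r] a = a) : Nat.card α ≡ Nat.card {a : α // σ a = a} [MOD r] := by
  classical
  haveI := Fintype.ofFinite α
  have h' := Equiv.Perm.card_fixedPoints_modEq (f := (σ : Function.End α)) (p := r) (n := 1)
    (by rw [pow_one]; funext a
        exact (congrFun (hom_coe_pow (fun g : Function.End α ↦ g) rfl (fun g h ↦ rfl) σ r) a).trans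
          (h a))
  rw [← Nat.card_eq_fintype_card, ← Nat.card_eq_fintype_card] at h'
  exact h'

variable [Finite V]

theorem level_modEq [Fact r.Prime] {g : orth Q} (hg : g ^ r = 1)
    (hfix : ∀ x, g.1 x = x → x = 0) (a : F) :
    level Q a ≡ Nat.card {v : V // Q v = a ∧ v = 0} [MOD r] := by
  let σ : {v : V // Q v = a} → {v : V // Q v = a} := fun v =>
    ⟨g.1 v, (UnitaryOrthogonal.map_form g v).trans v.2⟩
  have hiter : ∀ (n : ℕ) (v : {v : V // Q v = a}), ((σ^[n] v : _) : V) = (g ^ n).1 v := by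
    intro n
    induction n with
    | zero => intro v; rfl
    | succ n ih => intro v; rw [Function.iterate_succ_apply, ih, pow_succ]; rfl
  refine (card_modEq_fixed σ fun v => Subtype.ext (by rw [hiter, hg]; rfl)).trans (congrArg (· % r) ?_)
  exact Nat.card_congr
    { toFun := fun v => ⟨v.1.1, v.1.2, hfix _ (congrArg Subtype.val v.2)⟩
      invFun := fun v => ⟨⟨v.1, v.2.1⟩, Subtype.ext (by
        show g.1 v.1 = v.1
        rw [v.2.2, map_zero])⟩
      left_inv := fun v => rfl
      right_inv := fun v => rfl }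

theorem level_cast_eq_zero [Fact r.Prime] {g : orth Q} (hg : g ^ r = 1)
    (hfix : ∀ x, g.1 x = x → x = 0) {a : F} (ha : a ≠ 0) : ((level Q a : ℤ) : ZMod r) = 0 := by
  rw [Int.cast_natCast, (ZMod.natCast_eq_natCast_iff _ _ _).2 (level_modEq hg hfix a),
    Nat.card_eq_zero.2 (Or.inl ⟨fun v => ha (by rw [← v.2.1, v.2.2, QuadraticMap.map_zero])⟩),
    Nat.cast_zero]

variable (S : Setup F r i c b)
include S

/-- The dimension of a space with a fixed-point-free action of order `r` is a multiple of `i`. -/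
theorem i_dvd_finrank_of_fpf {g : orth Q} (hg : g ^ r = 1) (W : Submodule F V)
    (hW : ∀ x ∈ W, g.1 x ∈ W) (hfix : ∀ x ∈ W, g.1 x = x → x = 0) :
    i ∣ Module.finrank F W := by
  haveI : Fact r.Prime := ⟨S.prime⟩
  have h := card_modEq_fixed (r := r) (fun x : W => (restr g W hW).1 x) (fun x => by
    have hiter : ∀ (n : ℕ) (x : W), (fun x : W => (restr g W hW).1 x)^[n] x =
        ((restr g W hW) ^ n).1 x := by
      intro n
      induction n with
      | zero => intro x; rfl
      | succ n ih => intro x; rw [Function.iterate_succ_apply, ih, pow_succ]; rfl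
    rw [hiter, restr_pow_eq_one hg]; rfl)
  have h1 : Nat.card {a : W // (restr g W hW).1 a = a} = 1 := Nat.card_eq_one_iff_unique.2
    ⟨⟨fun a a' => Subtype.ext (Subtype.ext ((hfix _ a.1.2 (congrArg Subtype.val a.2)).trans
      (hfix _ a'.1.2 (congrArg Subtype.val a'.2)).symm))⟩, ⟨⟨0, map_zero _⟩⟩⟩
  rw [h1, Module.natCard_eq_pow_finrank (K := F), Nat.card_eq_fintype_card] at h
  have := (ZMod.natCast_eq_natCast_iff _ _ _).2 h
  rw [Nat.cast_one, Nat.cast_pow] at this
  exact S.pow_eq_one_iff.1 this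

/-- The type of a fixed-point-free space. -/
theorem fpf_sign (hQ : PolarND Q) {g : orth Q} (hg : g ^ r = 1)
    (hfix : ∀ x, g.1 x = x → x = 0) : ∃ s, Module.finrank F V = s * c ∧ Sig Q (b ^ s) := by
  haveI : Fact r.Prime := ⟨S.prime⟩
  obtain ⟨ε, hε⟩ := exists_sig hQ
  have hq := S.q_ne
  have hzero : ∀ a : F, a ≠ 0 → (Fintype.card F : ZMod r) ^ Module.finrank F V +
      (ε : ZMod r) * (kern (Module.finrank F V) a : ℤ) = 0 := fun a ha => by
    have h := congrArg (Int.cast : ℤ → ZMod r) (hε.count a)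
    push_cast at h
    rw [← h]
    exact mul_eq_zero_of_right _ (by simpa using level_cast_eq_zero hg hfix ha)
  rcases Nat.even_or_odd (Module.finrank F V) with hev | ho
  · have h1 := hzero 1 one_ne_zero
    rw [kern_even hev, nu, if_neg one_ne_zero] at h1
    obtain ⟨h, hh⟩ := hev
    rw [show Module.finrank F V / 2 = h by omega, hh, pow_add] at h1
    push_cast at h1
    have hε' : (Fintype.card F : ZMod r) ^ h = (ε : ZMod r) := by
      have : (Fintype.card F : ZMod r) ^ h * ((Fintype.card F : ZMod r) ^ h - ε) = 0 := by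
        linear_combination h1
      exact sub_eq_zero.1 ((mul_eq_zero.1 this).resolve_left (pow_ne_zero _ hq))
    have h2 : i ∣ 2 * h := S.pow_eq_one_iff.1 (by
      rw [two_mul, pow_add, hε', ← Int.cast_mul, hε.mul_self, Int.cast_one])
    have hch : c / 2 ∣ h := by
      rw [S.hc]
      split_ifs with hi
      · obtain ⟨e, he⟩ := hi
        rw [show i / 2 = e by omega]
        refine (Nat.mul_dvd_mul_iff_left two_pos).1 ?_
        rwa [show 2 * e = i by omega]
      · rw [show 2 * i / 2 = i by omega]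
        exact (Nat.coprime_two_right.2 (Nat.not_even_iff_odd.1 hi)).dvd_of_dvd_mul_left h2
    obtain ⟨s, hs⟩ := hch
    refine ⟨s, ?_, ?_⟩
    · obtain ⟨e, he⟩ := S.c_even
      rw [hh, hs, show c / 2 = e by omega, he]
      ring
    · have hu : b ^ s = 1 ∨ b ^ s = -1 := by
        rcases S.unit with hb | hb <;> rw [hb]
        · exact Or.inl (one_pow s)
        · exact neg_one_pow_eq_or ℤ s
      have e : ε = b ^ s := S.eq_of_cast hε.unit hu (by
        rw [← hε', hs, pow_mul, S.pow_half, Int.cast_pow])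
      exact e ▸ hε
  · exfalso
    obtain ⟨a, ha, hχ⟩ := exists_chi_neg_one (two_ne_zero_of_odd hQ ho)
    have h1 := hzero 1 one_ne_zero
    have h2 := hzero a ha
    rw [kern_odd ho, chi_one] at h1
    rw [kern_odd ho, hχ] at h2
    push_cast at h1 h2
    have h3 : (2 : ZMod r) * ((ε : ZMod r) *
        (Fintype.card F : ZMod r) ^ (Module.finrank F V / 2 + 1)) = 0 := by
      linear_combination h1 - h2
    have h4 : (2 : ZMod r) ≠ 0 := fun h0 => by
      have := (ZMod.natCast_eq_zero_iff 2 r).1 (by exact_mod_cast h0)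
      have := Nat.le_of_dvd two_pos this
      have := S.odd
      omega
    rcases mul_eq_zero.1 ((mul_eq_zero.1 h3).resolve_left h4) with h5 | h5
    · have h6 := congrArg (fun x => (ε : ZMod r) * x) h5
      rw [← Int.cast_mul, hε.mul_self, Int.cast_one, mul_zero] at h6
      exact one_ne_zero h6
    · exact pow_ne_zero _ hq h5

/-- The same on a subspace. -/
theorem fpf_sign_on {U : Submodule F V} (hU : NDOn Q U) {g : orth Q} (hg : g ^ r = 1)
    (hinv : ∀ x ∈ U, g.1 x ∈ U) (hfix : ∀ x ∈ U, g.1 x = x → x = 0) :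
    ∃ s, Module.finrank F U = s * c ∧ SigOn Q U (b ^ s) :=
  fpf_sign S hU (restr_pow_eq_one hg U hinv)
    fun x hx => Subtype.ext (hfix x x.2 (congrArg Subtype.val hx))

theorem not_ndOn_of_odd {g : orth Q} (hg : g ^ r = 1) (hi : ¬ Even i) {M : Submodule F V}
    (hM : ∀ x ∈ M, g.1 x ∈ M) (hfix : ∀ x ∈ M, g.1 x = x → x = 0)
    (hdim : Module.finrank F M = i) : ¬ NDOn Q M := fun hn => by
  obtain ⟨s, hs, -⟩ := fpf_sign_on S hn hg hM hfix
  rw [hdim, S.hc, if_neg hi] at hs
  have := S.i_pos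
  rcases s with _ | s
  · omega
  · rw [Nat.succ_mul] at hs; omega

/-- An invariant `i`-space is non-degenerate or totally singular. -/
theorem ndOn_or_ts {g : orth Q} (hg : g ^ r = 1) {M : Submodule F V}
    (hM : ∀ x ∈ M, g.1 x ∈ M) (hfix : ∀ x ∈ M, g.1 x = x → x = 0)
    (hdim : Module.finrank F M = i) :
    NDOn Q M ∨ ((∀ x ∈ M, ∀ y ∈ M, polar Q x y = 0) ∧ ∀ x ∈ M, Q x = 0) := by
  have hR : ∀ x ∈ M ⊓ perp Q M, g.1 x ∈ M ⊓ perp Q M := fun x hx =>
    ⟨hM x hx.1, perp_invariant hM x hx.2⟩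
  obtain ⟨k, hk⟩ := i_dvd_finrank_of_fpf S hg _ hR fun x hx => hfix x hx.1
  have hle := Submodule.finrank_mono (inf_le_left : M ⊓ perp Q M ≤ M)
  rcases k with _ | k
  · left
    have hbot : M ⊓ perp Q M = ⊥ := Submodule.finrank_eq_zero.1 (by omega)
    exact ndOn_iff.2 fun x hx hxy => (Submodule.eq_bot_iff _).1 hbot x
      ⟨hx, mem_perp.2 fun y hy => (polar_comm Q y x).trans (hxy y hy)⟩
  · right
    have heq : M ⊓ perp Q M = M := Submodule.eq_of_le_of_finrank_le inf_le_left (by
      rw [hdim, hk]; exact Nat.le_mul_of_pos_right i (Nat.succ_pos k))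
    have hp : ∀ x ∈ M, ∀ y ∈ M, polar Q x y = 0 := fun x hx y hy => by
      have : y ∈ M ⊓ perp Q M := heq.symm ▸ hy
      exact mem_perp.1 this.2 x hx
    refine ⟨hp, fun y hy => ?_⟩
    let T : M →ₗ[F] M := g.1.toLinearMap.restrict hM - LinearMap.id
    have hT : Function.Injective T := (injective_iff_map_eq_zero T).2 fun x hx =>
      Subtype.ext (hfix x x.2 (sub_eq_zero.1 (congrArg Subtype.val hx)))
    obtain ⟨x, hx⟩ := LinearMap.injective_iff_surjective.1 hT ⟨y, hy⟩
    have e : g.1 (x : V) - x = y := congrArg Subtype.val hx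
    have e0 := hp x x.2 x x.2
    rw [polar_self_eq] at e0
    rw [← e, sub_eq_add_neg, form_add, polar_neg_right, hp _ (hM x x.2) _ x.2,
      UnitaryOrthogonal.map_form, QuadraticMap.map_neg, neg_zero, add_zero]
    linear_combination e0

end Cfsg.Agent.OrthFix
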