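import Cfsg.Agent.OrthFix.Rows
import Cfsg.Agent.ClMax99.SympJordan
import Cfsg.Agent.ClMax99.AltSim

/-!
Jordan types of unipotent isometries in odd characteristic: even parts come in pairs, also on
invariant non-degenerate subspaces.
-/

set_option autoImplicit false
set_option linter.unusedSectionVars false
set_option linter.style.haveILetI false

namespace Cfsg.Agent.OrthFix

open QuadraticMap Module
open Cfsg.Agent.UnitaryOrthogonal (PolarND orth)
open Cfsg.Agent.ClMax99 (JType.nul JType.nul_add JType.eq_of_nul JType.count_eq JType.exists_type)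

universe u v

variable {F : Type u} [Field F] [Fintype F]
variable {V : Type v} [AddCommGroup V] [Module F V] [FiniteDimensional F V] [Finite V]
  {Q : QuadraticForm F V}

/-- `g - 1`. -/
def nil (g : orth Q) : Module.End F V := g.1.toLinearMap - 1

theorem nil_apply (g : orth Q) (x : V) : nil g x = g.1 x - x := rfl

theorem toLinearMap_pow (g : orth Q) (n : ℕ) : (g ^ n).1.toLinearMap = g.1.toLinearMap ^ n := by
  induction n with
  | zero => rfl
  | succ n ih => rw [pow_succ g n, pow_succ g.1.toLinearMap n, ← ih]; rfl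

theorem nil_pow_char {p : ℕ} [Fact p.Prime] [CharP F p] (g : orth Q) :
    nil g ^ p = (g ^ p).1.toLinearMap - 1 := by
  rcases subsingleton_or_nontrivial V with hV | hV
  · exact LinearMap.ext fun x => Subsingleton.elim _ _
  · haveI : CharP (Module.End F V) p :=
      charP_of_injective_algebraMap (algebraMap F (Module.End F V)).injective p
    rw [nil, sub_pow_char_of_commute p (Commute.one_right _), one_pow, toLinearMap_pow]

theorem nil_pow_eq_zero_iff {p : ℕ} [Fact p.Prime] [CharP F p] (g : orth Q) :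
    nil g ^ p = 0 ↔ g ^ p = 1 := by
  rw [nil_pow_char, sub_eq_zero]
  constructor
  · exact fun h => UnitaryOrthogonal.orth_ext fun x => LinearMap.congr_fun h x
  · intro h; rw [h]; rfl

theorem commute_nil_inv (g : orth Q) : Commute (nil g) g⁻¹.1.toLinearMap := by
  refine LinearMap.ext fun x => ?_
  show g.1 (g⁻¹.1 x) - g⁻¹.1 x = g⁻¹.1 (g.1 x - x)
  rw [map_sub, UnitaryOrthogonal.coe_apply_inv_apply, UnitaryOrthogonal.coe_inv_apply_apply]

theorem polar_nil (g : orth Q) : ∀ (j : ℕ) (x y : V),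
    polar Q ((nil g ^ j) x) y = (-1) ^ j * polar Q x ((g⁻¹.1.toLinearMap ^ j) ((nil g ^ j) y)) := by
  intro j
  induction j with
  | zero => simp
  | succ j ih =>
    intro x y
    have h1 : ∀ a b : V, polar Q (nil g a) b = -polar Q a (g⁻¹.1.toLinearMap (nil g b)) := fun a b => by
      show polar Q (g.1 a - a) b = -polar Q a (g⁻¹.1 (g.1 b - b))
      rw [map_sub, UnitaryOrthogonal.coe_inv_apply_apply, polar_sub_left, polar_sub_right]
      conv_lhs => rw [← UnitaryOrthogonal.coe_apply_inv_apply g b, UnitaryOrthogonal.map_polar,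
        UnitaryOrthogonal.coe_apply_inv_apply]
      ring
    have e : nil g * g⁻¹.1.toLinearMap ^ j = g⁻¹.1.toLinearMap ^ j * nil g :=
      ((commute_nil_inv g).pow_right j).eq
    rw [pow_succ (nil g), Module.End.mul_apply, ih, h1, ← Module.End.mul_apply (nil g), e,
      pow_succ' g⁻¹.1.toLinearMap, pow_succ (-1 : F), Module.End.mul_apply, Module.End.mul_apply,
      ← Module.End.mul_apply (nil g) (nil g ^ j), ← pow_succ', pow_succ (nil g) j,
      Module.End.mul_apply]
    ring

theorem inv_pow_fixed (g : orth Q) {a : V} (ha : nil g a = 0) (j : ℕ) :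
    (g⁻¹.1.toLinearMap ^ j) a = a := by
  induction j with
  | zero => rfl
  | succ j ih =>
    rw [pow_succ', Module.End.mul_apply, ih]
    have h : g.1 a = a := sub_eq_zero.1 ha
    show g⁻¹.1 a = a
    conv_lhs => rw [← h]
    exact UnitaryOrthogonal.coe_inv_apply_apply g a

theorem inv_pow_injective (g : orth Q) (j : ℕ) : Function.Injective (g⁻¹.1.toLinearMap ^ j) := by
  rw [← toLinearMap_pow]
  exact (g⁻¹ ^ j).1.injective

theorem perp_range (hQ : PolarND Q) (g : orth Q) (m : ℕ) :
    perp Q (LinearMap.range (nil g ^ m)) = LinearMap.ker (nil g ^ m) := by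
  ext x
  rw [mem_perp, LinearMap.mem_ker]
  constructor
  · intro h
    refine inv_pow_injective g m ?_
    rw [map_zero]
    refine hQ _ fun y => ?_
    have e := h _ ⟨y, rfl⟩
    rw [polar_nil] at e
    rw [polar_comm]
    exact (mul_eq_zero.1 e).resolve_left (pow_ne_zero _ (neg_ne_zero.2 one_ne_zero))
  · rintro h _ ⟨y, rfl⟩
    rw [polar_nil, h, map_zero, polar_zero_right, mul_zero]

theorem perp_ker (hQ : PolarND Q) (g : orth Q) (m : ℕ) :
    perp Q (LinearMap.ker (nil g ^ m)) = LinearMap.range (nil g ^ m) := by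
  rw [← perp_range hQ g m]
  exact LinearMap.BilinForm.orthogonal_orthogonal (nondegenerate_of_polarND hQ)
    (fun x y h => by rwa [polarBilin_apply_apply, polar_comm]) _

/-- In odd characteristic the even parts of the type occur with even multiplicity. -/
theorem exists_type_par (h2 : (2 : F) ≠ 0) (hQ : PolarND Q) (g : orth Q) {p : ℕ}
    (hN : nil g ^ p = 0) :
    ∃ μ : Multiset ℕ, (∀ a ∈ μ, 0 < a ∧ a ≤ p) ∧ μ.sum = finrank F V ∧
      (∀ j, finrank F (LinearMap.ker (nil g ^ j)) = JType.nul μ j) ∧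
      ∀ e, Even e → Even (μ.count e) := by
  obtain ⟨μ, hμ, hμs, hμn, -⟩ := JType.exists_type (nil g) hN
  refine ⟨μ, hμ, hμs, hμn, fun e he => ?_⟩
  rcases e with _ | j
  · rw [Multiset.count_eq_zero.2 fun h => (hμ 0 h).1.false]
    exact Even.zero
  have hj : Odd j := by rwa [Nat.even_add_one, Nat.not_even_iff_odd] at he
  set N := nil g
  set K := LinearMap.ker (N ^ (j + 1)) with hK
  set R := K ⊓ (LinearMap.range (N ^ (j + 1))).comap (N ^ j) with hR
  have hjj : ∀ {x}, x ∈ K → nil g ((N ^ j) x) = 0 := fun {x} hx => by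
    rw [hK, LinearMap.mem_ker, pow_succ', Module.End.mul_apply] at hx
    exact hx
  have hsymm : ∀ x ∈ K, ∀ y, polar Q y ((N ^ j) x) = -polar Q x ((N ^ j) y) := fun x hx y => by
    rw [polar_comm Q x, polar_nil g j y x, inv_pow_fixed g (hjj hx), hj.neg_one_pow]
    ring
  have halt : ∀ x ∈ K, polar Q x ((N ^ j) x) = 0 := fun x hx => by
    have e := hsymm x hx x
    exact (mul_eq_zero.1 (show (2 : F) * polar Q x ((N ^ j) x) = 0 by linear_combination e)).resolve_left h2
  let β : LinearMap.BilinForm F K := (polarBilin Q).compl₁₂ K.subtype ((N ^ j).comp K.subtype)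
  have hβ : ∀ x y : K, β x y = polar Q (x : V) ((N ^ j) y) := fun x y => rfl
  obtain ⟨M, hM⟩ := Submodule.exists_isCompl (R.comap K.subtype)
  have hMe : Even (finrank F M) := ClMax99.AltSim.even_finrank β (fun x => halt x x.2) M
    fun a ha hab => by
    have hall : ∀ b : K, polar Q (a : V) ((N ^ j) b) = 0 := fun b => by
      obtain ⟨r, hr, m, hm, rfl⟩ := Submodule.mem_sup.1
        (hM.sup_eq_top ▸ Submodule.mem_top : b ∈ R.comap K.subtype ⊔ M)
      obtain ⟨z, hz⟩ : (N ^ j) (r : V) ∈ LinearMap.range (N ^ (j + 1)) := hr.2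
      have hm' : polar Q (a : V) ((N ^ j) (m : V)) = 0 := hab m hm
      have ha' : (N ^ (j + 1)) (a : V) = 0 := a.2
      rw [Submodule.coe_add, map_add, polar_add_right, hm', ← hz, polar_comm, polar_nil, ha', map_zero,
        polar_zero_right, mul_zero, add_zero]
    refine Submodule.disjoint_def.1 hM.disjoint a ⟨a.2, ?_⟩ ha
    show (N ^ j) (a : V) ∈ LinearMap.range (N ^ (j + 1))
    rw [← perp_ker hQ g (j + 1)]
    refine mem_perp.2 fun b hb => ?_
    rw [hsymm a a.2 b, hall ⟨b, hb⟩, neg_zero]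
  have h1 := Submodule.finrank_add_eq_of_isCompl hM
  rw [(Submodule.comapSubtypeEquivOfLe (inf_le_left : R ≤ K)).finrank_eq,
    show finrank F K = JType.nul μ (j + 1) from hμn _] at h1
  have hle : ∀ m, LinearMap.ker (N ^ j) ≤ LinearMap.ker (N ^ (m + j)) := fun m x hx => by
    rw [LinearMap.mem_ker] at hx ⊢
    rw [pow_add, Module.End.mul_apply, hx, map_zero]
  have hmap : R.map (N ^ j) = (LinearMap.ker (N ^ (j + 2))).map (N ^ (j + 1)) := by
    refine le_antisymm ?_ ?_
    · rintro _ ⟨x, ⟨hx, z, hz⟩, rfl⟩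
      refine ⟨z, ?_, hz⟩
      rw [SetLike.mem_coe, LinearMap.mem_ker, pow_succ', Module.End.mul_apply, hz]
      exact hjj hx
    · rintro _ ⟨z, hz, rfl⟩
      have e : (N ^ (j + 1)) z = (N ^ j) (N z) := by rw [pow_succ, Module.End.mul_apply]
      refine ⟨N z, ⟨?_, ?_⟩, e.symm⟩
      · show N z ∈ LinearMap.ker (N ^ (j + 1))
        rw [SetLike.mem_coe, LinearMap.mem_ker, pow_succ, Module.End.mul_apply] at hz
        exact LinearMap.mem_ker.2 hz
      · show (N ^ j) (N z) ∈ LinearMap.range (N ^ (j + 1))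
        rw [← e]
        exact ⟨z, rfl⟩
  have e1 := ClMax99.SympJordan.finrank_map_add (N ^ j) R
  have e2 := ClMax99.SympJordan.finrank_map_add (N ^ (j + 1)) (LinearMap.ker (N ^ (j + 2)))
  have hRker : R ⊓ LinearMap.ker (N ^ j) = LinearMap.ker (N ^ j) := inf_eq_right.2 fun x hx =>
    ⟨show x ∈ LinearMap.ker (N ^ (j + 1)) by rw [add_comm]; exact hle 1 hx,
      show (N ^ j) x ∈ LinearMap.range (N ^ (j + 1)) by rw [LinearMap.mem_ker.1 hx]; exact zero_mem _⟩
  rw [hmap, hRker, hμn] at e1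
  rw [inf_eq_right.2 (fun x hx => by
    rw [LinearMap.mem_ker] at hx ⊢
    rw [pow_succ', Module.End.mul_apply, hx, map_zero] : LinearMap.ker (N ^ (j + 1)) ≤ LinearMap.ker (N ^ (j + 2))),
    hμn, hμn] at e2
  have := JType.count_eq μ j
  rw [← hR] at h1
  rw [show μ.count (j + 1) = finrank F M by omega]
  exact hMe

/-- The type of an invariant non-degenerate subspace. -/
theorem exists_sub_type (h2 : (2 : F) ≠ 0) (hQ : PolarND Q) (g : orth Q) {p : ℕ}
    (hN : nil g ^ p = 0) {μ : Multiset ℕ} (hμ : ∀ a ∈ μ, 0 < a)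
    (hμn : ∀ j, finrank F (LinearMap.ker (nil g ^ j)) = JType.nul μ j)
    {W : Submodule F V} (hW : NDOn Q W) (hinv : ∀ x ∈ W, g.1 x ∈ W) :
    ∃ ν, ν ≤ μ ∧ ν.sum = finrank F W ∧ ∀ e, Even e → Even (ν.count e) := by
  have hP : NDOn Q (perp Q W) := by
    obtain ⟨h, -, -⟩ := (ndOn_top hQ).inf_perp hW le_top
    rwa [top_inf_eq] at h
  have hcomm : ∀ (U : Submodule F V) (hU : ∀ x ∈ U, g.1 x ∈ U) (j : ℕ) (x : U),
      ((nil (restr g U hU) ^ j) x : V) = (nil g ^ j) x := by
    intro U hU j x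
    induction j with
    | zero => rfl
    | succ j ih =>
      rw [pow_succ', Module.End.mul_apply, pow_succ', Module.End.mul_apply, ← ih]
      rfl
  have hker : ∀ (U : Submodule F V) (hU : ∀ x ∈ U, g.1 x ∈ U) (j : ℕ),
      finrank F (LinearMap.ker (nil (restr g U hU) ^ j)) =
        finrank F ↥(U ⊓ LinearMap.ker (nil g ^ j)) := by
    intro U hU j
    rw [← Submodule.finrank_map_subtype_eq U]
    rw [show (LinearMap.ker (nil (restr g U hU) ^ j)).map U.subtype = U ⊓ LinearMap.ker (nil g ^ j) from ?_]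
    ext x
    rw [Submodule.mem_map, Submodule.mem_inf, LinearMap.mem_ker]
    constructor
    · rintro ⟨y, hy, rfl⟩
      exact ⟨y.2, by show (nil g ^ j) (y : V) = 0; rw [← hcomm U hU j y, LinearMap.mem_ker.1 hy]; rfl⟩
    · rintro ⟨hx, hx0⟩
      exact ⟨⟨x, hx⟩, LinearMap.mem_ker.2 (Subtype.ext ((hcomm U hU j ⟨x, hx⟩).trans hx0)), rfl⟩
  have hNU : ∀ (U : Submodule F V) (hU : ∀ x ∈ U, g.1 x ∈ U), nil (restr g U hU) ^ p = 0 :=
    fun U hU => LinearMap.ext fun x => Subtype.ext (by rw [hcomm, hN]; rfl)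
  have hinv' := perp_invariant hinv
  obtain ⟨α, hα, hαs, hαn, hαp⟩ := exists_type_par h2 hW (restr g W hinv) (hNU W hinv)
  obtain ⟨β, hβ, -, hβn, -⟩ := exists_type_par h2 hP (restr g _ hinv') (hNU _ hinv')
  refine ⟨α, ?_, hαs, hαp⟩
  have key : α + β = μ := by
    refine JType.eq_of_nul (fun a ha => ?_) hμ fun j => ?_
    · rcases Multiset.mem_add.mp ha with h | h
      exacts [(hα a h).1, (hβ a h).1]
    · have hmap : ∀ U : Submodule F V, (∀ x ∈ U, g.1 x ∈ U) → U.map (nil g ^ j) ≤ U := by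
        rintro U hU _ ⟨x, hx, rfl⟩
        rw [← hcomm U hU j ⟨x, hx⟩]
        exact Subtype.coe_prop _
      rw [JType.nul_add, ← hαn, ← hβn, hker, hker, ← ClMax99.SympJordan.finrank_inf_ker_add (nil g ^ j)
        hW.isCompl.disjoint (hmap _ hinv) (hmap _ hinv'), hW.isCompl.sup_eq_top, top_inf_eq, hμn]
  exact key ▸ Multiset.le_add_right _ _

end Cfsg.Agent.OrthFix
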