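import Cfsg.Agent.OrthFix.JordanPar
import Cfsg.Agent.Forms59.JordanQuad

/-!
Unipotent isometries of a prescribed Jordan type and form.
-/

set_option autoImplicit false
set_option linter.unusedSectionVars false
set_option linter.style.haveILetI false

namespace Cfsg.Agent.OrthFix

open QuadraticMap Module Matrix
open Cfsg.Agent.UnitaryOrthogonal (PolarND orth level)
open Cfsg.Agent.ClMax99 (JType.nul JType.nul_add)

universe u v w

variable {F : Type u} [Field F] [Fintype F]
variable {V : Type v} [AddCommGroup V] [Module F V] {Q : QuadraticForm F V}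
variable {V' : Type w} [AddCommGroup V'] [Module F V'] {Q' : QuadraticForm F V'}

/-- `g` has Jordan type `μ`. -/
def HasType (g : orth Q) (μ : Multiset ℕ) : Prop :=
  ∀ j, finrank F (LinearMap.ker (nil g ^ j)) = JType.nul μ j

/-- Some isometry of some form of sign `ε` has type `μ`. -/
def Real (F : Type u) [Field F] [Fintype F] (μ : Multiset ℕ) (ε : ℤ) : Prop :=
  ∃ Q : QuadraticForm F (Fin μ.sum → F), PolarND Q ∧ Sig Q ε ∧ ∃ g : orth Q, HasType g μ

theorem exists_transport (i : Q.IsometryEquiv Q') {μ : Multiset ℕ} {g : orth Q} (hg : HasType g μ) :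
    ∃ g' : orth Q', HasType g' μ := by
  let g' : orth Q' := ⟨i.toLinearEquiv.symm.trans (g.1.trans i.toLinearEquiv), fun x => by
    show Q' (i (g.1 (i.toLinearEquiv.symm x))) = Q' x
    rw [i.map_app, g.2]
    conv_rhs => rw [← i.toLinearEquiv.apply_symm_apply x]
    exact (i.map_app _).symm⟩
  refine ⟨g', fun j => ?_⟩
  have hpow : ∀ x, (nil g' ^ j) x = i ((nil g ^ j) (i.toLinearEquiv.symm x)) := by
    intro x
    induction j generalizing x with
    | zero => exact (i.toLinearEquiv.apply_symm_apply x).symm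
    | succ j ih =>
      rw [pow_succ, Module.End.mul_apply, ih, pow_succ, Module.End.mul_apply]
      congr 2
      show i.toLinearEquiv.symm (i.toLinearEquiv (g.1 (i.toLinearEquiv.symm x)) - x) = _
      rw [map_sub, LinearEquiv.symm_apply_apply]
      rfl
  rw [← hg j, ← LinearEquiv.finrank_map_eq i.toLinearEquiv (LinearMap.ker (nil g ^ j)),
    show LinearMap.ker (nil g' ^ j) = (LinearMap.ker (nil g ^ j)).map i.toLinearEquiv.toLinearMap from ?_]
  ext x
  rw [Submodule.mem_map_equiv, LinearMap.mem_ker, LinearMap.mem_ker, hpow]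
  exact i.toLinearEquiv.map_eq_zero_iff

theorem real_mk [FiniteDimensional F V] {μ : Multiset ℕ} {ε : ℤ} (hd : finrank F V = μ.sum)
    (hQ : PolarND Q) (hs : Sig Q ε) {g : orth Q} (hg : HasType g μ) : Real F μ ε := by
  let e : V ≃ₗ[F] (Fin μ.sum → F) := (Module.finBasisOfFinrankEq F V hd).equivFun
  let f : Q.IsometryEquiv (Q.comp e.symm.toLinearMap) := { e with map_app' := fun v => by simp }
  obtain ⟨g', hg'⟩ := exists_transport f hg
  exact ⟨_, hQ.congr f, hs.congr f, g', hg'⟩

theorem exists_of_real [FiniteDimensional F V] {μ : Multiset ℕ} {ε : ℤ} (h : Real F μ ε)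
    (hQ : PolarND Q) (hs : Sig Q ε) (hd : finrank F V = μ.sum) : ∃ g : orth Q, HasType g μ := by
  obtain ⟨R, hR, hRs, g, hg⟩ := h
  obtain ⟨i⟩ := Sig.isometric hR hQ hRs hs (by rw [finrank_fintype_fun_eq_card, Fintype.card_fin, hd])
  exact exists_transport i hg

theorem sig_smul_odd [FiniteDimensional F V] {c : F} (hc : c ≠ 0) (hcn : chi c = -1) {ε : ℤ}
    (hodd : Odd (finrank F V)) (hs : Sig Q ε) : Sig (c • Q) (-ε) := by
  refine ⟨by rcases hs.unit with h | h <;> simp [h], fun a => ?_⟩
  have hl : level (c • Q) a = level Q (a / c) := by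
    refine Nat.card_congr (Equiv.subtypeEquivRight fun x => ?_)
    show c * Q x = a ↔ Q x = a / c
    rw [eq_div_iff hc, mul_comm]
  have e : chi (a / c) = -chi a := by
    have h1 := chi_mul (a / c) c
    rw [div_mul_cancel₀ a hc, hcn] at h1
    linarith
  rw [hl, hs.count, kern_odd hodd, kern_odd hodd, e]
  ring

theorem real_neg (h2 : (2 : F) ≠ 0) {μ : Multiset ℕ} {ε : ℤ} (hodd : Odd μ.sum) (h : Real F μ ε) :
    Real F μ (-ε) := by
  obtain ⟨R, hR, hRs, g, hg⟩ := h
  obtain ⟨c, hc, hcn⟩ := exists_chi_neg_one (F := F) h2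
  refine ⟨c • R, fun u hu => hR u fun x => ?_, sig_smul_odd hc hcn (by
    rwa [finrank_fintype_fun_eq_card, Fintype.card_fin]) hRs,
    ⟨g.1, fun x => congrArg (fun t => c • t) (g.2 x)⟩, hg⟩
  have e := hu x
  rw [show polar (⇑(c • R)) u x = c * polar R u x by
    simp only [polar, QuadraticMap.smul_apply, smul_eq_mul]; ring] at e
  exact (mul_eq_zero.1 e).resolve_left hc

theorem real_add (h2 : (2 : F) ≠ 0) {μ ν : Multiset ℕ} {ε ε' : ℤ} (hμ : Real F μ ε) (hν : Real F ν ε') :
    Real F (μ + ν) (ε * ε' * sig F μ.sum ν.sum) := by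
  obtain ⟨A, hA, hAs, g, hg⟩ := hμ
  obtain ⟨B, hB, hBs, k, hk⟩ := hν
  have hdA : finrank F (Fin μ.sum → F) = μ.sum := by rw [finrank_fintype_fun_eq_card, Fintype.card_fin]
  have hdB : finrank F (Fin ν.sum → F) = ν.sum := by rw [finrank_fintype_fun_eq_card, Fintype.card_fin]
  have hs := hAs.prod hBs (fun _ => h2) (fun _ => h2)
  rw [hdA, hdB] at hs
  let gk : orth (A.prod B) := ⟨g.1.prodCongr k.1, fun x => by
    show A (g.1 x.1) + B (k.1 x.2) = A x.1 + B x.2
    rw [g.2, k.2]⟩
  have hPN : PolarND (A.prod B) := fun u hu => by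
    refine Prod.ext (hA _ fun x => ?_) (hB _ fun y => ?_)
    · have e := hu (x, 0)
      simpa [polar, QuadraticMap.prod_apply] using e
    · have e := hu (0, y)
      simpa [polar, QuadraticMap.prod_apply] using e
  refine real_mk (by rw [finrank_prod, hdA, hdB, Multiset.sum_add]) hPN hs (g := gk) fun j => ?_
  have hpow : ∀ x, (nil gk ^ j) x = ((nil g ^ j) x.1, (nil k ^ j) x.2) := by
    intro x
    induction j generalizing x with
    | zero => rfl
    | succ j ih => rw [pow_succ, Module.End.mul_apply, ih, pow_succ, pow_succ]; rfl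
  rw [JType.nul_add, ← hg j, ← hk j, ← ClMax99.JType.finrank_prod_submodule,
    show LinearMap.ker (nil gk ^ j) = (LinearMap.ker (nil g ^ j)).prod (LinearMap.ker (nil k ^ j)) from ?_]
  ext x
  rw [LinearMap.mem_ker, hpow, Submodule.mem_prod, LinearMap.mem_ker, LinearMap.mem_ker, Prod.mk_eq_zero]

theorem real_exists (h2 : (2 : F) ≠ 0) {μ : Multiset ℕ} (hpar : ∀ e, Even e → Even (μ.count e)) :
    ∃ ε, Real F μ ε := by
  classical
  obtain ⟨l, rfl⟩ : ∃ l : List ℕ, (l : Multiset ℕ) = μ := Quot.exists_rep μ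
  let d : Fin l.length → ℕ := fun i => l[i.1]
  have hl : (Finset.univ.val.map d : Multiset ℕ) = (l : Multiset ℕ) := by simp [Fin.univ_def, d]
  have hcount : ∀ j, Even j → Even (Finset.univ.filter fun k => d k = j).card := fun j hj => by
    have h := hpar j hj
    rw [← hl, Multiset.count_map] at h
    simpa [Finset.card_def, Finset.filter_val, eq_comm] using h
  obtain ⟨P, hu, hP, hPT⟩ := Forms59.Jordan.exists_symm_form (F := F) h2 hcount
  obtain ⟨R, hR, hRv⟩ := Forms59.Jordan.exists_quad P (by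
    rw [hPT, ← two_smul F, Matrix.isUnit_iff_isUnit_det, Matrix.det_smul]
    exact (isUnit_iff_ne_zero.2 (pow_ne_zero _ h2)).mul ((Matrix.isUnit_iff_isUnit_det _).1 hu))
  have hRP : PolarND R := fun u hu' => hR.1 u hu'
  obtain ⟨ε, hε⟩ := exists_sig hRP
  set U := Forms59.Jordan.Umat F d
  have hUu : IsUnit U := by
    rw [Matrix.isUnit_iff_isUnit_det]
    refine isUnit_of_mul_isUnit_right (x := Uᵀ.det * P.det) ?_
    rw [← Matrix.det_mul, ← Matrix.det_mul, hP]
    exact (Matrix.isUnit_iff_isUnit_det _).1 hu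
  have hinj : Function.Injective (Matrix.toLin' U) := fun a b h => Matrix.mulVec_injective_of_isUnit hUu h
  let g : orth R := ⟨LinearEquiv.ofInjectiveEndo (Matrix.toLin' U) hinj, fun x => by
    show R (Matrix.toLin' U x) = R x
    rw [Matrix.toLin'_apply, hRv, hRv]
    conv_rhs => rw [← hP, ← mulVec_mulVec, ← mulVec_mulVec, dotProduct_mulVec x Uᵀ, vecMul_transpose]⟩
  refine ⟨ε, real_mk (μ := (l : Multiset ℕ)) ?_ hRP hε (g := g) fun j => ?_⟩
  · rw [finrank_fintype_fun_eq_card, Fintype.card_sigma, ← hl]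
    simp [List.sum_ofFn]
  have hnil : nil g = Matrix.toLin' (Forms59.Jordan.Nmat F d) := by
    refine LinearMap.ext fun x => ?_
    show Matrix.toLin' U x - x = Matrix.toLin' (U - 1) x
    rw [map_sub, LinearMap.sub_apply, Matrix.toLin'_one, LinearMap.id_apply]
  have hmem : ∀ x : Forms59.Jordan.Ix d → F, x ∈ LinearMap.ker (nil g ^ j) ↔
      ∀ (k : Fin l.length) (b : Fin (d k)), (b : ℕ) + j < d k → x ⟨k, b⟩ = 0 := fun x => by
    rw [LinearMap.mem_ker, hnil, ← Matrix.toLin'_pow, Matrix.toLin'_apply]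
    constructor
    · intro h k b hb
      have e := congrFun h ⟨k, ⟨b + j, hb⟩⟩
      rw [Forms59.Jordan.Nmat_pow_mulVec, if_pos (Nat.le_add_left _ _)] at e
      simpa [Forms59.Jordan.ext0] using e
    · intro h
      funext ⟨k, a⟩
      rw [Forms59.Jordan.Nmat_pow_mulVec, Pi.zero_apply]
      split_ifs with ha
      · rw [Forms59.Jordan.ext0, dif_pos (by omega)]
        exact h k _ (by show (a : ℕ) - j + j < d k; omega)
      · rfl
  let E : LinearMap.ker (nil g ^ j) ≃ₗ[F] ((k : Fin l.length) × Fin (min (d k) j) → F) :=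
    { toFun := fun x s => (x : Forms59.Jordan.Ix d → F) ⟨s.1, ⟨d s.1 - 1 - s.2, by omega⟩⟩
      map_add' := fun _ _ => rfl
      map_smul' := fun _ _ => rfl
      invFun := fun f => ⟨fun s => if h : (d s.1 - 1 - (s.2 : ℕ)) < min (d s.1) j then f ⟨s.1, ⟨_, h⟩⟩ else 0,
        (hmem _).2 fun k b hb => dif_neg (by simp only; omega)⟩
      left_inv := fun x => by
        refine Subtype.ext (funext fun s => ?_)
        obtain ⟨k, b⟩ := s
        simp only
        split_ifs with h
        · exact congrArg (fun b' => (x : Forms59.Jordan.Ix d → F) ⟨k, b'⟩) (Fin.ext (by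
            have := b.2
            simp only
            omega))
        · exact ((hmem _).1 x.2 k b (by have := b.2; omega)).symm
      right_inv := fun f => funext fun s => by
        obtain ⟨k, b⟩ := s
        have hb := b.2
        simp only
        rw [dif_pos (by omega)]
        exact congrArg (fun b' => f ⟨k, b'⟩) (Fin.ext (by simp only; omega)) }
  rw [E.finrank_eq, finrank_fintype_fun_eq_card, Fintype.card_sigma, ← hl, JType.nul, Multiset.map_map]
  simp [List.sum_ofFn]

/-- A type with an odd part occurs for both signs. -/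
theorem real_any (h2 : (2 : F) ≠ 0) {μ : Multiset ℕ} (hpar : ∀ e, Even e → Even (μ.count e))
    {o : ℕ} (ho : o ∈ μ) (hodd : Odd o) {ε : ℤ} (hε : ε = 1 ∨ ε = -1) : Real F μ ε := by
  have hodd_case : ∀ {ν : Multiset ℕ} (ε' : ℤ), (∀ e, Even e → Even (ν.count e)) → Odd ν.sum →
      ε' = 1 ∨ ε' = -1 → Real F ν ε' := by
    intro ν ε' hν hs hε'
    obtain ⟨ε₀, h⟩ := real_exists h2 hν
    have hu : ε₀ = ε' ∨ -ε₀ = ε' := by
      obtain ⟨R, -, hRs, -⟩ := h
      rcases hRs.unit with rfl | rfl <;> rcases hε' with rfl | rfl <;> simp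
    rcases hu with rfl | rfl
    · exact h
    · exact real_neg h2 hs h
  rcases Nat.even_or_odd μ.sum with hev | hs
  swap
  · exact hodd_case ε hpar hs hε
  obtain ⟨μ', rfl⟩ := Multiset.exists_cons_of_mem ho
  have h' : ∀ e, Even e → Even (μ'.count e) := fun e he => by
    have := hpar e he
    rwa [Multiset.count_cons_of_ne (by rintro rfl; exact Nat.not_even_iff_odd.2 hodd he)] at this
  have h1 : ∀ e, Even e → Even (({o} : Multiset ℕ).count e) := fun e he => by
    rw [Multiset.count_singleton, if_neg (by rintro rfl; exact Nat.not_even_iff_odd.2 hodd he)]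
    exact Even.zero
  have hs' : Odd μ'.sum := by
    rw [Multiset.sum_cons] at hev
    rw [Nat.even_add] at hev
    exact Nat.not_even_iff_odd.1 fun h => Nat.not_even_iff_odd.2 hodd (hev.2 h)
  have hso : Odd ({o} : Multiset ℕ).sum := by rwa [Multiset.sum_singleton]
  set s := sig F ({o} : Multiset ℕ).sum μ'.sum
  have hss : s * s = 1 := sig_mul_self _ _
  have hu : ε * s = 1 ∨ ε * s = -1 := mul_self_eq_one_iff.1 (by
    rcases hε with rfl | rfl <;> linear_combination hss)
  have h := real_add h2 (hodd_case 1 h1 hso (Or.inl rfl)) (hodd_case (ε * s) h' hs' hu)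
  rw [one_mul, mul_assoc, hss, mul_one, Multiset.singleton_add] at h
  exact h

theorem nul_le_sum (μ : Multiset ℕ) (j : ℕ) : JType.nul μ j ≤ μ.sum := by
  induction μ using Multiset.induction_on with
  | empty => simp [JType.nul]
  | cons a μ ih =>
    simp only [JType.nul, Multiset.map_cons, Multiset.sum_cons] at ih ⊢
    omega

theorem nul_eq_sum {μ : Multiset ℕ} {p : ℕ} (h : ∀ e ∈ μ, e ≤ p) : JType.nul μ p = μ.sum := by
  rw [JType.nul, Multiset.map_congr rfl fun e he => min_eq_left (h e he), Multiset.map_id']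

theorem nil_pow_of_hasType [FiniteDimensional F V] {g : orth Q} {μ : Multiset ℕ} (hg : HasType g μ)
    {p : ℕ} (h : ∀ e ∈ μ, e ≤ p) (hd : finrank F V = μ.sum) : nil g ^ p = 0 :=
  LinearMap.ker_eq_top.1 (Submodule.eq_top_of_finrank_eq (by rw [hg, nul_eq_sum h, hd]))

theorem ne_one_of_hasType [FiniteDimensional F V] {g : orth Q} {μ : Multiset ℕ} (hg : HasType g μ)
    (hd : finrank F V = μ.sum) {a : ℕ} (ha : a ∈ μ) (ha2 : 2 ≤ a) : g ≠ 1 := by
  rintro rfl
  have e := hg 1
  rw [pow_one, show nil (1 : orth Q) = 0 from LinearMap.ext fun x => sub_self x, LinearMap.ker_zero,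
    finrank_top, hd] at e
  obtain ⟨μ', rfl⟩ := Multiset.exists_cons_of_mem ha
  have := nul_le_sum μ' 1
  simp only [JType.nul, Multiset.map_cons, Multiset.sum_cons] at e this
  omega

end Cfsg.Agent.OrthFix
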