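import Cfsg.Agent.OrthFix.JordanReal
import Cfsg.Agent.OrthFix.CharTwoRows

/-!
Partitions contained in the Jordan types of elements fixing a subspace.
-/

set_option autoImplicit false
set_option linter.unusedSectionVars false
set_option linter.style.haveILetI false

namespace Cfsg.Agent.OrthFix

open QuadraticMap Module
open Cfsg.Agent.UnitaryOrthogonal (PolarND orth)

universe u v

variable {F : Type u} [Field F] [Fintype F]
variable {V : Type v} [AddCommGroup V] [Module F V] [FiniteDimensional F V] [Finite V]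
  {Q : QuadraticForm F V}

/-- If every unipotent element fixes an `m`-space, every type contains a type of weight `m`. -/
theorem exists_part {p : ℕ} [Fact p.Prime] [CharP F p] (hp : Odd p) (h2 : (2 : F) ≠ 0) (hQ : PolarND Q)
    {εV : ℤ} (hs : Sig Q εV) {m : ℕ} (hme : Even m) (hmn : m ≤ finrank F V)
    (H : ∀ g : orth Q, g ^ p = 1 → g ≠ 1 → ∃ W : Submodule F V, (finrank F W = m ∧ NDOn Q W) ∧
      ∀ x ∈ W, g.1 x ∈ W)
    (μ : Multiset ℕ) (hμ : ∀ e ∈ μ, 0 < e ∧ e ≤ p) (hpar : ∀ e : ℕ, Even e → Even (μ.count e))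
    (hsum : μ.sum = finrank F V) :
    ∃ ν : Multiset ℕ, ν ≤ μ ∧ ν.sum = m ∧ ∀ e : ℕ, Even e → Even (ν.count e) := by
  classical
  have main : ∀ μ : Multiset ℕ, (∀ e ∈ μ, 0 < e ∧ e ≤ p) → (∀ e : ℕ, Even e → Even (μ.count e)) →
      μ.sum = finrank F V → (∃ o ∈ μ, Odd o) →
      ∃ ν : Multiset ℕ, ν ≤ μ ∧ ν.sum = m ∧ ∀ e : ℕ, Even e → Even (ν.count e) := by
    intro μ hμ hpar hsum ⟨o, ho, hodd⟩
    by_cases h1 : ∀ e ∈ μ, e = 1
    · obtain ⟨n, rfl⟩ : ∃ n, μ = Multiset.replicate n 1 := ⟨μ.card, Multiset.eq_replicate.2 ⟨rfl, h1⟩⟩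
      rw [Multiset.sum_replicate, smul_eq_mul, mul_one] at hsum
      refine ⟨Multiset.replicate m 1, (Multiset.replicate_le_replicate 1).2 (by omega), by simp,
        fun e he => ?_⟩
      rw [Multiset.count_replicate, if_neg (by rintro rfl; exact Nat.not_even_one he)]
      exact Even.zero
    push Not at h1
    obtain ⟨a, ha, ha1⟩ := h1
    obtain ⟨g, hg⟩ := exists_of_real (real_any h2 hpar ho hodd hs.unit) hQ hs hsum.symm
    have hN := nil_pow_of_hasType hg (fun e he => (hμ e he).2) hsum.symm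
    obtain ⟨W, ⟨hWd, hW⟩, hinv⟩ := H g ((nil_pow_eq_zero_iff g).1 hN)
      (ne_one_of_hasType hg hsum.symm ha (by have := (hμ a ha).1; omega))
    obtain ⟨ν, h3, h4, h5⟩ := exists_sub_type h2 hQ g hN (fun e he => (hμ e he).1) hg hW hinv
    exact ⟨ν, h3, h4.trans hWd, h5⟩
  by_cases hodd : ∃ o ∈ μ, Odd o
  · exact main μ hμ hpar hsum hodd
  push Not at hodd
  rcases μ.empty_or_exists_mem with rfl | ⟨e, he⟩
  · exact ⟨0, le_rfl, by simp at hsum ⊢; omega, fun _ _ => by simp⟩
  have hee : Even e := Nat.not_odd_iff_even.1 (hodd e he)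
  obtain ⟨μ₁, rfl⟩ := Multiset.exists_cons_of_mem he
  obtain ⟨ρ, rfl⟩ : ∃ ρ, μ₁ = e ::ₘ ρ := Multiset.exists_cons_of_mem (by
    have h := hpar e hee
    rw [Multiset.count_cons_self, Nat.even_add_one, Nat.not_even_iff_odd] at h
    exact Multiset.count_pos.1 h.pos)
  have hρ : ∀ x ∈ ρ, Even x := fun x hx => Nat.not_odd_iff_even.1 (hodd x (by simp [hx]))
  have hepos := (hμ e (by simp)).1
  have hep : e + 1 ≤ p := by
    have := (hμ e (by simp)).2
    rcases Nat.lt_or_ge e p with h | h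
    · omega
    · rw [le_antisymm this h] at hee
      exact absurd hee (Nat.not_even_iff_odd.2 hp)
  have hne : ∀ x, Even x → x ≠ e + 1 ∧ x ≠ e - 1 := fun x hx => by
    rw [Nat.even_iff] at hx hee; omega
  have hcount : ∀ x, Even x → ∀ ν : Multiset ℕ, ((e + 1) ::ₘ (e - 1) ::ₘ ν).count x = ν.count x :=
    fun x hx ν => by
      rw [Multiset.count_cons_of_ne (hne x hx).1, Multiset.count_cons_of_ne (hne x hx).2]
  have hcount2 : ∀ x, ∀ ν : Multiset ℕ, Even ((e ::ₘ e ::ₘ ν).count x) ↔ Even (ν.count x) := fun x ν => by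
    by_cases hx : x = e
    · subst hx
      rw [Multiset.count_cons_self, Multiset.count_cons_self, Nat.even_add_one, Nat.even_add_one, not_not]
    · rw [Multiset.count_cons_of_ne hx, Multiset.count_cons_of_ne hx]
  obtain ⟨ν, hν, hνs, hνp⟩ := main ((e + 1) ::ₘ (e - 1) ::ₘ ρ)
    (fun x hx => by
      simp only [Multiset.mem_cons] at hx
      rcases hx with rfl | rfl | hx
      · exact ⟨by omega, hep⟩
      · rw [Nat.even_iff] at hee; exact ⟨by omega, by omega⟩
      · exact hμ x (by simp [hx]))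
    (fun x hx => by rw [hcount x hx]; exact (hcount2 x ρ).1 (hpar x hx))
    (by simp only [Multiset.sum_cons] at hsum ⊢; omega) ⟨e + 1, by simp, hee.add_one⟩
  have hsumρ : ∀ ν₁ ≤ ρ, ν₁.sum % 2 = 0 := fun ν₁ h => by
    rw [← Nat.even_iff]
    exact even_iff_two_dvd.2 (Multiset.dvd_sum fun x hx => (hρ x (Multiset.mem_of_le h hx)).two_dvd)
  rw [Nat.even_iff] at hme hee
  by_cases ha : e + 1 ∈ ν
  · obtain ⟨ν₁, rfl⟩ := Multiset.exists_cons_of_mem ha
    have h1 := (Multiset.cons_le_cons_iff _).1 hν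
    by_cases hb : e - 1 ∈ ν₁
    · obtain ⟨ν₂, rfl⟩ := Multiset.exists_cons_of_mem hb
      have h2 := (Multiset.cons_le_cons_iff _).1 h1
      refine ⟨e ::ₘ e ::ₘ ν₂, Multiset.cons_le_cons _ (Multiset.cons_le_cons _ h2), ?_, fun x hx => ?_⟩
      · simp only [Multiset.sum_cons] at hνs ⊢; omega
      · rw [hcount2, ← hcount x hx]; exact hνp x hx
    · have := hsumρ ν₁ ((Multiset.le_cons_of_notMem hb).1 h1)
      simp only [Multiset.sum_cons] at hνs
      omega
  · have h1 := (Multiset.le_cons_of_notMem ha).1 hν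
    by_cases hb : e - 1 ∈ ν
    · obtain ⟨ν₁, rfl⟩ := Multiset.exists_cons_of_mem hb
      have := hsumρ ν₁ ((Multiset.cons_le_cons_iff _).1 h1)
      simp only [Multiset.sum_cons] at hνs
      omega
    · exact ⟨ν, ((Multiset.le_cons_of_notMem hb).1 h1).trans ((Multiset.le_cons_self _ _).trans
        (Multiset.le_cons_self _ _)), hνs, hνp⟩

/-- A part of even weight of `c` twos and the odd parts in `s`. -/
theorem mod_four_of_part {m : ℕ} (hme : Even m) {k : ℕ} {s ν : Multiset ℕ}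
    (hs : ∀ σ ≤ s, Even σ.sum → 4 ∣ σ.sum) (h2 : 2 ∉ s) (hν : ν ≤ s + Multiset.replicate k 2)
    (hνs : ν.sum = m) (hνp : ∀ e : ℕ, Even e → Even (ν.count e)) : m % 4 = 0 := by
  classical
  have hsplit := (Multiset.filter_add_not (fun x => x = 2) ν).symm
  rw [Multiset.filter_eq'] at hsplit
  set σ := Multiset.filter (fun x => ¬ x = 2) ν
  have hσ : σ ≤ s := Multiset.le_iff_count.2 fun x => by
    have h := Multiset.le_iff_count.1 hν x
    rw [Multiset.count_add, Multiset.count_replicate] at h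
    by_cases hx : x = 2
    · subst hx
      rw [Multiset.count_eq_zero.2 (fun h => by simp [σ] at h)]
      exact Nat.zero_le _
    · rw [if_neg (Ne.symm hx)] at h
      rw [Multiset.count_filter_of_pos (p := fun x => ¬ x = 2) hx]
      omega
  obtain ⟨c, hc⟩ := hνp 2 even_two
  rw [hsplit, Multiset.sum_add, Multiset.sum_replicate, smul_eq_mul, hc] at hνs
  obtain ⟨t, ht⟩ := hme
  have := hs σ hσ (by rw [Nat.even_iff]; omega)
  omega

end Cfsg.Agent.OrthFix
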