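import Mathlib
import Cfsg.Agent.Lib.UnitaryOrthogonal.Standard

/-!
The two kernels governing level counts of non-degenerate quadratic forms over a finite field, and
their convolution.
-/

set_option autoImplicit false
set_option linter.unusedSectionVars false

namespace Cfsg.Agent.OrthFix

open Finset QuadraticMap
open Cfsg.Agent.UnitaryOrthogonal (level)

variable {F : Type*} [Field F] [Fintype F]

open scoped Classical in
/-- The quadratic character with values in `ℤ`. -/
noncomputable def chi (a : F) : ℤ := quadraticChar F a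

open scoped Classical in
/-- `q δ(a) - 1`. -/
noncomputable def nu (a : F) : ℤ := if a = 0 then (Fintype.card F : ℤ) - 1 else -1

open scoped Classical in
/-- The deviation of the level count of an `n`-dimensional form from the mean. -/
noncomputable def kern (n : ℕ) (a : F) : ℤ :=
  if Even n then nu a * (Fintype.card F : ℤ) ^ (n / 2)
  else chi a * (Fintype.card F : ℤ) ^ (n / 2 + 1)

/-- The sign by which the types of two orthogonal summands combine. -/
noncomputable def sig (F : Type*) [Field F] [Fintype F] (n n' : ℕ) : ℤ :=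
  if Odd n ∧ Odd n' then chi (-1 : F) else 1

theorem kern_even {n : ℕ} (h : Even n) (a : F) :
    kern n a = nu a * (Fintype.card F : ℤ) ^ (n / 2) := if_pos h

theorem kern_odd {n : ℕ} (h : Odd n) (a : F) :
    kern n a = chi a * (Fintype.card F : ℤ) ^ (n / 2 + 1) := if_neg (Nat.not_even_iff_odd.2 h)

@[simp] theorem chi_zero : chi (0 : F) = 0 := by simp [chi]
@[simp] theorem chi_one : chi (1 : F) = 1 := by simp [chi]
theorem chi_mul (a b : F) : chi (a * b) = chi a * chi b := by simp [chi, map_mul]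

theorem chi_eq_or {a : F} (ha : a ≠ 0) : chi a = 1 ∨ chi a = -1 := by
  classical
  exact quadraticChar_dichotomy ha

theorem chi_mul_self {a : F} (ha : a ≠ 0) : chi a * chi a = 1 := by
  rcases chi_eq_or ha with h | h <;> simp [h]

theorem ringChar_ne_two (h2 : (2 : F) ≠ 0) : ringChar F ≠ 2 := fun h => by
  have := ringChar.of_eq h
  exact h2 CharTwo.two_eq_zero

theorem exists_chi_neg_one (h2 : (2 : F) ≠ 0) : ∃ a : F, a ≠ 0 ∧ chi a = -1 := by
  classical
  obtain ⟨a, ha⟩ := quadraticChar_exists_neg_one (ringChar_ne_two h2)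
  refine ⟨a, ?_, ha⟩
  rintro rfl
  simp at ha

theorem chi_eq_iff {a b : F} (_h2 : (2 : F) ≠ 0) (ha : a ≠ 0) (hb : b ≠ 0) :
    chi a = chi b → ∃ s, s ≠ 0 ∧ b = a * s ^ 2 := by
  classical
  intro h
  have : chi (b / a) = 1 := by
    have e : chi (b / a) * chi a = chi b := by rw [← chi_mul, div_mul_cancel₀ b ha]
    rcases chi_eq_or ha with h' | h' <;> rw [h'] at e <;> rw [← h, h'] at e <;> linarith
  obtain ⟨s, hs⟩ := (quadraticChar_one_iff_isSquare (div_ne_zero hb ha)).1 this
  refine ⟨s, fun h0 => div_ne_zero hb ha (by rw [hs, h0, zero_mul]), ?_⟩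
  rw [pow_two, ← hs, mul_div_cancel₀ b ha]

theorem sum_chi (h2 : (2 : F) ≠ 0) : ∑ a : F, chi a = 0 := by
  classical
  exact quadraticChar_sum_zero (ringChar_ne_two h2)

theorem sum_nu : ∑ a : F, nu a = 0 := by
  classical
  have h : ∀ a : F, nu a = (if a = 0 then (Fintype.card F : ℤ) else 0) - 1 := fun a => by
    simp only [nu]; split_ifs <;> ring
  simp [h, sum_sub_distrib]

theorem sum_nu_mul (f : F → ℤ) (c : F) :
    ∑ x, nu x * f (c - x) = Fintype.card F * f c - ∑ x, f x := by
  classical
  have h : ∀ x : F, nu x * f (c - x) =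
      (if x = 0 then (Fintype.card F : ℤ) * f c else 0) - f (c - x) := fun x => by
    simp only [nu]
    split_ifs with hx
    · subst hx; rw [sub_zero]; ring
    · ring
  simp only [h, sum_sub_distrib, sum_ite_eq', mem_univ, if_true]
  congr 1
  exact Equiv.sum_comp (Equiv.subLeft c) f

theorem sum_chi_mul_chi (h2 : (2 : F) ≠ 0) (c : F) :
    ∑ x, chi x * chi (c - x) = chi (-1 : F) * nu c := by
  classical
  by_cases hc : c = 0
  · subst hc
    have h : ∀ x : F, chi x * chi (0 - x) = chi (-1 : F) * (if x = 0 then 0 else 1) := fun x => by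
      by_cases hx : x = 0
      · simp [hx]
      · rw [if_neg hx, zero_sub, ← neg_one_mul x, chi_mul]
        linear_combination (chi (-1 : F)) * chi_mul_self hx
    simp only [h, ← mul_sum, nu, if_true, sum_ite, sum_const_zero, zero_add, sum_const, nsmul_one]
    congr 1
    have : (univ.filter fun x : F => ¬ x = 0).card = Fintype.card F - 1 := by
      rw [filter_ne', card_erase_of_mem (mem_univ _), card_univ]
    rw [this, Nat.cast_sub Fintype.card_pos]
    simp
  · have e : ∑ x, chi x * chi (c - x) = ∑ y : F, chi y * chi (1 - y) := by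
      refine (Fintype.sum_equiv (Equiv.mulLeft₀ c hc) _ _ fun y => ?_).symm
      rw [show (Equiv.mulLeft₀ c hc) y = c * y from rfl,
        show c - c * y = c * (1 - y) by ring, chi_mul, chi_mul]
      linear_combination (-(chi y * chi (1 - y))) * chi_mul_self hc
    rw [e, nu, if_neg hc]
    have hj := jacobiSum_nontrivial_inv (quadraticChar_ne_one (ringChar_ne_two h2))
    rw [(quadraticChar_isQuadratic F).inv] at hj
    rw [jacobiSum] at hj
    simpa [chi] using hj

theorem sum_kern {n : ℕ} (h : Odd n → (2 : F) ≠ 0) : ∑ a : F, kern n a = 0 := by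
  rcases Nat.even_or_odd n with hn | hn
  · simp only [kern_even hn, ← sum_mul, sum_nu, zero_mul]
  · simp only [kern_odd hn, ← sum_mul, sum_chi (h hn), zero_mul]

theorem sum_factor (f g : F → ℤ) (A B : ℤ) :
    ∑ x, f x * A * (g x * B) = (∑ x, f x * g x) * (A * B) := by
  rw [sum_mul]
  exact sum_congr rfl fun x _ => by ring

theorem kern_conv {n n' : ℕ} (h : Odd n → (2 : F) ≠ 0) (h' : Odd n' → (2 : F) ≠ 0) (c : F) :
    ∑ x, kern n x * kern n' (c - x) = Fintype.card F * sig F n n' * kern (n + n') c := by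
  rcases Nat.even_or_odd n with hn | hn <;> rcases Nat.even_or_odd n' with hn' | hn'
  · obtain ⟨a, rfl⟩ := hn
    obtain ⟨b, rfl⟩ := hn'
    have hs : sig F (a + a) (b + b) = 1 := if_neg fun h => Nat.not_odd_iff_even.2 ⟨a, rfl⟩ h.1
    simp only [kern_even (⟨a, rfl⟩ : Even (a + a)), kern_even (⟨b, rfl⟩ : Even (b + b)),
      kern_even (⟨a + b, by ring⟩ : Even (a + a + (b + b))), hs]
    rw [show (a + a) / 2 = a by omega, show (b + b) / 2 = b by omega,
      show (a + a + (b + b)) / 2 = a + b by omega]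
    have := sum_nu_mul (F := F) nu c
    rw [sum_nu, sub_zero] at this
    rw [sum_factor nu (fun x => _), this]
    ring
  · obtain ⟨a, rfl⟩ := hn
    have hs : sig F (a + a) n' = 1 := if_neg fun h => Nat.not_odd_iff_even.2 ⟨a, rfl⟩ h.1
    obtain ⟨b, rfl⟩ := hn'
    simp only [kern_even (⟨a, rfl⟩ : Even (a + a)), kern_odd (⟨b, rfl⟩ : Odd (2 * b + 1)),
      kern_odd (⟨a + b, by ring⟩ : Odd (a + a + (2 * b + 1))), hs]
    rw [show (a + a) / 2 = a by omega, show (2 * b + 1) / 2 = b by omega,
      show (a + a + (2 * b + 1)) / 2 = a + b by omega]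
    have := sum_nu_mul (F := F) chi c
    rw [sum_chi (h' ⟨b, rfl⟩), sub_zero] at this
    rw [sum_factor nu (fun x => _), this]
    ring
  · obtain ⟨b, rfl⟩ := hn'
    have hs : sig F n (b + b) = 1 := if_neg fun h => Nat.not_odd_iff_even.2 ⟨b, rfl⟩ h.2
    obtain ⟨a, rfl⟩ := hn
    simp only [kern_odd (⟨a, rfl⟩ : Odd (2 * a + 1)), kern_even (⟨b, rfl⟩ : Even (b + b)),
      kern_odd (⟨a + b, by ring⟩ : Odd (2 * a + 1 + (b + b))), hs]
    rw [show (2 * a + 1) / 2 = a by omega, show (b + b) / 2 = b by omega,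
      show (2 * a + 1 + (b + b)) / 2 = a + b by omega]
    have := sum_nu_mul (F := F) chi c
    rw [sum_chi (h ⟨a, rfl⟩), sub_zero] at this
    rw [← Equiv.sum_comp (Equiv.subLeft c)]
    simp only [Equiv.subLeft_apply, sub_sub_cancel]
    have e : ∀ x : F, chi (c - x) * (Fintype.card F : ℤ) ^ (a + 1) *
        (nu x * (Fintype.card F : ℤ) ^ b) =
        nu x * chi (c - x) * ((Fintype.card F : ℤ) ^ (a + 1) * (Fintype.card F : ℤ) ^ b) :=
      fun x => by ring
    simp only [e, ← sum_mul, this]
    ring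
  · have hs : sig F n n' = chi (-1 : F) := if_pos ⟨hn, hn'⟩
    obtain ⟨a, rfl⟩ := hn
    obtain ⟨b, rfl⟩ := hn'
    simp only [kern_odd (⟨a, rfl⟩ : Odd (2 * a + 1)), kern_odd (⟨b, rfl⟩ : Odd (2 * b + 1)),
      kern_even (⟨a + b + 1, by ring⟩ : Even (2 * a + 1 + (2 * b + 1))), hs]
    rw [show (2 * a + 1) / 2 = a by omega, show (2 * b + 1) / 2 = b by omega,
      show (2 * a + 1 + (2 * b + 1)) / 2 = a + b + 1 by omega]
    rw [sum_factor chi (fun x => _), sum_chi_mul_chi (h ⟨a, rfl⟩)]
    ring

theorem sig_even_left {n n' : ℕ} (h : Even n) : sig F n n' = 1 :=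
  if_neg fun h' => Nat.not_odd_iff_even.2 h h'.1

theorem sig_even_right {n n' : ℕ} (h : Even n') : sig F n n' = 1 :=
  if_neg fun h' => Nat.not_odd_iff_even.2 h h'.2

theorem sig_mul_self (n n' : ℕ) : sig F n n' * sig F n n' = 1 := by
  unfold sig
  split_ifs
  · exact chi_mul_self (neg_ne_zero.2 one_ne_zero)
  · rfl

end Cfsg.Agent.OrthFix
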