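import Cfsg.Agent.OrthFix.Imag
import Cfsg.Agent.OrthFix.Translate
import Cfsg.Agent.Forms59.CharTwo
import Cfsg.Agent.Forms59.Spinor

/-!
Elements of order two modulo scalars, in odd characteristic.
-/

set_option autoImplicit false
set_option linter.unusedSectionVars false

namespace Cfsg.Agent.OrthFix

open QuadraticMap
open Cfsg.Agent.UnitaryOrthogonal (PolarND orth isometryGroupEquiv form_smul)

variable {F : Type*} [Field F] [Fintype F] {ι : Type} [Fintype ι] [DecidableEq ι]
  {Q : QuadraticForm F (ι → F)} {f : (ι → F) → F}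

theorem toOrth_reflProd : ∀ (vs : List (ι → F)), (∀ v ∈ vs, Q v ≠ 0) →
    Forms59.toOrth Q (Forms59.reflProd Q vs) = (vs.map (UnitaryOrthogonal.rf Q)).prod
  | [], _ => map_one _
  | v :: vs, h => by
    rw [Forms59.reflProd_cons, map_mul, Forms59.toOrth_refl (h v (by simp)),
      toOrth_reflProd vs fun u hu => h u (List.mem_cons_of_mem _ hu)]
    rfl

/-- An isometry with square minus one lies in `Ω` exactly when `2 ^ d` is a square. -/
theorem imag_mem_omega_iff (hQ : PolarND Q) (h2 : (2 : F) ≠ 0) {d : ℕ}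
    (hn : Module.finrank F (ι → F) = 2 * d) (hd : 1 ≤ d) (h : isometryGroup F ⇑Q)
    (hh : ∀ x, (Forms59.toOrth Q h).1 ((Forms59.toOrth Q h).1 x) = -x) :
    h ∈ Omega F ⇑Q ↔ chi (2 : F) ^ d = 1 := by
  classical
  obtain ⟨k, hk, -, -, vs, hvs, hlen, hprod, hact⟩ :=
    imag_struct h2 (Forms59.toOrth Q h) _ ⊤ rfl (ndOn_top hQ) (fun _ _ => trivial) (fun x _ => hh x)
  rw [finrank_top] at hk
  obtain rfl : k = d := by omega
  have hvs' : ∀ v ∈ vs, Q v ≠ 0 := fun v hv => (hvs v hv).2
  have he : h = Forms59.reflProd Q vs := (Forms59.toOrth Q).injective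
    (UnitaryOrthogonal.orth_ext fun x => by rw [toOrth_reflProd vs hvs']; exact (hact x trivial).symm)
  have hne : (vs.map fun v => Q v).prod ≠ 0 := by
    refine List.prod_ne_zero fun h0 => ?_
    obtain ⟨v, hv, hv0⟩ := List.mem_map.1 h0
    exact hvs' v hv hv0
  rw [he, Forms59.reflProd_mem_omega_iff h2 (nondegenerate_of_polarND hQ)
    (by rw [← Module.finrank_fintype_fun_eq_card F, hn]; omega) vs hvs', ← hprod, hlen]
  exact (and_iff_right (even_two_mul k)).trans (quadraticChar_one_iff_isSquare hne).symm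

/-- All elements of order two modulo scalars fix a subspace of the given kind, or not. -/
theorem forall_two_iff (hf : ⇑Q = f) (hQ : PolarND Q) (h2 : (2 : F) ≠ 0) {d : ℕ}
    (hn : Module.finrank F (ι → F) = 2 * d) (hd : 3 ≤ d) {εV : ℤ} (hs : Sig Q εV) {m : ℕ}
    (hm0 : 0 < m) (hm : m < 2 * d) {ε : ℤ} (hε : ε = 1 ∨ ε = -1)
    {P : Submodule F (ι → F) → Prop} (hk : IsKind Q m ε P) :
    (∀ x : GL ι F, x ∈ Geo.omegaGL f →
      (∃ z : F, ((x ^ 2 : GL ι F) : Matrix ι ι F) = z • (1 : Matrix ι ι F)) →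
      (∀ z : F, (x : Matrix ι ι F) ≠ z • (1 : Matrix ι ι F)) →
      ∃ W, P W ∧ W.map (Matrix.toLin' (x : Matrix ι ι F)) ≤ W) ↔
    (¬ (εV = chi (-1 : F) ^ d ∧ chi (2 : F) ^ d = 1) ∨
      (Even m ∧ ε = chi (-1 : F) ^ (m / 2))) := by
  subst hf
  have htop : Module.finrank F (⊤ : Submodule F (ι → F)) = 2 * d := by rw [finrank_top, hn]
  have hne : Nonempty ι := by
    rw [← Fintype.card_pos_iff, ← Module.finrank_fintype_fun_eq_card F, hn]
    omega
  obtain ⟨j⟩ := hne
  have he : (Pi.single j (1 : F) : ι → F) ≠ 0 := by simp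
  obtain ⟨v, hv⟩ := exists_form_ne_zero hQ he
  constructor
  · intro H
    rw [or_iff_not_imp_left, not_not]
    rintro ⟨hV, hsq⟩
    obtain ⟨g, -, hg2, -⟩ := exists_imag h2 d (ndOn_top hQ) htop (hV ▸ sigOn_top hs)
    obtain ⟨h, rfl⟩ := (Forms59.toOrth Q).surjective g
    have hh := fun x => hg2 x trivial
    have hmat : ∀ x, Matrix.toLin' ((h : GL ι F) : Matrix ι ι F) x = (Forms59.toOrth Q h).1 x :=
      fun x => rfl
    obtain ⟨W, hW, hinv⟩ := H (h : GL ι F)
      ⟨h, (imag_mem_omega_iff hQ h2 hn (by omega) h hh).2 hsq, rfl⟩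
      ⟨-1, by
        refine Matrix.toLin'.injective (LinearMap.ext fun x => ?_)
        rw [pow_two, Units.val_mul, Matrix.toLin'_mul, LinearMap.comp_apply, hmat, hmat, hh, map_smul,
          Matrix.toLin'_one, LinearMap.smul_apply, LinearMap.id_apply, neg_one_smul]⟩
      (fun z hz => by
        have h1 : ∀ x, (Forms59.toOrth Q h).1 x = z • x := fun x => by
          rw [← hmat, hz, map_smul, Matrix.toLin'_one, LinearMap.smul_apply, LinearMap.id_apply]
        have h3 := polar_apply_self h2 (hh v)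
        rw [h1, polar_smul_right, UnitaryOrthogonal.polar_self_eq, smul_eq_mul] at h3
        have hz0 : z = 0 := by simpa [h2, hv] using h3
        have h4 := hh v
        rw [h1, hz0, zero_smul, eq_comm, neg_eq_zero] at h4
        exact hv (by rw [h4, QuadraticMap.map_zero]))
    obtain ⟨hWd, hWn, hWs⟩ := (hk W).1 hW
    obtain ⟨k, hkm, hks, -, -⟩ := imag_struct h2 (Forms59.toOrth Q h) _ W rfl hWn
      (fun x hx => hinv ⟨x, hx, hmat x⟩) (fun x _ => hh x)
    rw [hWd] at hkm
    refine ⟨⟨k, by omega⟩, ?_⟩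
    rw [hWs.unique hks, hkm, Nat.mul_div_cancel_left k two_pos]
  · rintro H _ ⟨h, hh, rfl⟩ ⟨z, hz⟩ hns
    have hmat : ∀ x, Matrix.toLin' ((h : GL ι F) : Matrix ι ι F) x = (Forms59.toOrth Q h).1 x :=
      fun x => rfl
    have hz' : (((h : GL ι F) ^ 2 : GL ι F) : Matrix ι ι F) = z • (1 : Matrix ι ι F) := hz
    have h1 : ∀ x, (Forms59.toOrth Q h).1 ((Forms59.toOrth Q h).1 x) = z • x := fun x => by
      rw [← hmat, ← hmat, ← LinearMap.comp_apply, ← Matrix.toLin'_mul, ← Units.val_mul, ← pow_two,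
        hz', map_smul, Matrix.toLin'_one, LinearMap.smul_apply, LinearMap.id_apply]
    have hz1 : z * z = 1 := by
      have e := congrArg (fun y => Q y) (h1 v)
      simp only [UnitaryOrthogonal.map_form, form_smul] at e
      exact (mul_eq_right₀ hv).1 e.symm
    rcases mul_self_eq_one_iff.1 hz1 with rfl | rfl
    · have hg : Forms59.toOrth Q h ^ 2 = 1 := UnitaryOrthogonal.orth_ext fun x => by
        rw [pow_two, UnitaryOrthogonal.coe_mul_apply, h1, one_smul]; rfl
      obtain ⟨W, hW, hinv⟩ := exists_fixed_invol hQ h2 hg (by omega) hm0 (by omega) hε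
      exact ⟨W, (hk W).2 hW, (invariant_iff rfl h W).2 hinv⟩
    · have hneg : ∀ x, (Forms59.toOrth Q h).1 ((Forms59.toOrth Q h).1 x) = -x := fun x => by
        rw [h1, neg_one_smul]
      obtain ⟨k, hk', hks, hM, -⟩ := imag_struct h2 (Forms59.toOrth Q h) _ ⊤ rfl (ndOn_top hQ)
        (fun _ _ => trivial) (fun x _ => hneg x)
      rw [htop] at hk'
      obtain rfl : k = d := by omega
      have hJ : εV = chi (-1 : F) ^ k ∧ chi (2 : F) ^ k = 1 :=
        ⟨(sigOn_top hs).unique hks, (imag_mem_omega_iff hQ h2 hn (by omega) h hneg).1 hh⟩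
      obtain ⟨⟨t, ht⟩, hεm⟩ := H.resolve_left (not_not.2 hJ)
      obtain ⟨M, -, hMi, hMn, hMd⟩ := hM t (by omega)
      obtain ⟨t', ht', hMs, -, -⟩ := imag_struct h2 (Forms59.toOrth Q h) _ M rfl hMn hMi
        (fun x _ => hneg x)
      rw [hMd] at ht'
      obtain rfl : t' = t := by omega
      exact ⟨M, (hk M).2 ⟨by omega, hMn, by
        rw [hεm, show m / 2 = t' by omega]; exact hMs⟩, (invariant_iff rfl h M).2 hMi⟩

theorem chi_neg_one_eq (h2 : (2 : F) ≠ 0) :
    chi (-1 : F) = if Fintype.card F % 4 = 3 then -1 else 1 := by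
  classical
  split_ifs with h
  · exact quadraticChar_neg_one_iff_not_isSquare.2 fun hs => FiniteField.isSquare_neg_one_iff.1 hs h
  · exact (quadraticChar_one_iff_isSquare (neg_ne_zero.2 one_ne_zero)).2
      (FiniteField.isSquare_neg_one_iff.2 h)

theorem chi_two_eq (h2 : (2 : F) ≠ 0) :
    chi (2 : F) = if Fintype.card F % 8 = 3 ∨ Fintype.card F % 8 = 5 then -1 else 1 := by
  classical
  split_ifs with h
  · refine quadraticChar_neg_one_iff_not_isSquare.2 fun hs => ?_
    have := FiniteField.isSquare_two_iff.1 hs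
    omega
  · exact (quadraticChar_one_iff_isSquare h2).2 (FiniteField.isSquare_two_iff.2 (by omega))

end Cfsg.Agent.OrthFix
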