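import Cfsg.Agent.OrthFix.Std
import Cfsg.Agent.OrthFix.ScalarTwo
import Cfsg.Agent.OrthFix.UnipotentExists
import Cfsg.Agent.Classical10.NotMax.Orth

/-!
Shared pieces of the statements on fixed non-degenerate subspaces.
-/

set_option autoImplicit false
set_option linter.unusedSectionVars false
set_option linter.style.haveILetI false

namespace Cfsg.Agent.OrthFix

open QuadraticMap
open Cfsg.Agent.UnitaryOrthogonal (PolarND orth eichGroup isometryGroupEquiv form_add form_smul)

universe u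

variable {F : Type u} [Field F] [Fintype F] {ι : Type} [Fintype ι] [DecidableEq ι]
  {Q : QuadraticForm F (ι → F)} {f : (ι → F) → F}

/-- The members of one isometry class. -/
theorem isKind_class (hf : ⇑Q = f) {W₀ : Submodule F (ι → F)} {m : ℕ} {ε : ℤ}
    (hd : Module.finrank F W₀ = m) (hn : Geo.IsNondegenerateOn (polar f) W₀) (hs : SigOn Q W₀ ε) :
    IsKind Q m ε fun W => Module.finrank F W = m ∧ Geo.IsNondegenerateOn (polar f) W ∧
      Geo.AreIsometricFor f W W₀ := fun W => by
  dsimp only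
  rw [isNondegenerateOn_iff hf] at hn ⊢
  subst hf
  constructor
  · rintro ⟨a, b, e, he⟩
    refine ⟨a, b, Sig.congr hs (QuadraticMap.IsometryEquiv.symm ?_)⟩
    exact { e with map_app' := fun w => he w }
  · rintro ⟨a, b, c⟩
    obtain ⟨i⟩ := Sig.isometric b hn c hs (a.trans hd.symm)
    exact ⟨a, b, i.toLinearEquiv, fun w => i.map_app w⟩

/-- A unipotent isometry with no fixed subspace of the kind gives a bad element of `Ω`. -/
theorem not_forall_scalar_of_witness {p : ℕ} [Fact p.Prime] [CharP F p] (hf : ⇑Q = f)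
    (hQ : PolarND Q) (h5 : 5 ≤ Fintype.card ι) {g : orth Q} (hg : g ∈ eichGroup Q)
    (hgp : g ^ p = 1) (hg1 : g ≠ 1) {m : ℕ} {ε : ℤ} {P : Submodule F (ι → F) → Prop}
    (hk : IsKind Q m ε P)
    (hno : ∀ W : Submodule F (ι → F), Module.finrank F W = m → NDOn Q W → SigOn Q W ε → (∀ x ∈ W, g.1 x ∈ W) → False) :
    ¬ ∀ x : GL ι F, x ∈ Geo.omegaGL f →
      (∃ z : F, ((x ^ p : GL ι F) : Matrix ι ι F) = z • (1 : Matrix ι ι F)) →
      (∀ z : F, (x : Matrix ι ι F) ≠ z • (1 : Matrix ι ι F)) →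
      ∃ W, P W ∧ W.map (Matrix.toLin' (x : Matrix ι ι F)) ≤ W := by
  subst hf
  intro H
  obtain ⟨x, hx, hxg⟩ := NotMax.exists_omega hQ h5 hg
  have hlin : ∀ y, Matrix.toLin' (x : Matrix ι ι F) y = g.1 y := fun y => by
    rw [Matrix.toLin'_apply, hxg]
  have hpow : ∀ (n : ℕ) (y : ι → F), Matrix.toLin' ((x ^ n : GL ι F) : Matrix ι ι F) y = (g ^ n).1 y := by
    intro n
    induction n with
    | zero => intro y; simp
    | succ n ih =>
      intro y
      rw [pow_succ, Units.val_mul, Matrix.toLin'_mul, LinearMap.comp_apply, hlin, ih, pow_succ]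
      rfl
  obtain ⟨W, hW, hinv⟩ := H x hx
    ⟨1, Matrix.toLin'.injective (LinearMap.ext fun y => by
      rw [hpow, hgp, one_smul, Matrix.toLin'_one]; rfl)⟩
    (fun z hz => hg1 (by
      have hgz : ∀ y, g.1 y = z • y := fun y => by
        rw [← hlin, hz, map_smul, Matrix.toLin'_one, LinearMap.smul_apply, LinearMap.id_apply]
      have hpz : ∀ (n : ℕ) (y : ι → F), (g ^ n).1 y = z ^ n • y := by
        intro n
        induction n with
        | zero => intro y; simp
        | succ n ih => intro y; rw [pow_succ, UnitaryOrthogonal.coe_mul_apply, ih, hgz, smul_smul, pow_succ]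
      have hne : Nonempty ι := Fintype.card_pos_iff.1 (by omega)
      obtain ⟨j⟩ := hne
      have h1 : z ^ p = 1 := by
        have e := congrFun (hpz p (Pi.single j 1)) j
        rw [hgp, UnitaryOrthogonal.coe_one_apply] at e
        simpa using e.symm
      have h2 : z = 1 := by
        have e : (z - 1) ^ p = 0 := by rw [sub_pow_char, h1, one_pow, sub_self]
        exact sub_eq_zero.1 (pow_eq_zero_iff (Fact.out : p.Prime).ne_zero |>.1 e)
      exact UnitaryOrthogonal.orth_ext fun y => by rw [hgz, h2, one_smul]; rfl))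
  obtain ⟨a, b, c⟩ := (hk W).1 hW
  exact hno W a b c fun y hy => hinv ⟨y, hy, hlin y⟩

theorem mod_mod_two {c : ℕ} (hc : Even c) (m : ℕ) : m % c % 2 = m % 2 :=
  Nat.mod_mod_of_dvd m hc.two_dvd

theorem neg_pow_eq_one {x : ℕ} : (-1 : ℤ) ^ x = 1 ↔ Even x :=
  neg_one_pow_eq_one_iff_even (by decide)

theorem neg_pow_eq_neg_one {x : ℕ} : (-1 : ℤ) ^ x = -1 ↔ Odd x := by
  rcases Nat.even_or_odd x with h | h
  · rw [h.neg_one_pow]
    exact iff_of_false (by decide) (Nat.not_odd_iff_even.2 h)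
  · rw [h.neg_one_pow]
    exact iff_of_true rfl h

theorem neg_pow_eq_iff {x y : ℕ} : (-1 : ℤ) ^ x = (-1) ^ y ↔ Even (x + y) := by
  rw [Nat.even_add]
  rcases Nat.even_or_odd y with h | h
  · rw [h.neg_one_pow, neg_pow_eq_one]; exact ⟨fun hx => iff_of_true hx h, fun e => e.2 h⟩
  · rw [h.neg_one_pow, neg_pow_eq_neg_one, ← Nat.not_even_iff_odd]
    exact ⟨fun hx => iff_of_false hx (Nat.not_even_iff_odd.2 h),
      fun e hx => Nat.not_even_iff_odd.2 h (e.1 hx)⟩

theorem one_eq_neg_pow {x : ℕ} : (1 : ℤ) = (-1) ^ x ↔ Even x := eq_comm.trans neg_pow_eq_one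

theorem neg_one_eq_neg_pow {x : ℕ} : (-1 : ℤ) = (-1) ^ x ↔ Odd x := eq_comm.trans neg_pow_eq_neg_one

theorem neg_neg_pow_eq_one {x : ℕ} : -((-1 : ℤ) ^ x) = 1 ↔ Odd x :=
  neg_eq_iff_eq_neg.trans neg_pow_eq_neg_one

theorem one_eq_neg_neg_pow {x : ℕ} : (1 : ℤ) = -((-1) ^ x) ↔ Odd x := eq_comm.trans neg_neg_pow_eq_one

theorem neg_one_eq_neg_neg_pow {x : ℕ} : (-1 : ℤ) = -((-1) ^ x) ↔ Even x :=
  neg_inj.trans one_eq_neg_pow

theorem neg_neg_pow_eq_pow {x y : ℕ} : -((-1 : ℤ) ^ x) = (-1) ^ y ↔ Odd (x + y) := by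
  rw [show -((-1 : ℤ) ^ x) = (-1) ^ (x + 1) by ring, neg_pow_eq_iff, ← Nat.not_even_iff_odd,
    show x + 1 + y = x + y + 1 by ring, Nat.even_add_one]

theorem neg_neg_pow_eq_neg_pow {x y : ℕ} : -((-1 : ℤ) ^ x) = -((-1) ^ y) ↔ Even (x + y) :=
  neg_inj.trans neg_pow_eq_iff

theorem one_eq_neg_one_iff : ((1 : ℤ) = -1) ↔ False := by simp

theorem neg_one_eq_one_iff : ((-1 : ℤ) = 1) ↔ False := by simp

theorem div_sum (c n m : ℕ) (hc : 0 < c) (h : m % c = n % c) :
    (n + m - 2 * (n % c)) / c = m / c + n / c := by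
  have e1 := Nat.div_add_mod n c
  have e2 := Nat.div_add_mod m c
  rw [show n + m - 2 * (n % c) = c * (m / c + n / c) by rw [Nat.mul_add]; omega,
    Nat.mul_div_cancel_left _ hc]

/-- In odd dimension, a unipotent isometry whose even invariant subspaces are all hyperbolic. -/
theorem exists_hyperbolic_only_odd {p : ℕ} [CharP F p] (hQ : PolarND Q)
    (h2 : (2 : F) ≠ 0) {εV : ℤ} (hs : Sig Q εV) {d : ℕ}
    (hd : Module.finrank F (ι → F) = 2 * d + 1) (hd2 : 2 ≤ d) :
    ∃ g : orth Q, g ∈ eichGroup Q ∧ g ^ p = 1 ∧ g ≠ 1 ∧ ∀ (W : Submodule F (ι → F)) (h : ℕ), NDOn Q W → (∀ x ∈ W, g.1 x ∈ W) →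
      Module.finrank F W = 2 * h → SigOn Q W 1 := by
  have hp : (p : F) = 0 := CharP.cast_eq_zero F p
  obtain ⟨T, P, t, hli, htT, hT, hP, hPs, hPd, hPT, hdis⟩ := exists_frame hQ hs (e := d) (by omega) (by omega)
  rcases Nat.even_or_odd d with ⟨a, ha⟩ | ⟨a, ha⟩
  · obtain ⟨g, h1, h2', h3, h4, h5, h6, h7, -, -⟩ := exists_two_step hQ hp hli htT hT
      (a := a) (by omega) (by omega)
    exact ⟨g, h1, h2', h3, fun W h hW hinv hWd =>
      hyperbolic_of_two_step h5 h4 (Or.inl (by omega)) hW hinv hWd⟩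
  · obtain ⟨w, hwP, hw⟩ := exists_mem_form_ne_zero hP (by omega)
    obtain ⟨g, h1, h2', h3, h4, h5, -, h7, -⟩ := exists_three_step hQ h2 hp hli htT hT hPT hdis
      (l := 1) (a := a) (w := fun _ => w) one_pos (by omega) (fun _ => hwP) (fun _ => hw)
      (fun i j h => absurd (Subsingleton.elim i j) h)
    have hle : Submodule.span F (Set.range t) ≤ fixS g :=
      Submodule.span_le.2 (by rintro _ ⟨j, rfl⟩; exact h7 j)
    have heq : Submodule.span F (Set.range t) = fixS g := Submodule.eq_of_le_of_finrank_le hle (by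
      rw [finrank_span_eq_card hli, Fintype.card_fin]; omega)
    have hts : ∀ x ∈ fixS g, Q x = 0 := fun x hx => by
      rw [← heq] at hx
      exact hT x ((Submodule.span_le.2 (by rintro _ ⟨j, rfl⟩; exact htT j) : _ ≤ T) hx)
    exact ⟨g, h1, h2', h3, fun W h hW hinv hWd => hyperbolic_of_three_step hts h5 hW hinv hWd⟩

/-- In plus type, a unipotent isometry whose even invariant subspaces are all hyperbolic. -/
theorem exists_hyperbolic_only_plus {p : ℕ} [CharP F p] (hQ : PolarND Q) (hs : Sig Q 1) {d : ℕ}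
    (hd : Module.finrank F (ι → F) = 2 * d) (hd2 : 2 ≤ d) :
    ∃ g : orth Q, g ∈ eichGroup Q ∧ g ^ p = 1 ∧ g ≠ 1 ∧ ∀ (W : Submodule F (ι → F)) (h : ℕ), NDOn Q W → (∀ x ∈ W, g.1 x ∈ W) →
      Module.finrank F W = 2 * h → SigOn Q W 1 := by
  have hp : (p : F) = 0 := CharP.cast_eq_zero F p
  obtain ⟨T, P, t, hli, htT, hT, -, -, -, -, -⟩ := exists_frame hQ hs (e := d) (by omega) (fun _ => rfl)
  obtain ⟨g, h1, h2', h3, h4, h5, h6, h7, -, h9⟩ := exists_two_step hQ hp hli htT hT
    (a := d / 2) (by omega) (by omega)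
  refine ⟨g, h1, h2', h3, fun W h hW hinv hWd => hyperbolic_of_two_step h5 h4 ?_ hW hinv hWd⟩
  rcases lt_or_ge (2 * (d / 2)) d with hlt | hge
  · exact Or.inr ⟨by omega, h9 hlt⟩
  · exact Or.inl (by omega)

/-- A unipotent isometry with no invariant subspace of a given odd dimension and sign. -/
theorem exists_avoid_odd {p : ℕ} [CharP F p] (hp2 : Odd p) (hQ : PolarND Q) (h2 : (2 : F) ≠ 0)
    {εV : ℤ} (hs : Sig Q εV) {d m : ℕ} (hd : Module.finrank F (ι → F) = 2 * d) (hd3 : 3 ≤ d)
    (hm : Odd m) {ε : ℤ} (hε : ε = 1 ∨ ε = -1) :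
    ∃ g : orth Q, g ∈ eichGroup Q ∧ g ^ p = 1 ∧ g ≠ 1 ∧ ∀ W : Submodule F (ι → F), Module.finrank F W = m → NDOn Q W →
      SigOn Q W ε → (∀ x ∈ W, g.1 x ∈ W) → False := by
  have hp : (p : F) = 0 := CharP.cast_eq_zero F p
  have hm2 := Nat.odd_iff.1 hm
  by_cases hfull : Even d ∧ εV = 1
  · obtain ⟨T, P, t, hli, htT, hT, -, -, -, -, -⟩ := exists_frame hQ hs (e := d) (by omega) (fun _ => hfull.2)
    obtain ⟨a, ha⟩ := hfull.1
    obtain ⟨g, h1, h2', h3, h4, h5, h6, h7, -, -⟩ := exists_two_step hQ hp hli htT hT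
      (a := a) (by omega) (by omega)
    have heq : mvS g = fixS g := Submodule.eq_of_le_of_finrank_le h4 (by omega)
    exact ⟨g, h1, h2', h3, fun W hWd hW _ hinv => Nat.not_even_iff_odd.2 hm
      (hWd ▸ even_of_two_step_full (fun x hx => h5 x (heq ▸ hx)) h5 hW hinv)⟩
  obtain ⟨T, P, t, hli, htT, hT, hP, hPs, hPd, hPT, hdis⟩ := exists_frame hQ hs (e := d - 1) (by omega)
    (by omega)
  rcases Nat.even_or_odd d with ⟨a', ha'⟩ | ⟨a', ha'⟩
  · -- `d` even, minus type: a block of size three and one of size one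
    have hV : εV = -1 := hs.unit.resolve_left fun h => hfull ⟨⟨a', ha'⟩, h⟩
    subst hV
    obtain ⟨δ, hδ, hδm⟩ : ∃ δ : ℤ, (δ = 1 ∨ δ = -1) ∧
        (if m % 4 = 3 then δ else -δ * chi (-1 : F)) = -ε := by
      split_ifs
      · exact ⟨-ε, by rcases hε with rfl | rfl <;> simp, rfl⟩
      · refine ⟨ε * chi (-1 : F), ?_, ?_⟩
        · rcases hε with rfl | rfl <;> rcases chi_eq_or (neg_ne_zero.2 (one_ne_zero (α := F))) with h | h <;>
            simp [h]
        · linear_combination (-ε) * chi_mul_self (neg_ne_zero.2 (one_ne_zero (α := F)))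
    obtain ⟨L, hLP, hLd, hL, hLs⟩ := exists_sub (ε := δ) (m := 1) hP hPs
      ⟨by omega, hδ, fun h => absurd h one_ne_zero, fun h => by omega, fun h => absurd h h2⟩
    obtain ⟨hn', hdim, hsig⟩ := hP.inf_perp hL hLP
    have hs' := hsig _ _ hPs hLs
    rw [hLd] at hdim hs'
    rw [show Module.finrank F ↥(P ⊓ perp Q L) = 1 by omega,
      show sig F 1 1 = chi (-1 : F) from if_pos ⟨odd_one, odd_one⟩] at hs'
    obtain ⟨w, hwL, hw⟩ := exists_mem_form_ne_zero hL (by omega)
    obtain ⟨w', hwL', hw'⟩ := exists_mem_form_ne_zero hn' (by omega)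
    have hline : ∀ {L : Submodule F (ι → F)} {δ : ℤ} {w : ι → F}, NDOn Q L → Module.finrank F L = 1 →
        SigOn Q L δ → w ∈ L → Q w ≠ 0 → δ = chi (Q w) := fun {L δ w} hL hLd hLs hwL hw =>
      hLs.unique (sigOn_odd_of_ts h2 hL (h := 0) (by omega) (T := ⊥) bot_le
        (fun t ht => by rw [(Submodule.mem_bot F).1 ht, QuadraticMap.map_zero]) (finrank_bot F _) hwL
        (fun h => hw (by rw [(Submodule.mem_bot F).1 h, QuadraticMap.map_zero]))
        (fun t ht => by rw [(Submodule.mem_bot F).1 ht, polar_zero_left])).2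
    have e1 : δ = chi (Q w) := hline hL hLd hLs hwL hw
    have e2 : -1 * δ * chi (-1 : F) = chi (Q w') := hline hn' (by omega) hs' hwL' hw'
    obtain ⟨g, h1, h2', h3, h4, h5, h6, h7, h8⟩ := exists_three_step hQ h2 hp hli htT hT hPT hdis
      (l := 1) (a := a' - 1) (w := fun _ => w) one_pos (by omega) (fun _ => hLP hwL) (fun _ => hw)
      (fun i j h => absurd (Subsingleton.elim i j) h)
    have htT' : Submodule.span F (Set.range t) ≤ T := Submodule.span_le.2 (by rintro _ ⟨j, rfl⟩; exact htT j)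
    have hw'f : w' ∈ fixS g := by
      rw [mem_fixS]
      have : g.1 w' - w' = 0 := by
        refine hQ _ fun y => ?_
        have hperp : w' ∈ perp Q (mvS g) := by
          refine mem_perp.2 fun x hx => ?_
          rw [h8] at hx
          obtain ⟨t', ht', v, hv, rfl⟩ := Submodule.mem_sup.1 hx
          rw [polar_add_left, mem_perp.1 (hPT hwL'.1) t' (htT' ht'), zero_add]
          obtain ⟨c, rfl⟩ := (Submodule.mem_span_range_iff_exists_fun F).1 hv
          rw [Fin.sum_univ_one, polar_smul_left, mem_perp.1 hwL'.2 w hwL, smul_zero]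
        have e := UnitaryOrthogonal.map_polar g w' y
        have hy : polar Q w' (g.1 y) = polar Q w' y := by
          have := mem_perp.1 hperp _ (sub_mem_mvS g y)
          rw [polar_sub_left, sub_eq_zero, polar_comm, polar_comm Q y] at this
          exact this
        have e' := UnitaryOrthogonal.map_polar g w' (g⁻¹.1 y)
        rw [UnitaryOrthogonal.coe_apply_inv_apply] at e'
        have hy' : polar Q w' y = polar Q w' (g⁻¹.1 y) := by
          have := mem_perp.1 hperp _ (sub_mem_mvS g (g⁻¹.1 y))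
          rw [UnitaryOrthogonal.coe_apply_inv_apply, polar_sub_left, sub_eq_zero, polar_comm,
            polar_comm Q (g⁻¹.1 y)] at this
          exact this
        rw [polar_sub_left, e', hy', sub_self]
      exact sub_eq_zero.1 this
    have hfix : fixS g = Submodule.span F (Set.range t) ⊔ Submodule.span F {w'} := by
      refine (Submodule.eq_of_le_of_finrank_le (sup_le (Submodule.span_le.2 ?_)
        ((Submodule.span_singleton_le_iff_mem _ _).2 hw'f)) ?_).symm
      · rintro _ ⟨j, rfl⟩; exact h7 j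
      · have hd' : Disjoint (Submodule.span F (Set.range t)) (Submodule.span F {w'}) :=
          hdis.mono htT' ((Submodule.span_singleton_le_iff_mem _ _).2 hwL'.1)
        rw [finrank_sup_of_disjoint hd', finrank_span_eq_card hli, Fintype.card_fin,
          finrank_span_singleton (fun h => hw' (by rw [h, QuadraticMap.map_zero]))]
        omega
    refine ⟨g, h1, h2', h3, fun W hWd hW hWs hinv => ?_⟩
    obtain ⟨h, hh⟩ := hm
    have hval : ∀ (v : ι → F), Q v ≠ 0 → v ∈ P → ∀ y ∈ Submodule.span F (Set.range t) ⊔ Submodule.span F {v},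
        Q y ≠ 0 → chi (Q y) = chi (Q v) := by
      intro v hv hvP y hy hy0
      obtain ⟨t', ht', x, hx, rfl⟩ := Submodule.mem_sup.1 hy
      obtain ⟨c, rfl⟩ := Submodule.mem_span_singleton.1 hx
      have e : Q (t' + c • v) = c * c * Q v := by
        rw [form_add, hT t' (htT' ht'), form_smul, polar_smul_right, mem_perp.1 (hPT hvP) t' (htT' ht'),
          smul_zero]
        ring
      have hc : c ≠ 0 := fun h0 => hy0 (by rw [e, h0]; ring)
      rw [e, chi_mul, chi_mul, chi_mul_self hc, one_mul]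
    rcases sign_of_three_one h2 (neg_eigen_trivial h2 hp2 h2')
        (fun x hx => hT x (htT' (h6 ▸ hx)))
        (by rw [h6, finrank_span_eq_card hli, Fintype.card_fin]; omega) h5
        (e₁ := chi (Q w)) (e₂ := chi (Q w'))
        (fun y hy hy0 => hval w hw (hLP hwL) y (by
          rw [h8] at hy
          refine (sup_le_sup_left ?_ _ : _ ≤ Submodule.span F (Set.range t) ⊔ Submodule.span F {w}) hy
          rw [Submodule.span_le]; rintro _ ⟨i, rfl⟩; exact Submodule.mem_span_singleton_self w) hy0)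
        (fun y hy hy0 => hval w' hw' hwL'.1 y (hfix ▸ hy) hy0)
        hW hinv (hWd.trans hh) hWs with ⟨hpar, he⟩ | ⟨hpar, he⟩
    · rw [if_pos (by omega), e1, ← he] at hδm
      rcases hε with rfl | rfl <;> norm_num at hδm
    · rw [if_neg (by omega)] at hδm
      rw [← e2] at he
      rcases hε with rfl | rfl <;> linarith
  · -- `d` odd
    by_cases h43 : m % 4 = 3
    · obtain ⟨g, h1, h2', h3, h4, h5, h6, h7, -, -⟩ := exists_two_step hQ hp hli htT hT
        (a := a') (by omega) (by omega)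
      refine ⟨g, h1, h2', h3, fun W hWd hW _ hinv => ?_⟩
      have := mod_four_of_two_step (neg_eigen_trivial h2 hp2 h2') h5 h4 (by omega) hW hinv hWd hm
      omega
    · obtain ⟨εP, hεP⟩ := exists_sig hP
      obtain ⟨L, hLP, hLd, hL, hLs⟩ := exists_sub (ε := 1) (m := 1) hP hεP
        ⟨by omega, Or.inl rfl, fun h => absurd h one_ne_zero, fun h => by omega, fun h => absurd h h2⟩
      obtain ⟨hn', hdim, -⟩ := hP.inf_perp hL hLP
      obtain ⟨w, hwL, hw⟩ := exists_mem_form_ne_zero hL (by omega)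
      obtain ⟨w', hwL', hw'⟩ := exists_mem_form_ne_zero hn' (by omega)
      obtain ⟨g, h1, h2', h3, h4, h5, -, h7, -⟩ := exists_three_step hQ h2 hp hli htT hT hPT hdis
        (l := 2) (a := a' - 1) (w := ![w, w']) two_pos (by omega)
        (fun i => by fin_cases i; exact hLP hwL; exact hwL'.1)
        (fun i => by fin_cases i; exact hw; exact hw')
        (fun i j h => by
          fin_cases i <;> fin_cases j
          · exact absurd rfl h
          · exact mem_perp.1 hwL'.2 w hwL
          · exact (polar_comm Q _ _).trans (mem_perp.1 hwL'.2 w hwL)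
          · exact absurd rfl h)
      have heq : Submodule.span F (Set.range t) = fixS g :=
        Submodule.eq_of_le_of_finrank_le (Submodule.span_le.2 (by rintro _ ⟨j, rfl⟩; exact h7 j))
          (by rw [finrank_span_eq_card hli, Fintype.card_fin]; omega)
      refine ⟨g, h1, h2', h3, fun W hWd hW _ hinv => h43 (mod_four_of_three_step
        (neg_eigen_trivial h2 hp2 h2') (fun x hx => ?_) h5 hW hinv hWd hm)⟩
      rw [← heq] at hx
      exact hT x ((Submodule.span_le.2 (by rintro _ ⟨j, rfl⟩; exact htT j) : _ ≤ T) hx)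

end Cfsg.Agent.OrthFix
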