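import Cfsg.Agent.OrthFix.Kern
import Cfsg.Agent.Forms59.Normal
import Cfsg.Agent.Forms59.Elliptic2

/-!
The sign of a non-degenerate quadratic form over a finite field, read off from its level counts.
-/

set_option autoImplicit false
set_option linter.unusedSectionVars false

namespace Cfsg.Agent.OrthFix

open Finset QuadraticMap
open Cfsg.Agent.UnitaryOrthogonal (level hypSum zeroForm sqForm binForm BinAniso PolarND)

universe u v w

variable {F : Type u} [Field F] [Fintype F]

/-- `Q` has sign `ε`: the standard level counts of a form of that sign. -/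
structure Sig {V : Type v} [AddCommGroup V] [Module F V] (Q : QuadraticForm F V) (ε : ℤ) : Prop where
  unit : ε = 1 ∨ ε = -1
  count : ∀ a : F, (Fintype.card F : ℤ) * level Q a =
    (Fintype.card F : ℤ) ^ Module.finrank F V + ε * kern (Module.finrank F V) a

variable {V : Type v} {V' : Type w} [AddCommGroup V] [Module F V] [AddCommGroup V'] [Module F V']
  {Q : QuadraticForm F V} {Q' : QuadraticForm F V'} {ε ε' : ℤ}

theorem one_lt_q : (1 : ℤ) < Fintype.card F := by exact_mod_cast Fintype.one_lt_card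

theorem Sig.mul_self (h : Sig Q ε) : ε * ε = 1 := by rcases h.unit with rfl | rfl <;> rfl

theorem exists_kern_ne_zero (n : ℕ) : ∃ a : F, kern n a ≠ 0 := by
  rcases Nat.even_or_odd n with hn | hn
  · refine ⟨0, ?_⟩
    have := one_lt_q (F := F)
    rw [kern_even hn, nu, if_pos rfl]
    exact mul_ne_zero (by omega) (pow_ne_zero _ (by omega))
  · exact ⟨1, by rw [kern_odd hn, chi_one, one_mul]; exact pow_ne_zero _ (by have := one_lt_q (F := F); omega)⟩

theorem Sig.unique (h : Sig Q ε) (h' : Sig Q ε') : ε = ε' := by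
  obtain ⟨a, ha⟩ := exists_kern_ne_zero (F := F) (Module.finrank F V)
  exact mul_right_cancel₀ ha (add_left_cancel ((h.count a).symm.trans (h'.count a)))

theorem Sig.congr (h : Sig Q ε) (e : Q.IsometryEquiv Q') : Sig Q' ε := by
  refine ⟨h.unit, fun a => ?_⟩
  rw [← UnitaryOrthogonal.level_congr e a, ← e.toLinearEquiv.finrank_eq]
  exact h.count a

/-- Level counts of an orthogonal sum. -/
theorem level_prod [Finite V] [Finite V'] (c : F) :
    level (Q.prod Q') c = ∑ x : F, level Q x * level Q' (c - x) := by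
  let e : {v : V × V' // Q.prod Q' v = c} ≃ Σ x : F, {v : V // Q v = x} × {v : V' // Q' v = c - x} :=
    { toFun := fun v => ⟨Q v.1.1, ⟨v.1.1, rfl⟩, ⟨v.1.2, by
        have := v.2; rw [QuadraticMap.prod_apply] at this; linear_combination this⟩⟩
      invFun := fun s => ⟨(s.2.1.1, s.2.2.1), by
        rw [QuadraticMap.prod_apply, s.2.1.2, s.2.2.2]; ring⟩
      left_inv := fun v => rfl
      right_inv := fun s => by
        obtain ⟨x, ⟨v, rfl⟩, ⟨w, hw⟩⟩ := s
        rfl }
  rw [level, Nat.card_congr e, Nat.card_sigma]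
  exact sum_congr rfl fun x _ => Nat.card_prod _ _

theorem Sig.prod [Finite V] [Finite V'] (h : Sig Q ε) (h' : Sig Q' ε')
    (hV : Odd (Module.finrank F V) → (2 : F) ≠ 0) (hV' : Odd (Module.finrank F V') → (2 : F) ≠ 0) :
    Sig (Q.prod Q') (ε * ε' * sig F (Module.finrank F V) (Module.finrank F V')) := by
  set n := Module.finrank F V
  set n' := Module.finrank F V'
  set q : ℤ := (Fintype.card F : ℤ) with hq
  refine ⟨?_, fun c => ?_⟩
  · have hs : sig F n n' = 1 ∨ sig F n n' = -1 := mul_self_eq_one_iff.1 (sig_mul_self n n')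
    rcases h.unit with rfl | rfl <;> rcases h'.unit with rfl | rfl <;> rcases hs with e | e <;>
      simp [e]
  rw [Module.finrank_prod]
  have hq0 : q ≠ 0 := by have := one_lt_q (F := F); omega
  refine mul_left_cancel₀ hq0 ?_
  have hsum : q * (q * (level (Q.prod Q') c : ℤ)) =
      ∑ x : F, (q ^ n + ε * kern n x) * (q ^ n' + ε' * kern n' (c - x)) := by
    rw [level_prod, Nat.cast_sum, mul_sum, mul_sum]
    refine sum_congr rfl fun x _ => ?_
    rw [Nat.cast_mul, ← h.count x, ← h'.count (c - x)]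
    ring
  have e : ∀ x : F, (q ^ n + ε * kern n x) * (q ^ n' + ε' * kern n' (c - x)) =
      q ^ (n + n') + (q ^ n * ε' * kern n' (c - x) + q ^ n' * ε * kern n x) +
        ε * ε' * (kern n x * kern n' (c - x)) := fun x => by rw [pow_add]; ring
  have hs : ∑ x : F, kern n' (c - x) = 0 :=
    (Equiv.sum_comp (Equiv.subLeft c) fun x : F => kern n' x).trans (sum_kern hV')
  rw [hsum]
  simp only [e, sum_add_distrib, ← mul_sum, hs, sum_kern hV, kern_conv hV hV', sum_const, card_univ,
    nsmul_eq_mul, ← hq]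
  ring

theorem kern_add_two_mul (n m : ℕ) (a : F) :
    kern (2 * m + n) a = (Fintype.card F : ℤ) ^ m * kern n a := by
  rcases Nat.even_or_odd n with hn | hn
  · rw [kern_even hn, kern_even ((even_two_mul m).add hn), show (2 * m + n) / 2 = m + n / 2 by omega,
      pow_add]
    ring
  · rw [kern_odd hn, kern_odd ((even_two_mul m).add_odd hn),
      show (2 * m + n) / 2 + 1 = m + (n / 2 + 1) by omega, pow_add]
    ring

/-- Adding hyperbolic planes keeps the sign. -/
theorem Sig.hypSum [Finite V] [FiniteDimensional F V] (h : Sig Q ε) (m : ℕ) :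
    Sig (hypSum m Q) ε := by
  refine ⟨h.unit, fun a => ?_⟩
  have hl := UnitaryOrthogonal.level_hypSum (Q := Q) a m
  rw [Module.natCard_eq_pow_finrank (K := F) (V := V), Nat.card_eq_fintype_card (α := F)] at hl
  have hl' := congrArg (Nat.cast : ℕ → ℤ) hl
  simp only [Nat.cast_add, Nat.cast_mul, Nat.cast_pow] at hl'
  rw [Module.finrank_prod, Module.finrank_prod, Module.finrank_fintype_fun_eq_card, Fintype.card_fin,
    ← two_mul, kern_add_two_mul, pow_add]
  have := h.count a
  linear_combination hl' + (Fintype.card F : ℤ) ^ m * this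

theorem sig_zeroForm : Sig (zeroForm F) 1 := by
  refine ⟨Or.inl rfl, fun a => ?_⟩
  rw [Module.finrank_fintype_fun_eq_card, Fintype.card_fin, kern_even Even.zero, nu]
  split_ifs with ha
  · subst ha; rw [UnitaryOrthogonal.level_zeroForm]; ring
  · have : level (zeroForm F) a = 0 := by
      rw [level, Nat.card_eq_zero]
      exact Or.inl ⟨fun v => ha (by have := v.2; simpa [zeroForm] using this.symm)⟩
    rw [this]; simp

theorem level_smul_sqForm (h2 : (2 : F) ≠ 0) {c : F} (hc : c ≠ 0) (a : F) :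
    (level (c • sqForm F) a : ℤ) = chi c * chi a + 1 := by
  classical
  have key := quadraticChar_card_sqrts (ringChar_ne_two h2) (c⁻¹ * a)
  have e : level (c • sqForm F) a = #{x : F | x ^ 2 = c⁻¹ * a}.toFinset := by
    rw [level, ← Nat.card_eq_card_toFinset]
    refine Nat.card_congr (Equiv.subtypeEquivRight fun x => ?_)
    show c • sqForm F x = a ↔ x ^ 2 = c⁻¹ * a
    rw [UnitaryOrthogonal.sqForm_apply, smul_eq_mul, eq_inv_mul_iff_mul_eq₀ hc, pow_two]
  rw [e, key]
  have : chi (c⁻¹ * a) = chi c * chi a := by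
    have h1 : chi c⁻¹ * chi c = 1 := by rw [← chi_mul, inv_mul_cancel₀ hc, chi_one]
    rw [chi_mul]
    linear_combination (chi a * chi c) * h1 - (chi c⁻¹ * chi a) * chi_mul_self hc
  exact congrArg (· + 1) this

theorem sig_smul_sqForm (h2 : (2 : F) ≠ 0) {c : F} (hc : c ≠ 0) : Sig (c • sqForm F) (chi c) := by
  refine ⟨chi_eq_or hc, fun a => ?_⟩
  rw [Module.finrank_self, kern_odd odd_one, level_smul_sqForm h2 hc]
  simp only [Nat.reduceDiv, zero_add, pow_one]
  ring

theorem sig_binForm {a b : F} (hab : BinAniso a b) : Sig (binForm a b) (-1) := by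
  refine ⟨Or.inr rfl, fun x => ?_⟩
  rw [Module.finrank_prod, Module.finrank_self, show 1 + 1 = 2 from rfl, kern_even even_two, nu]
  split_ifs with hx
  · subst hx; rw [hab.level_zero]; ring
  · rw [hab.level_eq hx, Nat.card_eq_fintype_card]; push_cast; ring

theorem exists_binAniso : ∃ ζ : F, BinAniso 1 ζ := by
  obtain ⟨z, hz⟩ : ∃ z : F, ∀ t : F, t ^ 2 + t ≠ z := by
    by_contra hcon
    push Not at hcon
    have hinj : Function.Injective fun t : F => t ^ 2 + t := Finite.injective_iff_surjective.2 hcon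
    exact neg_ne_zero.2 one_ne_zero (hinj (a₁ := (-1 : F)) (a₂ := 0) (by ring))
  refine ⟨-z, fun z₁ z₂ h => ?_⟩
  rcases eq_or_ne z₂ 0 with rfl | h0
  · exact ⟨pow_eq_zero_iff two_ne_zero |>.1 (by linear_combination h), rfl⟩
  · refine absurd ?_ (hz (z₁ / z₂))
    field_simp
    linear_combination h

theorem nondegenerate_of_polarND (hQ : PolarND Q) : (polarBilin Q).Nondegenerate :=
  ⟨hQ, fun u hu => hQ u fun x => (polar_comm Q u x).trans (hu x)⟩

theorem binAniso_of {ζ : F} (h : ∀ t : F, t ^ 2 + t + ζ ≠ 0) : BinAniso 1 ζ := fun z₁ z₂ e => by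
  rcases eq_or_ne z₂ 0 with rfl | h0
  · exact ⟨pow_eq_zero_iff two_ne_zero |>.1 (by linear_combination e), rfl⟩
  · exact absurd (by field_simp; linear_combination e) (h (z₁ / z₂))

/-- Normal forms. -/
theorem exists_model [FiniteDimensional F V] (hQ : PolarND Q) :
    (∃ k, Module.finrank F V = 2 * k ∧ Nonempty (Q.IsometryEquiv (hypSum k (zeroForm F)))) ∨
    (∃ k, Module.finrank F V = 2 * k + 1 ∧ ∃ c : F, c ≠ 0 ∧
      Nonempty (Q.IsometryEquiv (hypSum k (c • sqForm F)))) ∨
    (∃ k, Module.finrank F V = 2 * k + 2 ∧ ∃ ζ : F, (∀ t : F, t ^ 2 + t + ζ ≠ 0) ∧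
      Nonempty (Q.IsometryEquiv (hypSum k (binForm 1 ζ)))) := by
  rcases Forms59.exists_normal_form Q (nondegenerate_of_polarND hQ) with
    ⟨k, hk, e, he⟩ | ⟨k, hk, c, e, hc, he⟩ | ⟨k, hk, ζ, e, hζ, he⟩
  · refine Or.inl ⟨k, hk, ⟨{ e.trans (UnitaryOrthogonal.plusCoord k F) with
      map_app' := fun v => ?_ }⟩⟩
    exact ((UnitaryOrthogonal.qPlusIso k F).map_app (e v)).trans
      ((UnitaryOrthogonal.qPlus_apply k (e v)).trans (he v).symm)
  · let T : ((Fin k ⊕ Fin k) ⊕ Fin 1 → F) ≃ₗ[F] ((Fin k → F) × (Fin k → F)) × F :=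
      { toFun := fun v => ((fun i => v (.inl (.inl i)), fun i => v (.inl (.inr i))), v (.inr 0))
        invFun := fun p => Sum.elim (Sum.elim p.1.1 p.1.2) (fun _ => p.2)
        map_add' := fun _ _ => rfl
        map_smul' := fun _ _ => rfl
        left_inv := fun v => funext fun x => by
          rcases x with (x | x) | x
          · rfl
          · rfl
          · fin_cases x; rfl
        right_inv := fun p => rfl }
    refine Or.inr (Or.inl ⟨k, hk, c, hc, ⟨{ e.trans T with map_app' := fun v => ?_ }⟩⟩)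
    show hypSum k (c • sqForm F) (T (e v)) = Q v
    rw [he, UnitaryOrthogonal.hypSum_apply]
    rfl
  · refine Or.inr (Or.inr ⟨k, hk, ζ, hζ, ⟨{ e.trans (UnitaryOrthogonal.minusCoord k F) with
      map_app' := fun v => ?_ }⟩⟩)
    exact ((UnitaryOrthogonal.qMinusIso k F 1 ζ).map_app (e v)).trans
      ((UnitaryOrthogonal.qMinus_apply k 1 ζ (e v)).trans (he v).symm)

theorem polarND_smul_sqForm (h2 : (2 : F) ≠ 0) {c : F} (hc : c ≠ 0) : PolarND (c • sqForm F) :=
  fun u hu => by
    have := hu 1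
    simp [polar] at this
    rcases mul_eq_zero.1 (show (2 * c) * u = 0 by linear_combination this) with h | h
    · exact absurd h (mul_ne_zero h2 hc)
    · exact h

/-- In characteristic two a non-degenerate space has even dimension. -/
theorem two_ne_zero_of_odd [FiniteDimensional F V] (hQ : PolarND Q)
    (h : Odd (Module.finrank F V)) : (2 : F) ≠ 0 := by
  obtain ⟨t, ht⟩ := h
  rcases exists_model hQ with ⟨k, hk, -⟩ | ⟨k, hk, c, hc, ⟨e⟩⟩ | ⟨k, hk, -⟩
  · omega
  · intro h2
    have := hQ.congr e (((0, 0), (1 : F))) fun x => by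
      simp only [polar, UnitaryOrthogonal.hypSum_apply, Prod.fst_add, Prod.snd_add, zero_add]
      simp
      linear_combination (c * x.2) * h2
    simp [Prod.ext_iff] at this
  · omega

theorem exists_sig [FiniteDimensional F V] (hQ : PolarND Q) : ∃ ε, Sig Q ε := by
  rcases exists_model hQ with ⟨k, -, ⟨e⟩⟩ | ⟨k, hk, c, hc, ⟨e⟩⟩ | ⟨k, -, ζ, hζ, ⟨e⟩⟩
  · exact ⟨1, (sig_zeroForm.hypSum k).congr e.symm⟩
  · exact ⟨chi c, ((sig_smul_sqForm (two_ne_zero_of_odd hQ ⟨k, hk⟩) hc).hypSum k).congr e.symm⟩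
  · exact ⟨-1, ((sig_binForm (binAniso_of hζ)).hypSum k).congr e.symm⟩

theorem hypSum_minus_isometric (k : ℕ) {ζ ζ' : F} (h : ∀ t : F, t ^ 2 + t + ζ ≠ 0)
    (h' : ∀ t : F, t ^ 2 + t + ζ' ≠ 0) :
    Nonempty ((hypSum k (binForm 1 ζ')).IsometryEquiv (hypSum k (binForm 1 ζ))) := by
  obtain ⟨T, hT⟩ := Forms59.elliptic_isometric k 1 ζ (binAniso_of h) ζ' h'
  refine ⟨{ (UnitaryOrthogonal.minusCoord k F).symm.trans
    (T.trans (UnitaryOrthogonal.minusCoord k F)) with map_app' := fun v => ?_ }⟩
  obtain ⟨u, rfl⟩ := (UnitaryOrthogonal.minusCoord k F).surjective v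
  show hypSum k (binForm 1 ζ) (UnitaryOrthogonal.minusCoord k F
    (T ((UnitaryOrthogonal.minusCoord k F).symm _))) = _
  rw [LinearEquiv.symm_apply_apply]
  exact ((UnitaryOrthogonal.qMinusIso k F 1 ζ).map_app (T u)).trans
    ((UnitaryOrthogonal.qMinus_apply k 1 ζ (T u)).trans ((hT u).trans
      ((UnitaryOrthogonal.qMinus_apply k 1 ζ' u).symm.trans
        ((UnitaryOrthogonal.qMinusIso k F 1 ζ').map_app u).symm)))

/-- Classification: dimension and sign determine the form. -/
theorem Sig.isometric [FiniteDimensional F V] [FiniteDimensional F V'] (hQ : PolarND Q)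
    (hQ' : PolarND Q') (h : Sig Q ε) (h' : Sig Q' ε)
    (hn : Module.finrank F V = Module.finrank F V') : Nonempty (Q.IsometryEquiv Q') := by
  rcases exists_model hQ with ⟨k, hk, ⟨e⟩⟩ | ⟨k, hk, c, hc, ⟨e⟩⟩ | ⟨k, hk, ζ, hζ, ⟨e⟩⟩ <;>
    rcases exists_model hQ' with ⟨l, hl, ⟨f⟩⟩ | ⟨l, hl, d, hd, ⟨f⟩⟩ | ⟨l, hl, η, hη, ⟨f⟩⟩ <;>
    try omega
  · obtain rfl : k = l := by omega
    exact ⟨e.trans f.symm⟩
  · exact absurd ((((sig_zeroForm.hypSum k).congr e.symm).unique h).trans
      (h'.unique ((sig_binForm (binAniso_of hη)).hypSum l |>.congr f.symm))) (by decide)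
  · obtain rfl : k = l := by omega
    have h2 := two_ne_zero_of_odd hQ ⟨k, hk⟩
    have := ((((sig_smul_sqForm h2 hc).hypSum k).congr e.symm).unique h).trans
      (h'.unique ((sig_smul_sqForm h2 hd).hypSum k |>.congr f.symm))
    obtain ⟨s, hs, hds⟩ := chi_eq_iff h2 hc hd this
    let g : (c • sqForm F).IsometryEquiv (d • sqForm F) :=
      { LinearEquiv.smulOfNeZero F F s⁻¹ (inv_ne_zero hs) with
        map_app' := fun x => by
          show d • sqForm F (s⁻¹ • x) = c • sqForm F x
          simp [hds]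
          field_simp }
    exact ⟨(e.trans (QuadraticMap.IsometryEquiv.prod (QuadraticMap.IsometryEquiv.refl _) g)).trans f.symm⟩
  · exact absurd ((((sig_zeroForm.hypSum l).congr f.symm).unique h').trans
      (h.unique ((sig_binForm (binAniso_of hζ)).hypSum k |>.congr e.symm))) (by decide)
  · obtain rfl : k = l := by omega
    obtain ⟨g⟩ := hypSum_minus_isometric k hη hζ
    exact ⟨(e.trans g).trans f.symm⟩

/-- The constraints on a dimension and a sign. -/
structure Valid (F : Type*) [Field F] (n : ℕ) (ε : ℤ) : Prop where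
  unit : ε = 1 ∨ ε = -1
  zero : n = 0 → ε = 1
  odd : Odd n → (2 : F) ≠ 0

theorem Sig.valid [FiniteDimensional F V] (hQ : PolarND Q) (h : Sig Q ε) :
    Valid F (Module.finrank F V) ε := by
  refine ⟨h.unit, fun h0 => ?_, two_ne_zero_of_odd hQ⟩
  rcases exists_model hQ with ⟨k, hk, ⟨e⟩⟩ | ⟨k, hk, -⟩ | ⟨k, hk, -⟩
  · exact h.unique ((sig_zeroForm.hypSum k).congr e.symm)
  · omega
  · omega

/-- Every admissible dimension and sign occurs. -/
theorem exists_form {n : ℕ} (hv : Valid F n ε) :
    ∃ Q : QuadraticForm F (Fin n → F), PolarND Q ∧ Sig Q ε := by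
  have mk : ∀ {W : Type u} [AddCommGroup W] [Module F W] [FiniteDimensional F W]
      (R : QuadraticForm F W), Module.finrank F W = n → PolarND R → Sig R ε →
      ∃ Q : QuadraticForm F (Fin n → F), PolarND Q ∧ Sig Q ε := by
    intro W _ _ _ R hn hR hS
    let e : W ≃ₗ[F] (Fin n → F) := (Module.finBasisOfFinrankEq F W hn).equivFun
    let f : R.IsometryEquiv (R.comp e.symm.toLinearMap) :=
      { e with map_app' := fun v => by simp }
    exact ⟨_, hR.congr f, hS.congr f⟩
  have hdim : ∀ k : ℕ, Module.finrank F ((Fin k → F) × (Fin k → F)) = 2 * k := fun k => by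
    rw [Module.finrank_prod, Module.finrank_fintype_fun_eq_card, Fintype.card_fin, two_mul]
  rcases Nat.even_or_odd n with ⟨k, hk⟩ | hodd
  · rcases hv.unit with h | h
    · subst h
      refine mk (hypSum k (zeroForm F)) ?_ (UnitaryOrthogonal.polarND_zeroForm.hypSum k)
        (sig_zeroForm.hypSum k)
      rw [Module.finrank_prod, hdim, Module.finrank_fintype_fun_eq_card, Fintype.card_fin]
      omega
    · subst h
      obtain ⟨ζ, hζ⟩ := exists_binAniso (F := F)
      have hk1 : 1 ≤ k := Nat.one_le_iff_ne_zero.2 fun h0 => absurd (hv.zero (by omega)) (by decide)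
      refine mk (hypSum (k - 1) (binForm 1 ζ)) ?_ (hζ.polarND.hypSum _)
        ((sig_binForm hζ).hypSum _)
      rw [Module.finrank_prod, hdim, Module.finrank_prod, Module.finrank_self]
      omega
  · have h2 := hv.odd hodd
    obtain ⟨k, hk⟩ := hodd
    obtain ⟨c, hc, hce⟩ : ∃ c : F, c ≠ 0 ∧ chi c = ε := by
      rcases hv.unit with h | h
      · exact ⟨1, one_ne_zero, by rw [h, chi_one]⟩
      · exact h ▸ exists_chi_neg_one h2
    subst hce
    refine mk (hypSum k (c • sqForm F)) ?_ ((polarND_smul_sqForm h2 hc).hypSum k)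
      ((sig_smul_sqForm h2 hc).hypSum k)
    rw [Module.finrank_prod, hdim, Module.finrank_self]
    omega

end Cfsg.Agent.OrthFix
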