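import Cfsg.Agent.OrthFix.Two
import Cfsg.Agent.ClMax99.AltSim

/-!
Invariant non-degenerate subspaces of unipotent isometries.
-/

set_option autoImplicit false
set_option linter.unusedSectionVars false
set_option linter.style.haveILetI false

namespace Cfsg.Agent.OrthFix

open QuadraticMap
open Cfsg.Agent.UnitaryOrthogonal (PolarND orth polar_self_eq form_add form_smul)

universe u v

variable {F : Type u} [Field F] [Fintype F]
variable {V : Type v} [AddCommGroup V] [Module F V] [FiniteDimensional F V] [Finite V]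
  {Q : QuadraticForm F V}

theorem polar_eq_zero_of_ts {T : Submodule F V} (h : ∀ t ∈ T, Q t = 0) {a b : V} (ha : a ∈ T)
    (hb : b ∈ T) : polar Q a b = 0 := by
  simp [polar, h _ (T.add_mem ha hb), h a ha, h b hb]

theorem exists_le_finrank {T : Submodule F V} {h : ℕ} (hh : h ≤ Module.finrank F T) :
    ∃ T', T' ≤ T ∧ Module.finrank F T' = h := by
  let bT := Module.finBasis F T
  have hli : LinearIndependent F fun j : Fin h => (bT (Fin.castLE hh j) : V) :=
    (bT.linearIndependent.map' T.subtype T.ker_subtype).comp _ (Fin.castLE_injective hh)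
  refine ⟨Submodule.span F (Set.range fun j : Fin h => (bT (Fin.castLE hh j) : V)), ?_, ?_⟩
  · rw [Submodule.span_le]
    rintro _ ⟨j, rfl⟩
    exact Subtype.coe_prop _
  · rw [finrank_span_eq_card hli, Fintype.card_fin]

/-- A totally singular subspace is at most half. -/
theorem two_mul_ts_le {W T : Submodule F V} (hW : NDOn Q W) (hTW : T ≤ W)
    (hT : ∀ t ∈ T, Q t = 0) : 2 * Module.finrank F T ≤ Module.finrank F W := by
  let T' := T.comap W.subtype
  have h1 : Module.finrank F T' = Module.finrank F T := (Submodule.comapSubtypeEquivOfLe hTW).finrank_eq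
  have h2 : T' ≤ perp (Q.comp W.subtype) T' := fun x hx => mem_perp.2 fun u hu => by
    rw [polar_comp_subtype]
    exact polar_eq_zero_of_ts hT hu hx
  have h3 : Module.finrank F (perp (Q.comp W.subtype) T') =
      Module.finrank F W - Module.finrank F T' :=
    LinearMap.BilinForm.finrank_orthogonal (nondegenerate_of_polarND hW) T'
  have h4 := Submodule.finrank_mono h2
  have h5 := Submodule.finrank_le T'
  omega

theorem sigOn_one_of_ts {W T : Submodule F V} {h : ℕ} (hW : NDOn Q W)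
    (hd : Module.finrank F W = 2 * h) (hTW : T ≤ W) (hT : ∀ t ∈ T, Q t = 0)
    (hh : h ≤ Module.finrank F T) : SigOn Q W 1 := by
  obtain ⟨T', hT', hd'⟩ := exists_le_finrank hh
  exact (sigOn_one_iff hW hd).2 ⟨T', hT'.trans hTW, fun t ht => hT t (hT' ht), hd'⟩

/-- The sign of an odd-dimensional space with a maximal totally singular subspace. -/
theorem sigOn_odd_of_ts (h2 : (2 : F) ≠ 0) {W T : Submodule F V} {h : ℕ} (hW : NDOn Q W)
    (hd : Module.finrank F W = 2 * h + 1) (hTW : T ≤ W) (hT : ∀ t ∈ T, Q t = 0)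
    (hTd : Module.finrank F T = h) {y : V} (hy : y ∈ W) (hyT : y ∉ T)
    (hperp : ∀ t ∈ T, polar Q t y = 0) : Q y ≠ 0 ∧ SigOn Q W (chi (Q y)) := by
  have hy0 : Q y ≠ 0 := fun h0 => by
    have hsup : ∀ x ∈ T ⊔ Submodule.span F {y}, Q x = 0 := by
      intro x hx
      obtain ⟨t, ht, z, hz, rfl⟩ := Submodule.mem_sup.1 hx
      obtain ⟨a, rfl⟩ := Submodule.mem_span_singleton.1 hz
      rw [form_add, hT t ht, form_smul, h0, polar_smul_right, hperp t ht, smul_zero]
      ring
    have hle : T ⊔ Submodule.span F {y} ≤ W :=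
      sup_le hTW ((Submodule.span_singleton_le_iff_mem _ _).2 hy)
    have hlt : T < T ⊔ Submodule.span F {y} := lt_of_le_of_ne le_sup_left fun e =>
      hyT (e ▸ Submodule.mem_sup_right (Submodule.mem_span_singleton_self y))
    have := two_mul_ts_le hW hle hsup
    have := Submodule.finrank_lt_finrank_of_lt hlt
    omega
  refine ⟨hy0, ?_⟩
  obtain ⟨hLn, hLs, hLd⟩ := exists_sub_aux (Q := Q) (polarND_smul_sqForm h2 hy0) (sig_smul_sqForm h2 hy0)
    (LinearMap.toSpanSingleton F V y) (smul_left_injective F (fun h0 => hy0 (by rw [h0, QuadraticMap.map_zero])))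
    (fun a => by
      show Q (a • y) = Q y • (a * a)
      rw [form_smul, smul_eq_mul, mul_comm])
  rw [Module.finrank_self] at hLd
  rw [LinearMap.range_toSpanSingleton] at hLn hLs hLd
  have hLW : Submodule.span F {y} ≤ W := (Submodule.span_singleton_le_iff_mem _ _).2 hy
  obtain ⟨hn', hdim, hsig⟩ := hW.inf_perp hLn hLW
  have h1 : SigOn Q (W ⊓ perp Q (Submodule.span F {y})) 1 :=
    (sigOn_one_iff hn' (h := h) (by omega)).2 ⟨T, le_inf hTW fun t ht => mem_perp.2 fun u hu => by
      obtain ⟨a, rfl⟩ := Submodule.mem_span_singleton.1 hu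
      rw [polar_smul_left, polar_comm, hperp t ht, smul_zero], hT, hTd⟩
  obtain ⟨hd', hsum⟩ := hLn.isCompl_within hLW
  have := (hLn.sup hn' inf_le_right).2.2.2 _ _ hLs h1
  rwa [hsum, show Module.finrank F ↥(W ⊓ perp Q (Submodule.span F {y})) = 2 * h by omega,
    sig_even_right (even_two_mul h), mul_one, mul_one] at this

variable {g : orth Q} {W : Submodule F V}

/-- Moved and fixed parts of an invariant subspace have complementary dimensions. -/
theorem finrank_mv_add_fix (hW : NDOn Q W) (hinv : ∀ x ∈ W, g.1 x ∈ W) :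
    Module.finrank F ↥(W ⊓ mvS g) + Module.finrank F ↥(W ⊓ fixS g) = Module.finrank F W := by
  refine le_antisymm ?_ ?_
  · let K := (W ⊓ fixS g).comap W.subtype
    let M := (W ⊓ mvS g).comap W.subtype
    have hK : Module.finrank F K = Module.finrank F ↥(W ⊓ fixS g) :=
      (Submodule.comapSubtypeEquivOfLe inf_le_left).finrank_eq
    have hM : Module.finrank F M = Module.finrank F ↥(W ⊓ mvS g) :=
      (Submodule.comapSubtypeEquivOfLe inf_le_left).finrank_eq
    have h2 : M ≤ perp (Q.comp W.subtype) K := fun x hx => mem_perp.2 fun u hu => by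
      rw [polar_comp_subtype]
      exact mem_perp.1 (mvS_le_perp g hx.2) u hu.2
    have h3 : Module.finrank F (perp (Q.comp W.subtype) K) =
        Module.finrank F W - Module.finrank F K :=
      LinearMap.BilinForm.finrank_orthogonal (nondegenerate_of_polarND hW) K
    have := Submodule.finrank_mono h2
    have := Submodule.finrank_le K
    omega
  · let T : W →ₗ[F] V := (g.1.toLinearMap - LinearMap.id).comp W.subtype
    have h1 := LinearMap.finrank_range_add_finrank_ker T
    have h2 : Module.finrank F (LinearMap.range T) ≤ Module.finrank F ↥(W ⊓ mvS g) :=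
      Submodule.finrank_mono (by
        rintro _ ⟨x, rfl⟩
        exact ⟨W.sub_mem (hinv x x.2) x.2, sub_mem_mvS g x⟩)
    have h3 : Module.finrank F (LinearMap.ker T) ≤ Module.finrank F ↥(W ⊓ fixS g) := by
      rw [← Submodule.finrank_map_subtype_eq W (LinearMap.ker T)]
      refine Submodule.finrank_mono ?_
      rintro _ ⟨x, hx, rfl⟩
      exact ⟨x.2, hx⟩
    omega

/-- The moved dimension is even when `-1` is not an eigenvalue. -/
theorem even_mv (hW : NDOn Q W) (hinv : ∀ x ∈ W, g.1 x ∈ W)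
    (hneg : ∀ y, g.1 y = -y → y = 0) : Even (Module.finrank F ↥(W ⊓ mvS g)) := by
  let g' := restr g W hinv
  let Q' := Q.comp W.subtype
  obtain ⟨M, hM⟩ := Submodule.exists_isCompl ((W ⊓ fixS g).comap W.subtype)
  let β : LinearMap.BilinForm F W :=
    (polarBilin Q').comp g'.1.toLinearMap - ((polarBilin Q').comp g'.1.toLinearMap).flip
  have hβ : ∀ a b : W, β a b = polar Q' (g'.1 a) b - polar Q' (g'.1 b) a := fun a b => rfl
  have hev : Even (Module.finrank F M) := by
    refine ClMax99.AltSim.even_finrank β (fun x => by rw [hβ, sub_self]) M fun a ha hab => ?_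
    have hall : ∀ b : W, β a b = 0 := by
      intro b
      obtain ⟨k, hk, m, hm, rfl⟩ := Submodule.mem_sup.1
        (hM.sup_eq_top ▸ Submodule.mem_top : b ∈ (W ⊓ fixS g).comap W.subtype ⊔ M)
      have hk' : g'.1 k = k := Subtype.ext (mem_fixS.1 hk.2)
      have e := UnitaryOrthogonal.map_polar g' a k
      rw [hk'] at e
      rw [map_add, hab m hm, add_zero, hβ, hk', e, polar_comm, sub_self]
    have hsq : g'.1 (g'.1 a) = a := by
      refine sub_eq_zero.1 (hW _ fun b => ?_)
      show polar Q' (g'.1 (g'.1 a) - a) b = 0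
      have h1 := hall (g'⁻¹.1 b)
      rw [hβ, UnitaryOrthogonal.coe_apply_inv_apply] at h1
      have e := UnitaryOrthogonal.map_polar g' (g'.1 a) (g'⁻¹.1 b)
      rw [UnitaryOrthogonal.coe_apply_inv_apply] at e
      rw [polar_sub_left, e, polar_comm Q' a b]
      exact h1
    have h1 : (g'.1 a : V) - (a : V) = 0 := hneg _ (by
      rw [map_sub, show g.1 (a : V) = (g'.1 a : V) from rfl,
        show g.1 ((g'.1 a : W) : V) = (g'.1 (g'.1 a) : V) from rfl, hsq, neg_sub])
    exact Submodule.disjoint_def.1 hM.disjoint a ⟨a.2, mem_fixS.2 (sub_eq_zero.1 h1)⟩ ha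
  have h1 := Submodule.finrank_add_eq_of_isCompl hM
  rw [(Submodule.comapSubtypeEquivOfLe (inf_le_left : W ⊓ fixS g ≤ W)).finrank_eq] at h1
  have h2 := finrank_mv_add_fix hW hinv
  rwa [show Module.finrank F ↥(W ⊓ mvS g) = Module.finrank F M by omega]

theorem neg_eigen_trivial (h2 : (2 : F) ≠ 0) {p : ℕ} (hp : Odd p) (hg : g ^ p = 1) :
    ∀ y, g.1 y = -y → y = 0 := fun y hy => by
  have h : ∀ n : ℕ, (g ^ n).1 y = (-1 : F) ^ n • y := by
    intro n
    induction n with
    | zero => simp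
    | succ n ih =>
      rw [pow_succ', UnitaryOrthogonal.coe_mul_apply, ih, map_smul, hy, pow_succ']
      module
  have h1 := h p
  rw [hg, hp.neg_one_pow, UnitaryOrthogonal.coe_one_apply, neg_one_smul] at h1
  have : (2 : F) • y = 0 := by rw [two_smul]; nth_rewrite 2 [h1]; rw [add_neg_cancel]
  exact (smul_eq_zero.1 this).resolve_left h2

theorem finrank_inf_le_add (A K : Submodule F V) (hAK : A ≤ K) :
    Module.finrank F ↥(W ⊓ K) + Module.finrank F A ≤
      Module.finrank F ↥(W ⊓ A) + Module.finrank F K := by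
  have e := Submodule.finrank_sup_add_finrank_inf_eq (W ⊓ K) A
  rw [inf_assoc, inf_eq_right.2 hAK] at e
  have := Submodule.finrank_mono (sup_le inf_le_right hAK : W ⊓ K ⊔ A ≤ K)
  omega

/-- Two steps: every invariant subspace of even dimension is hyperbolic. -/
theorem hyperbolic_of_two_step (hts : ∀ a ∈ mvS g, Q a = 0) (hle : mvS g ≤ fixS g)
    (hK : Module.finrank F (fixS g) ≤ Module.finrank F (mvS g) + 1 ∨
      (Module.finrank F (fixS g) ≤ Module.finrank F (mvS g) + 2 ∧
        ∃ p ∈ fixS g, p ∉ mvS g ∧ Q p = 0))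
    (hW : NDOn Q W) (hinv : ∀ x ∈ W, g.1 x ∈ W) {h : ℕ} (hd : Module.finrank F W = 2 * h) :
    SigOn Q W 1 := by
  have h1 := finrank_mv_add_fix hW hinv
  have h2 := finrank_inf_le_add (W := W) (mvS g) (fixS g) hle
  by_cases hk : h ≤ Module.finrank F ↥(W ⊓ mvS g)
  · exact sigOn_one_of_ts hW hd inf_le_left (fun t ht => hts t ht.2) hk
  rcases hK with hK | ⟨hK, p, hp, hpA, hp0⟩
  · omega
  have htop : W ⊓ fixS g ⊔ mvS g = fixS g := by
    refine Submodule.eq_of_le_of_finrank_le (sup_le inf_le_right hle) ?_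
    have e := Submodule.finrank_sup_add_finrank_inf_eq (W ⊓ fixS g) (mvS g)
    rw [inf_assoc, inf_eq_right.2 hle] at e
    omega
  rw [← htop] at hp
  obtain ⟨w, hw, a, ha, rfl⟩ := Submodule.mem_sup.1 hp
  have hwA : w ∉ mvS g := fun h => hpA ((mvS g).add_mem h ha)
  have hwa : polar Q w a = 0 := mem_perp.1 (mvS_le_perp g ha) w hw.2
  have hw0 : Q w = 0 := by rwa [form_add, hts a ha, hwa, add_zero, add_zero] at hp0
  refine sigOn_one_of_ts hW hd (T := W ⊓ mvS g ⊔ Submodule.span F {w})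
    (sup_le inf_le_left ((Submodule.span_singleton_le_iff_mem _ _).2 hw.1)) ?_ ?_
  · intro t ht
    obtain ⟨x, hx, z, hz, rfl⟩ := Submodule.mem_sup.1 ht
    obtain ⟨c, rfl⟩ := Submodule.mem_span_singleton.1 hz
    rw [form_add, hts x hx.2, form_smul, hw0, polar_smul_right, polar_comm,
      mem_perp.1 (mvS_le_perp g hx.2) w hw.2, smul_zero]
    ring
  · have hlt : W ⊓ mvS g < W ⊓ mvS g ⊔ Submodule.span F {w} := lt_of_le_of_ne le_sup_left fun e =>
      hwA ((e ▸ Submodule.mem_sup_right (Submodule.mem_span_singleton_self w) : w ∈ W ⊓ mvS g)).2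
    have := Submodule.finrank_lt_finrank_of_lt hlt
    omega

theorem finrank_mv_le_fix (W : Submodule F V) {D : ℕ}
    (hN2 : Module.finrank F ((mvS g).map (g.1.toLinearMap - LinearMap.id)) ≤ D) :
    Module.finrank F ↥(W ⊓ mvS g) ≤ Module.finrank F ↥(W ⊓ fixS g ⊓ mvS g) + D := by
  let T : ↥(W ⊓ mvS g) →ₗ[F] V :=
    (g.1.toLinearMap - LinearMap.id).comp (W ⊓ mvS g).subtype
  have h1 := LinearMap.finrank_range_add_finrank_ker T
  have h2 : Module.finrank F (LinearMap.range T) ≤ D := le_trans (Submodule.finrank_mono (by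
    rintro _ ⟨x, rfl⟩
    exact ⟨x, x.2.2, rfl⟩)) hN2
  have h3 : Module.finrank F (LinearMap.ker T) ≤ Module.finrank F ↥(W ⊓ fixS g ⊓ mvS g) := by
    rw [← Submodule.finrank_map_subtype_eq _ (LinearMap.ker T)]
    refine Submodule.finrank_mono ?_
    rintro _ ⟨x, hx, rfl⟩
    exact ⟨⟨x.2.1, hx⟩, x.2.2⟩
  omega

/-- Three steps: every invariant subspace of even dimension is hyperbolic. -/
theorem hyperbolic_of_three_step (hts : ∀ a ∈ fixS g, Q a = 0)
    (hN2 : Module.finrank F ((mvS g).map (g.1.toLinearMap - LinearMap.id)) ≤ 1)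
    (hW : NDOn Q W) (hinv : ∀ x ∈ W, g.1 x ∈ W) {h : ℕ} (hd : Module.finrank F W = 2 * h) :
    SigOn Q W 1 := by
  refine sigOn_one_of_ts hW hd (T := W ⊓ fixS g) inf_le_left (fun t ht => hts t ht.2) ?_
  have h1 := finrank_mv_add_fix hW hinv
  have h2 := finrank_mv_le_fix W hN2
  have h3 := Submodule.finrank_mono (inf_le_left : W ⊓ fixS g ⊓ mvS g ≤ W ⊓ fixS g)
  omega

/-- Two steps with no other fixed vectors: no invariant subspace of odd dimension. -/
theorem even_of_two_step_full (hts : ∀ a ∈ fixS g, Q a = 0)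
    (hmts : ∀ a ∈ mvS g, Q a = 0)
    (hW : NDOn Q W) (hinv : ∀ x ∈ W, g.1 x ∈ W) : Even (Module.finrank F W) := by
  have h1 := finrank_mv_add_fix hW hinv
  have h2 := two_mul_ts_le hW (T := W ⊓ fixS g) inf_le_left fun t ht => hts t ht.2
  have h3 := two_mul_ts_le hW (T := W ⊓ mvS g) inf_le_left fun t ht => hmts t ht.2
  exact ⟨Module.finrank F ↥(W ⊓ mvS g), by omega⟩

/-- Two steps and a plane: odd invariant subspaces have dimension `1 mod 4`. -/
theorem mod_four_of_two_step (hneg : ∀ y, g.1 y = -y → y = 0) (hts : ∀ a ∈ mvS g, Q a = 0)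
    (hle : mvS g ≤ fixS g)
    (hK : Module.finrank F (fixS g) ≤ Module.finrank F (mvS g) + 2)
    (hW : NDOn Q W) (hinv : ∀ x ∈ W, g.1 x ∈ W) {m : ℕ} (hd : Module.finrank F W = m) (hm : Odd m) :
    m % 4 = 1 := by
  have h1 := finrank_mv_add_fix hW hinv
  obtain ⟨R, hR⟩ := even_mv hW hinv hneg
  have h2 := finrank_inf_le_add (W := W) (mvS g) (fixS g) hle
  have h3 := two_mul_ts_le hW (T := W ⊓ mvS g) inf_le_left fun t ht => hts t ht.2
  rw [Nat.odd_iff] at hm
  omega

/-- Three steps: odd invariant subspaces have dimension `3 mod 4`. -/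
theorem mod_four_of_three_step (hneg : ∀ y, g.1 y = -y → y = 0) (hts : ∀ a ∈ fixS g, Q a = 0)
    (hN2 : Module.finrank F ((mvS g).map (g.1.toLinearMap - LinearMap.id)) ≤ 2)
    (hW : NDOn Q W) (hinv : ∀ x ∈ W, g.1 x ∈ W) {m : ℕ} (hd : Module.finrank F W = m) (hm : Odd m) :
    m % 4 = 3 := by
  have h1 := finrank_mv_add_fix hW hinv
  obtain ⟨R, hR⟩ := even_mv hW hinv hneg
  have h2 := finrank_mv_le_fix W hN2
  have h3 := two_mul_ts_le hW (T := W ⊓ fixS g) inf_le_left fun t ht => hts t ht.2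
  have h4 := Submodule.finrank_mono (inf_le_left : W ⊓ fixS g ⊓ mvS g ≤ W ⊓ fixS g)
  rw [Nat.odd_iff] at hm
  omega

/-- A block of size three and one of size one: the sign is forced. -/
theorem sign_of_three_one (h2 : (2 : F) ≠ 0) (hneg : ∀ y, g.1 y = -y → y = 0)
    (hts : ∀ a ∈ fixS g ⊓ mvS g, Q a = 0)
    (hK : Module.finrank F (fixS g) ≤ Module.finrank F ↥(fixS g ⊓ mvS g) + 1)
    (hN2 : Module.finrank F ((mvS g).map (g.1.toLinearMap - LinearMap.id)) ≤ 1) {e₁ e₂ : ℤ}
    (hv₁ : ∀ y ∈ mvS g, Q y ≠ 0 → chi (Q y) = e₁) (hv₂ : ∀ y ∈ fixS g, Q y ≠ 0 → chi (Q y) = e₂)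
    (hW : NDOn Q W) (hinv : ∀ x ∈ W, g.1 x ∈ W) {h : ℕ} (hd : Module.finrank F W = 2 * h + 1)
    {ε : ℤ} (hs : SigOn Q W ε) : (h % 2 = 1 ∧ ε = e₁) ∨ (h % 2 = 0 ∧ ε = e₂) := by
  have h1 := finrank_mv_add_fix hW hinv
  obtain ⟨R, hR⟩ := even_mv hW hinv hneg
  have h2' := finrank_mv_le_fix W hN2
  set T := W ⊓ fixS g ⊓ mvS g with hT
  have h3 := two_mul_ts_le hW (T := T) (inf_le_left.trans inf_le_left) fun t ht => hts t ⟨ht.1.2, ht.2⟩
  have h4 : Module.finrank F ↥(W ⊓ fixS g) ≤ Module.finrank F T + 1 := by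
    have e := finrank_inf_le_add (W := W) (fixS g ⊓ mvS g) (fixS g) inf_le_left
    rw [← inf_assoc, ← hT] at e
    omega
  have hperp : ∀ t ∈ T, ∀ y ∈ mvS g, polar Q t y = 0 := fun t ht y hy =>
    mem_perp.1 (mvS_le_perp g hy) t ht.1.2
  by_cases hc : h + 1 ≤ Module.finrank F ↥(W ⊓ mvS g)
  · obtain ⟨y, hy, hyT⟩ := SetLike.not_le_iff_exists.1 (fun hle : W ⊓ mvS g ≤ T => by
      have := Submodule.finrank_mono hle
      omega)
    obtain ⟨hy0, hys⟩ := sigOn_odd_of_ts h2 hW hd (T := T) (inf_le_left.trans inf_le_left)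
      (fun t ht => hts t ⟨ht.1.2, ht.2⟩) (by omega) hy.1 hyT (fun t ht => hperp t ht y hy.2)
    exact Or.inl ⟨by omega, (hs.unique hys).trans (hv₁ y hy.2 hy0)⟩
  · obtain ⟨y, hy, hyT⟩ := SetLike.not_le_iff_exists.1 (fun hle : W ⊓ fixS g ≤ T => by
      have := Submodule.finrank_mono hle
      omega)
    obtain ⟨hy0, hys⟩ := sigOn_odd_of_ts h2 hW hd (T := T) (inf_le_left.trans inf_le_left)
      (fun t ht => hts t ⟨ht.1.2, ht.2⟩) (by omega) hy.1 hyT
      (fun t ht => by rw [polar_comm]; exact mem_perp.1 (mvS_le_perp g ht.2) y hy.2)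
    exact Or.inr ⟨by omega, (hs.unique hys).trans (hv₂ y hy.2 hy0)⟩

end Cfsg.Agent.OrthFix
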